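import Cfsg.Agent.Spor.Fi24S
import Cfsg.Agent.Spor.Fi23Card

/-! Order of the presented group Fi24, `C(l) = H = ⟨l⟩ × R` with `R ≅ Fi23`, faithfulness of the representation of
degree 306936, simplicity of the commutator subgroup (helper23). -/

set_option Elab.async false
set_option maxRecDepth 100000
set_option exponentiation.threshold 100000

namespace Cfsg.Agent.Spor.Fi24M

open Equiv

/-- The words `x l`. -/
def ren : List (List ℕ) := [[0, 2], [0, 3], [0, 4], [0, 5], [0, 6], [0, 7], [0, 8], [0, 9], [0, 10], [0, 11]]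

theorem renG_eq {x : ℕ} (hx : x < 10) : renG g ren x = g (x + 2) * g 0 := by
  interval_cases x <;> simp [renG, ren, getL_eq_getD]

theorem l_eq : ev g (powW [2, 3, 4, 5, 6, 7, 10] 9) = g 0 := by
  have h := rel (0 :: (powW [2, 3, 4, 5, 6, 7, 10] 9).reverse) (by decide +kernel)
  rw [ev_cons, ev_reverse fun x hx => sq (lt_of_chkLet (nl := 12) (ws := [powW [2, 3, 4, 5, 6, 7, 10] 9])
    (by decide +kernel) _ List.mem_cons_self x hx)] at h
  exact inv_mul_eq_one.1 h

theorem rels23 : ∀ r ∈ JFi23a.rels, ev (renG g ren) r = 1 := by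
  intro r hr
  have h1 : ∀ r ∈ JFi23a.rels, (∀ x ∈ r, x < 10) ∧ ((r.length % 2 = 0 ∧ r.map (· + 2) ∈ sw :: JFi24a.rels) ∨
      (r.length % 2 = 1 ∧ r.map (· + 2) = powW [2, 3, 4, 5, 6, 7, 10] 9)) := by decide +kernel
  obtain ⟨h2, h3⟩ := h1 r hr
  rw [ev_congr (g' := fun x => g (x + 2) * g 0) fun x hx => renG_eq (h2 x hx),
    ev_mul_comm (g := fun x => g (x + 2)) fun x hx => cl (by have := h2 x hx; omega) (by omega),
    ← ev_map g (· + 2), ← Nat.div_add_mod r.length 2, pow_add, pow_mul, pow_two, sq (by decide), one_pow, one_mul]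
  rcases h3 with ⟨h3, h4⟩ | ⟨h3, h4⟩
  · rw [h3, pow_zero, mul_one]
    rcases List.mem_cons.1 h4 with h4 | h4
    · rw [h4, s_one]
    · exact hg _ h4
  · rw [h3, h4, l_eq, pow_one, sq (by decide)]

/-- The embedding `x ↦ x l` of Fi23. -/
noncomputable def ρ : Cfsg.Spor.Fi23 →* Cfsg.Spor.Fi24 := Fi23M.lt.toHom Fi23M.rp rels23

/-- The complement `R ≅ Fi23` of `l` in `H`. -/
noncomputable abbrev R : Subgroup Cfsg.Spor.Fi24 := genW g ren

theorem range_ρ : ρ.range = R := by
  rw [ρ, LtOk.range_toHom]; exact genL_renG g ren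

theorem mem_R {x : ℕ} (hx : x < 10) : g (x + 2) * g 0 ∈ R := by
  rw [← renG_eq hx]; exact getL_mem_genW g ren x

theorem ab_ne : g 2 * g 0 * (g 3 * g 0) ≠ g 3 * g 0 * (g 2 * g 0) := by
  intro h
  have h1 := rep.apply_of_chkPt (w := [0, 3, 0, 2]) (p := 306913) (q := 305289) (by decide) (by decide +kernel)
  have h2 := rep.apply_of_chkPt (w := [0, 2, 0, 3]) (p := 306913) (q := 305288) (by decide) (by decide +kernel)
  simp only [ev_cons, ev_nil, one_mul, mul_assoc] at h1 h2
  simp only [mul_assoc] at h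
  rw [h, h2] at h1
  exact absurd h1 (by decide)

theorem ρ_inj : Function.Injective ρ := by
  have := Fi23M.simple
  refine injective_of_simple ρ (x := Fi23M.g 0) fun h => ab_ne ?_
  rw [ρ, Fi23M.lt.toHom_letG Fi23M.rp rels23 (by decide), renG_eq (by decide)] at h
  rw [h, one_mul, mul_one]

/-- `Fi23 ≃* R`. -/
noncomputable def eqR : Cfsg.Spor.Fi23 ≃* R :=
  (MonoidHom.ofInjective ρ_inj).trans (MulEquiv.subgroupCongr range_ρ)

theorem simpleR : IsSimpleGroup R := have := Fi23M.simple; eqR.symm.isSimpleGroup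

theorem cardR : Nat.card R = 4089470473293004800 := by
  rw [← Fi23M.card]; exact Nat.card_congr eqR.toEquiv.symm

theorem rels_even : ∀ r ∈ JFi24a.rels, ev (fun _ => (-1 : ℤˣ)) r = 1 := fun r hr => by
  have h1 : ∀ r ∈ JFi24a.rels, r.length % 2 = 0 := by decide +kernel
  rw [ev_const, (Nat.even_iff.2 (h1 r hr)).neg_one_pow]

/-- The sign homomorphism. -/
noncomputable def ε : Cfsg.Spor.Fi24 →* ℤˣ := lt.toHom rp rels_even

theorem ε_g {x : ℕ} (hx : x < 12) : ε (g x) = -1 := lt.toHom_letG rp rels_even hx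

theorem R_le_ker : R ≤ ε.ker := genW_le fun w hw => by
  simp only [ren, List.mem_cons, List.not_mem_nil, or_false] at hw
  rcases hw with rfl | rfl | rfl | rfl | rfl | rfl | rfl | rfl | rfl | rfl <;>
    simp [MonoidHom.mem_ker, ε_g]

theorem l_notMem_ker : g 0 ∉ ε.ker := by
  rw [MonoidHom.mem_ker, ε_g (by decide)]; decide

theorem l_mem : g 0 ∈ H := by simpa using mem_genW g (ws := JFi24a.subs) (w := [0]) (by decide)

theorem g_mem {x : ℕ} (hx : x < 10) : g (x + 2) ∈ H := by
  have := mem_genW g (ws := JFi24a.subs) (w := [x + 2]) (by interval_cases x <;> decide)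
  simpa using this

theorem R_le : R ≤ H := by
  refine (genL_renG g ren).symm.le.trans (genL_le fun x hx => ?_)
  · skip
    have hx' : x < 10 := List.mem_range.1 hx
    rw [renG_eq hx']; exact H.mul_mem (g_mem hx') l_mem

theorem relIndexR : R.relIndex H = 2 := by
  refine relIndex_eq_two l_mem (fun h => l_notMem_ker (R_le_ker h)) (by rw [sq (by decide)]; exact R.one_mem)
    (fun r hr => by rw [mul_assoc, hl r (R_le hr), inv_mul_cancel_left]; exact hr) fun w hw => Or.inr ?_
  simp only [JFi24a.subs, List.mem_cons, List.not_mem_nil, or_false] at hw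
  rcases hw with rfl | rfl | rfl | rfl | rfl | rfl | rfl | rfl | rfl | rfl | rfl <;>
    simp only [ev_cons, ev_nil, one_mul]
  exacts [mem_R (x := 0) (by decide), mem_R (x := 1) (by decide), mem_R (x := 2) (by decide),
    mem_R (x := 3) (by decide), mem_R (x := 4) (by decide), mem_R (x := 5) (by decide), mem_R (x := 6) (by decide),
    mem_R (x := 8) (by decide), mem_R (x := 9) (by decide), mem_R (x := 7) (by decide),
    by rw [sq (by decide)]; exact R.one_mem]

theorem mem_R_or {a : Cfsg.Spor.Fi24} (ha : a ∈ H) : a ∈ R ∨ a * g 0 ∈ R := by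
  by_contra h
  rw [not_or] at h
  have h2 := (Subgroup.mul_mem_iff_of_index_two (H := R.subgroupOf H) relIndexR
    (a := ⟨a, ha⟩) (b := ⟨g 0, l_mem⟩)).2
  simp only [Subgroup.mem_subgroupOf] at h2
  exact h.2 (h2 ⟨fun h3 => absurd h3 h.1, fun h3 => absurd (R_le_ker h3) l_notMem_ker⟩)

theorem inf_ker : H ⊓ ε.ker = R := by
  refine le_antisymm (fun a ha => (mem_R_or ha.1).resolve_right fun h => l_notMem_ker ?_) (le_inf R_le R_le_ker)
  simpa using ε.ker.mul_mem (ε.ker.inv_mem ha.2) (R_le_ker h)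

theorem cardH : Nat.card H = 2 * 4089470473293004800 := by
  rw [← Subgroup.index_mul_card (R.subgroupOf H), ← cardR,
    Nat.card_congr (Subgroup.subgroupOfEquivOfLe R_le).toEquiv]
  exact congrArg (· * _) relIndexR

theorem card : Nat.card Cfsg.Spor.Fi24 = 2 * 1255205709190661721292800 := by
  rw [← H.index_mul_card, index, cardH]

theorem l_not_central : g 0 ∉ Subgroup.center Cfsg.Spor.Fi24 := fun h => by
  have h1 := Subgroup.mem_center_iff.1 h (g 1)
  have h2 := rep.apply_of_chkPt (w := [0, 1]) (p := 306912) (q := 305280) (by decide) (by decide +kernel)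
  have h3 := rep.apply_of_chkPt (w := [1, 0]) (p := 306912) (q := 305281) (by decide) (by decide +kernel)
  simp only [ev_cons, ev_nil, one_mul] at h2 h3
  rw [h1, h3] at h2
  exact absurd h2 (by decide)

theorem centralizer_l : Subgroup.centralizer {g 0} = H := by
  have hle : H ≤ Subgroup.centralizer {g 0} := fun k hk => Subgroup.mem_centralizer_singleton_iff.2 (hl k hk)
  rcases hle.eq_or_lt with e | e
  · exact e.symm
  · refine absurd (Subgroup.mem_center_iff.2 fun a => Subgroup.mem_centralizer_singleton_iff.1 ?_) l_not_central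
    rw [coatom.2 _ e]; trivial

theorem center_eq : Subgroup.center Cfsg.Spor.Fi24 = ⊥ := by
  have := simpleR
  rw [eq_bot_iff]
  intro m hm
  have hc := Subgroup.mem_center_iff.1 hm
  have hH : m ∈ H := centralizer_l ▸ Subgroup.mem_centralizer_singleton_iff.2 (hc _).symm
  rcases mem_R_or hH with h | h
  · exact eq_one_of_comm_simple (mem_R (x := 0) (by decide)) (mem_R (x := 1) (by decide)) ab_ne h fun a _ => hc a
  · have := eq_one_of_comm_simple (mem_R (x := 0) (by decide)) (mem_R (x := 1) (by decide)) ab_ne h fun a ha => by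
      rw [← mul_assoc, hc a, mul_assoc, hl a (R_le ha), mul_assoc]
    refine absurd ?_ l_not_central
    rw [eq_inv_of_mul_eq_one_right this]; exact Subgroup.inv_mem _ hm

/-- The twelve points form a base. -/
theorem eq_one_of_fix {c : Cfsg.Spor.Fi24} (h : ∀ x < 12, φ c (pts.getD x 0) = pts.getD x 0) : c = 1 := by
  have := central h
  rwa [center_eq] at this

theorem inj : Function.Injective φ := (injective_iff_map_eq_one φ).2 fun a ha => eq_one_of_fix fun _ _ => by
  rw [ha]; rfl

theorem index_ker : ε.ker.index = 2 := by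
  rw [Subgroup.index_ker, show ε.range = ⊤ from ?_]
  · simp
  · rw [eq_top_iff]
    intro u _
    rcases Int.units_eq_one_or u with rfl | rfl
    · exact Subgroup.one_mem _
    · exact ⟨g 0, ε_g (by decide)⟩

theorem mapR : R.map φ = genW (PP JFi24a.nets) ren := rep.map_genW (by decide +kernel)

theorem or0 : OrbSub (genW (PP JFi24a.nets) ren) 156704 A0 :=
  (orbSub_base _ _).run JFi24a.ok (prog := [0, 2, 4, 6, 8, 3, 2, 4, 8, 1, 2, 0, 5, 4, 6, 7, 6, 9, 3, 8, 2, 4, 5, 4, 6, 9, 3, 4, 2, 8, 1, 0, 2, 3, 2, 4, 8, 1, 0, 2, 3, 4, 8, 2, 9, 1, 5, 6, 7]) (by decide +kernel)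

theorem or1 : OrbSub (genW (PP JFi24a.nets) ren) 0 A1 :=
  (orbSub_base _ _).run JFi24a.ok (prog := [0, 2, 4, 6, 8, 1, 0, 2, 5, 4, 6, 7, 6, 3, 2, 4, 8, 9, 8, 5, 4, 6, 3, 4, 8, 2, 1, 0, 2, 5, 6, 3, 4, 2, 8, 9, 8, 1, 0, 5, 6, 3, 2, 4, 8, 5, 6, 7, 3, 6]) (by decide +kernel)

theorem orbR0 : IsOrb (R.map φ) (156704, A0, 31671) := by
  rw [mapR]; exact isOrb_of_chk JFi24a.ok or0 (by decide +kernel) (by decide +kernel) pop0

theorem orbR1 : IsOrb (R.map φ) (0, A1, 275264) := by
  rw [mapR]; exact isOrb_of_chk JFi24a.ok or1 (by decide +kernel) (by decide +kernel) pop1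

theorem trans_ker : Trans (φ.comp ε.ker.subtype) 306936 306912 := by
  refine ⟨trans.1, fun i hi => ?_⟩
  obtain ⟨a, ha⟩ := trans.2 i hi
  by_cases h : a ∈ ε.ker
  · exact ⟨⟨a, h⟩, ha⟩
  · refine ⟨⟨a * g 0, (Subgroup.mul_mem_iff_of_index_two index_ker).2 (iff_of_false h l_notMem_ker)⟩, ?_⟩
    show φ (a * g 0) 306912 = i
    rw [map_mul, Perm.mul_apply, (stab _).1 l_mem, ha]

theorem stab_ker : IsStab (φ.comp ε.ker.subtype) (R.subgroupOf ε.ker) 306912 := fun a => by
  rw [Subgroup.mem_subgroupOf, ← inf_ker, Subgroup.mem_inf, and_iff_left a.2]; exact stab a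

theorem simple_ker : IsSimpleGroup ε.ker := by
  have := simpleR
  have : IsSimpleGroup (R.subgroupOf ε.ker) := (Subgroup.subgroupOfEquivOfLe R_le_ker).isSimpleGroup
  have hm : (R.subgroupOf ε.ker).map (φ.comp ε.ker.subtype) = R.map φ := by
    rw [← Subgroup.map_map, Subgroup.map_subgroupOf_eq_of_le R_le_ker]
  have ho : ∀ o ∈ [(156704, A0, 31671), (0, A1, 275264)],
      IsOrb ((R.subgroupOf ε.ker).map (φ.comp ε.ker.subtype)) o := by
    simp only [List.forall_mem_cons, List.not_mem_nil, IsEmpty.forall_iff, implies_true, and_true, hm]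
    exact ⟨orbR0, orbR1⟩
  have hc : chkCover ((306912, Nat.shiftLeft 1 306912, 1) :: [(156704, A0, 31671), (0, A1, 275264)]) 306936 = true := by
    decide +kernel
  have hs := rep.supp.comp ε.ker.subtype
  exact hs.isSimpleGroup_of_stab stab_ker trans_ker (inj.comp Subtype.val_injective)
    (hs.isCoatom stab_ker trans_ker (by decide) ho hc (ns := [31671, 275264]) rfl (by decide +kernel)) ho hc
    {2, 3, 7} (by decide +kernel) (by decide)

theorem commutator_eq : commutator Cfsg.Spor.Fi24 = ε.ker := by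
  have := simple_ker
  have hle : commutator Cfsg.Spor.Fi24 ≤ ε.ker := Abelianization.commutator_subset_ker ε
  rcases IsSimpleGroup.eq_bot_or_eq_top_of_normal ((commutator Cfsg.Spor.Fi24).subgroupOf ε.ker) inferInstance
    with e | e
  · rw [Subgroup.subgroupOf_eq_bot, disjoint_iff, inf_eq_left.2 hle, commutator_eq_bot_iff_center_eq_top] at e
    exact absurd (e ▸ trivial) l_not_central
  · exact le_antisymm hle (Subgroup.subgroupOf_eq_top.1 e)

theorem index_commutator : (commutator Cfsg.Spor.Fi24).index = 2 := by rw [commutator_eq, index_ker]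

theorem simple' : IsSimpleGroup Cfsg.Spor.Fi24' :=
  have := simple_ker
  (MulEquiv.subgroupCongr commutator_eq).isSimpleGroup

theorem card' : Nat.card Cfsg.Spor.Fi24' = 1255205709190661721292800 :=
  card_of_index index_commutator card rfl (by decide)

end Cfsg.Agent.Spor.Fi24M
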