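import Cfsg.Agent.Spor.MdU62
import Cfsg.Agent.Spor.MatRep2
import Cfsg.Agent.S0280

/-! The model of U6(2) is `PSU 6 F4 2` (helper23). -/

set_option Elab.async false
set_option maxRecDepth 100000
set_option exponentiation.threshold 100000

namespace Cfsg.Agent.Spor.EqU62

open Equiv

def As : List (List ℕ) := [[1172543967232, 17596749517056, 18760703410193, 1172543963137, 17596749451536, 18760702361873, 1172527190017, 17596481081616, 17592454549776, 18691983933713, 73032339457, 4563472656],
  [17596750496000, 18760703479808, 17596750495745, 18760703475728, 1172542853393, 17596749447425, 1172526141713, 17596482060545, 17592455528705, 18691984003088, 73031291153, 4564451585],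
  [1, 16, 256, 4096, 4294967296, 68719476736, 16777216, 268435456, 65536, 1048576, 1099511627776, 17592186044416],
  [18760703475968, 1172542918656, 18760703475713, 1172542914576, 1172542853136, 17596749451537, 1172526141456, 17596482064657, 17592455532817, 18691983999233, 73031290896, 4564455697],
  [1168248934400, 17665470042368, 18696277917713, 1168248930305, 18696277852433, 1168247885825, 1168232157185, 17665201606928, 18691982950673, 1099529457665, 68737306625, 73283997968],
  [18764998447104, 1103823442176, 17661175005201, 18764998443009, 1103823376656, 17661173956881, 1103806664976, 17660906570001, 1099528474896, 17592455528721, 4311814416, 68988961041],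
  [1172812398848, 17596497858560, 1172812398593, 17596497854480, 17596497793040, 18760685588753, 17596481081360, 18760418201873, 17592202891280, 18691967160593, 73300771073, 4311814160],
  [68720529408, 73015562496, 4295032849, 68720525313, 4294967569, 68719480833, 16777216, 268435456, 65809, 1052673, 1099511627776, 17592186044416],
  [16, 17, 4096, 4352, 1048576, 1114112, 268435456, 285212672, 68719476736, 73014444032, 17592186044416, 18691697672192]]

theorem mr : MatRep (dec4 4 (Equiv.refl (Fin 6)) As) 4 15 2 (6 * 2) As 9 (phi4 (Equiv.refl (Fin 6))) :=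
  matRep_dec4 _ (by decide +kernel) (by decide +kernel) 9

theorem hA : ∀ x < 9, Matrix.transpose (dec4 4 (Equiv.refl (Fin 6)) As x) *
    (dec4 4 (Equiv.refl (Fin 6)) As x).map F4.frob = 1 := by decide +kernel

theorem equiv : Nonempty (MdU62.G ≃* Cfsg.PSU 6 F4 2) := by
  have h2 := mr.ev_eq_one (ws := [[0, 0], [1, 1], [2, 2], [3, 3], [4, 4], [5, 5], [6, 6], [7, 7]]) (by decide +kernel) (by decide +kernel)
  have hz : dec4 4 (Equiv.refl (Fin 6)) As 8 = Matrix.scalar _ F4.ω := by decide +kernel
  have hd : ∀ x < 9, (dec4 4 (Equiv.refl (Fin 6)) As x).det = 1 := fun x hx => by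
    rcases Nat.lt_succ_iff_lt_or_eq.1 hx with hx | rfl
    · exact F4.det_eq_one_of_sq (by simpa using h2 [x, x] (by interval_cases x <;> decide))
    · rw [hz, Matrix.scalar_apply, Matrix.det_diagonal]; decide +kernel
  have hx : ∀ x < 9, ∃ c, ((Cfsg.slToMat 6 F4).comp (Cfsg.SU 6 F4 2).subtype) c =
      dec4 4 (Equiv.refl (Fin 6)) As x := fun x hx =>
    ⟨⟨⟨_, hd x hx⟩, herm_of_mul F4.frob F4.frob_apply (hA x hx)⟩, rfl⟩
  have hi : Function.Injective ((Cfsg.slToMat 6 F4).comp (Cfsg.SU 6 F4 2).subtype) :=
    Subtype.val_injective.comp Subtype.val_injective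
  have m2 := mr.lift _ hi hx
  have h3 := S0280.result (F := F4) (q := 2) rfl 6 (by decide)
  refine MdU62.model.equiv_quot_center (liftG_255 _ _ (by decide)) (fun r hr => Subgroup.zpowers_le.2
    (center_of_scalar _ hi ((map_liftG (by decide) (hx 8 (by decide))).trans hz))
    (mem_zpowers_of_pairs (ks := [0, 0, 0, 0, 0, 0, 0, 0, 0, 0, 0, 0, 0, 0, 0, 0, 0, 0, 0, 0, 0, 0, 0, 0, 0, 0, 0, 0, 0, 0, 0, 0, 0, 0, 0, 0, 0, 0, 1, 0, 0]) rfl (m2.ev_eq (by decide +kernel) (by decide +kernel)) r hr))
    (x := 0) (y := 1) (by decide) (m2.ne (by decide) 0 0 (by decide +kernel)) ?_ (by decide)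
  exact Nat.eq_of_mul_eq_mul_left (by decide : 0 < 3) (Nat.eq_of_mul_eq_mul_left (by decide : 0 < 3)
    (h3.trans (by decide +kernel)))

end Cfsg.Agent.Spor.EqU62
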