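import Cfsg.Agent.Spor.Cent
import Cfsg.Agent.Comp.ES

/-! Lists of equations between words; normal subgroups, quotients and extraspecial subgroups from them (helper23). -/

namespace Cfsg.Agent.Spor.Ct

open Equiv

/-- The equations `E` hold. -/
def Eqs {A : Type*} [Group A] (a : ℕ → A) (E : List (List ℕ × List ℕ)) : Prop := ∀ e ∈ E, ev a e.1 = ev a e.2

def sub (xs w : List ℕ) : Bool := w.all fun x => xs.contains x

def chkIn (E : List (List ℕ × List ℕ)) (xs : List ℕ) (ws : List (List ℕ)) : Bool :=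
  ws.all fun w => sub xs w || E.any fun e => e.1 == w && sub xs e.2

def chkNm (E : List (List ℕ × List ℕ)) (gs qs : List ℕ) : Bool :=
  gs.all fun g => qs.contains g || qs.all fun q => E.any fun e => e.1 == [q, g] && e.2.head? == some g && sub qs e.2.tail

def flt (xs : List ℕ) (E : List (List ℕ × List ℕ)) : List (List ℕ × List ℕ) := E.filter fun e => sub xs (e.1 ++ e.2)

section
variable {A : Type} [Group A] {a : ℕ → A} {E E' : List (List ℕ × List ℕ)}

theorem Eqs.append (h : Eqs a E) (h' : Eqs a E') : Eqs a (E ++ E') := List.forall_mem_append.2 ⟨h, h'⟩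

theorem ev_mem_sub {xs w : List ℕ} (h : sub xs w = true) : ev a w ∈ genL a xs :=
  ev_mem _ _ fun x hx => mem_genL _ (List.contains_iff_mem.1 (List.all_eq_true.1 h x hx))

theorem Eqs.mem (h : Eqs a E) {xs : List ℕ} {ws : List (List ℕ)} (hc : chkIn E xs ws = true) :
    ∀ w ∈ ws, ev a w ∈ genL a xs := fun w hw => by
  have := List.all_eq_true.1 hc w hw
  simp only [Bool.or_eq_true, List.any_eq_true, Bool.and_eq_true, beq_iff_eq] at this
  rcases this with h1 | ⟨e, he, rfl, h1⟩
  · exact ev_mem_sub h1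
  · exact h e he ▸ ev_mem_sub h1

theorem Eqs.le (h : Eqs a E) {xs ys : List ℕ} (hc : chkIn E xs (sing ys) = true) : genL a ys ≤ genL a xs :=
  (genW_sing a ys).ge.trans (genW_le (h.mem hc))

theorem Eqs.eq (h : Eqs a E) (u v : List ℕ) (hc : E.contains (u, v) = true) : ev a u = ev a v :=
  h _ (List.contains_iff_mem.1 hc)

theorem Eqs.comm (h : Eqs a E) {z : ℕ} {xs : List ℕ} (hc : (xs.all fun x => x == z || E.contains ([x, z], [z, x])) = true) :
    genL a xs ≤ Subgroup.centralizer {a z} := genL_le fun x hx => Subgroup.mem_centralizer_singleton_iff.2 (by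
  have := List.all_eq_true.1 hc x hx
  rw [Bool.or_eq_true, beq_iff_eq] at this
  rcases this with rfl | h1
  · rfl
  · simpa using (h.eq _ _ h1).symm)

theorem Eqs.normal [Finite A] (h : Eqs a E) {gs qs : List ℕ} (top : genL a gs = ⊤) (hc : chkNm E gs qs = true) :
    (genL a qs).Normal := by
  rw [← Subgroup.normalizer_eq_top_iff, eq_top_iff, ← top]
  refine genL_le fun g hg => ?_
  have := List.all_eq_true.1 hc g hg
  simp only [Bool.or_eq_true, List.contains_iff_mem, List.all_eq_true, List.any_eq_true, Bool.and_eq_true,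
    beq_iff_eq] at this
  rcases this with h1 | h1
  · exact Subgroup.le_normalizer (mem_genL _ h1)
  refine Subgroup.mem_normalizer_fintype fun n hn => ?_
  refine genL_le (H := (genL a qs).comap (MulAut.conj (a g)).toMonoidHom) (fun q hq => ?_) hn
  obtain ⟨e, he, ⟨h2, h3⟩, h4⟩ := h1 q hq
  have h5 := h e he
  rw [h2, ← List.cons_head?_tail h3, ev_two, ev_cons, ← mul_inv_eq_iff_eq_mul] at h5
  exact (show a g * a q * (a g)⁻¹ ∈ _ from h5 ▸ ev_mem_sub h4)

theorem Eqs.sub {H : Subgroup A} (h : Eqs a E) {xs : List ℕ} (hx : genL a xs ≤ H) : Eqs (subG H a) (flt xs E) := by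
  intro e he
  rw [flt, List.mem_filter, Ct.sub, List.all_append, Bool.and_eq_true] at he
  have k : ∀ w : List ℕ, (w.all fun x => xs.contains x) = true → ∀ x ∈ w, a x ∈ H := fun w hw x h =>
    hx (mem_genL _ (List.contains_iff_mem.1 (List.all_eq_true.1 hw x h)))
  exact Subtype.ext (by rw [coe_ev_subG (k _ he.2.1), coe_ev_subG (k _ he.2.2), h e he.1])

theorem genL_subG {H : Subgroup A} {xs : List ℕ} (hx : genL a xs ≤ H) : genL (subG H a) xs = (genL a xs).subgroupOf H := by
  refine Subgroup.map_injective H.subtype_injective ?_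
  rw [Subgroup.subgroupOf_map_subtype, inf_eq_left.2 hx, map_genL']
  exact le_antisymm (genL_le fun x h => by rw [Subgroup.subtype_apply, coe_subG (hx (mem_genL _ h))]; exact mem_genL _ h)
    (genL_le fun x h => by
      rw [← coe_subG (hx (mem_genL _ h))]; exact mem_genL (fun x => H.subtype (subG H a x)) h)

theorem subG_top {H : Subgroup A} {xs : List ℕ} (hx : H = genL a xs) : genL (subG H a) xs = ⊤ := by
  rw [genL_subG hx.ge, ← hx, Subgroup.subgroupOf_self]

theorem quot_core {U : Type} [Group U] [IsSimpleGroup U] (N : Subgroup A) [N.Normal] {qs : List ℕ}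
    {xs : List ℕ} (hN : genL a qs ≤ N) (top : genL a (qs ++ xs) = ⊤) (f : U →* A ⧸ N)
    (hf : ∀ x ∈ xs, (a x : A ⧸ N) ∈ f.range) (hne : N ≠ ⊤) : Nonempty (A ⧸ N ≃* U) := by
  have hs : Function.Surjective f := by
    intro b
    obtain ⟨c, rfl⟩ := QuotientGroup.mk'_surjective N b
    refine genL_le (H := f.range.comap (QuotientGroup.mk' N)) (fun x hx => ?_) (top.ge (Subgroup.mem_top c))
    rcases List.mem_append.1 hx with hx | hx
    · exact ⟨1, by rw [map_one, eq_comm]; exact (QuotientGroup.eq_one_iff _).2 (hN (mem_genL _ hx))⟩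
    · exact hf x hx
  obtain ⟨c, hc⟩ : ∃ c, c ∉ N := by by_contra! h; exact hne (eq_top_iff.2 fun c _ => h c)
  obtain ⟨u, hu⟩ := hs c
  exact ⟨(MulEquiv.ofBijective f ⟨injective_of_simple f (x := u) fun e =>
    hc ((QuotientGroup.eq_one_iff _).1 (hu ▸ e)), hs⟩).symm⟩

theorem Eqs.quot_rels (h : Eqs a E) (N : Subgroup A) [N.Normal] {qs xs : List ℕ} (hN : genL a qs ≤ N)
    {rels : List (List ℕ)} (hc : chkIn E qs (rels.map (renW (sing xs))) = true) :
    ∀ r ∈ rels, ev (fun i => ((renG a (sing xs) i : A) : A ⧸ N)) r = 1 := fun r hr => by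
  have := map_ev (QuotientGroup.mk' N) (renG a (sing xs)) r
  rw [ev_renG] at this
  exact this.symm.trans ((QuotientGroup.eq_one_iff _).2 (hN (h.mem hc _ (List.mem_map_of_mem hr))))

theorem renG_sing {xs : List ℕ} {x : ℕ} (hx : x ∈ xs) : ∃ i < xs.length, renG a (sing xs) i = a x := by
  obtain ⟨i, hi, rfl⟩ := List.getElem_of_mem hx
  exact ⟨i, hi, by rw [renG, getL_eq_getD, List.getD_eq_getElem _ _ (by simpa [sing] using hi)]; simp [sing]⟩

theorem Eqs.quot_lifts {U : Type} [Group U] [IsSimpleGroup U] {u : ℕ → U} {rels : List (List ℕ)} (h : Eqs a E)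
    (N : Subgroup A) [N.Normal] {qs xs : List ℕ} (L : Known.Lifts u xs.length rels) (hN : genL a qs ≤ N)
    (top : genL a (qs ++ xs) = ⊤) (hc : chkIn E qs (rels.map (renW (sing xs))) = true) (hne : N ≠ ⊤) :
    Nonempty (A ⧸ N ≃* U) := by
  obtain ⟨f, hf⟩ := L _ _ (h.quot_rels N hN hc)
  refine quot_core N hN top f (fun x hx => ?_) hne
  obtain ⟨i, hi, e⟩ := renG_sing (a := a) hx
  exact ⟨u i, by rw [hf i hi, e]⟩

theorem Eqs.quot_alt (h : Eqs a E) (N : Subgroup A) [N.Normal] {qs xs : List ℕ} (hn : 3 ≤ xs.length)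
    (hN : genL a qs ≤ N) (top : genL a (qs ++ xs) = ⊤)
    (hc : chkIn E qs ((carmRels xs.length).map (renW (sing xs))) = true) (hne : N ≠ ⊤) :
    Nonempty (A ⧸ N ≃* alternatingGroup (Fin (xs.length + 2))) := by
  obtain ⟨f, hf, -⟩ := carm_hom (h.quot_rels N hN hc)
  have := alternatingGroup.isSimpleGroup (α := Fin (xs.length + 2)) (by simpa using hn)
  refine quot_core N hN top f (fun x hx => ?_) hne
  obtain ⟨i, hi, e⟩ := renG_sing (a := a) hx
  rw [hf, ← e]
  exact mem_genL (fun i => ((renG a (sing xs) i : A) : A ⧸ N)) (List.mem_range.2 hi)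

theorem ne_top_of_card {N : Subgroup A} {n k : ℕ} (hc : Nat.card N = n) {x : A} (hx : x ^ k = 1) (h1 : x ≠ 1)
    (h : k.Coprime n) : N ≠ ⊤ := fun e => h1 (by
  rw [e, Subgroup.card_top] at hc
  exact orderOf_eq_one_iff.1 (Nat.eq_one_of_dvd_coprimes h (orderOf_dvd_of_pow_eq_one hx) (hc ▸ orderOf_dvd_natCard x)))

theorem Eqs.pow (h : Eqs a E) (x k : ℕ) (hc : E.contains (List.replicate k x, []) = true) : a x ^ k = 1 := by
  have := h.eq _ _ hc
  rwa [ev_congr (g' := fun _ => a x) (fun z hz => by rw [List.eq_of_mem_replicate hz]), ev_const,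
    List.length_replicate] at this

theorem subG_ne {H : Subgroup A} {x : ℕ} (h : a x ∈ H) (h1 : a x ≠ 1) : subG H a x ≠ 1 :=
  fun e => h1 (by rw [← coe_subG h, e]; rfl)

theorem card_le_pow {H ι : Type*} [Group H] [Finite H] [Fintype ι] {g : ι → H} {p : ℕ} (hp : 0 < p)
    (hc : ∀ i j, Commute (g i) (g j)) (h2 : ∀ i, g i ^ p = 1) (top : Subgroup.closure (Set.range g) = ⊤) :
    Nat.card H ≤ p ^ Fintype.card ι := by
  classical
  have hcm : Pairwise fun i j => ∀ x y : H, x ∈ Subgroup.zpowers (g i) → y ∈ Subgroup.zpowers (g j) → Commute x y := by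
    rintro i j - _ _ ⟨m, rfl⟩ ⟨n, rfl⟩; exact (hc i j).zpow_zpow m n
  have hs : Function.Surjective (Subgroup.noncommPiCoprod hcm) := by
    rw [← MonoidHom.range_eq_top, Subgroup.noncommPiCoprod_range, eq_top_iff, ← top, Subgroup.closure_le]
    rintro _ ⟨i, rfl⟩
    exact le_iSup (fun i => Subgroup.zpowers (g i)) i (Subgroup.mem_zpowers _)
  refine (Nat.card_le_card_of_surjective _ hs).trans ?_
  rw [Nat.card_pi, ← Finset.card_univ]
  exact Finset.prod_le_pow_card _ _ _ fun i _ => by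
    rw [Nat.card_zpowers]; exact orderOf_le_of_pow_eq_one hp (h2 i)

def chkES (E : List (List ℕ × List ℕ)) (z : ℕ) (es : List ℕ) : Bool :=
  E.contains ([z, z], []) && (List.range es.length).all fun i => (fun x => E.contains ([x, z], [z, x]) &&
    (E.contains ([x, x], []) || E.contains ([x, x], [z])) && (List.range i).all fun j => (fun y =>
      E.contains ([x, y], if j / 2 = i / 2 then [y, x, z] else [y, x])) (es.getD j 0)) (es.getD i 0)

open scoped commutatorElement in
theorem Eqs.es [Finite A] (h : Eqs a E) {z m : ℕ} {es : List ℕ} (top : genL a (z :: es) = ⊤)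
    (hm : es.length = 2 * (m + 1)) (hc : chkES E z es = true) (hz : a z ≠ 1) :
    IsExtraspecial 2 A ∧ Nat.card A = 2 ^ (2 * (m + 1) + 1) := by
  simp only [chkES, Bool.and_eq_true, List.all_eq_true, List.mem_range, Bool.or_eq_true] at hc
  have := Fact.mk Nat.prime_two
  let g : Fin es.length → A := fun i => a (es.getD i 0)
  have ho : orderOf (a z) = 2 := orderOf_eq_prime (by simpa [pow_two] using h.eq _ _ hc.1) hz
  have c1 : ∀ i, Commute (g i) (a z) := fun i => by
    have := (h.eq _ _ (hc.2 i i.2).1.1).symm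
    rwa [ev_two, ev_two] at this
  have c2 : ∀ i, g i ^ 2 ∈ Subgroup.zpowers (a z) := fun i => by
    rcases (hc.2 i i.2).1.2 with e | e
    · have := h.eq _ _ e
      rw [ev_two, ev_nil] at this
      rw [pow_two, this]; exact one_mem _
    · have := h.eq _ _ e
      rw [ev_two, ev_one] at this
      rw [pow_two, this]; exact Subgroup.mem_zpowers _
  have c3 : ∀ i j : Fin es.length, j.1 < i → ⁅g j, g i⁆ = if j.1 / 2 = i / 2 then a z else 1 := fun i j hj => by
    have := h.eq _ _ ((hc.2 i i.2).2 j hj)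
    rw [commutatorElement_def, mul_inv_eq_iff_eq_mul, mul_inv_eq_iff_eq_mul]
    split_ifs at this ⊢ <;> simpa [mul_assoc, g] using this
  have hzi : (a z)⁻¹ = a z := inv_eq_of_mul_eq_one_right (by rw [← pow_two, ← ho, pow_orderOf_eq_one])
  have c4 : ∀ i j : Fin es.length, ⁅g j, g i⁆ = if j.1 / 2 = i / 2 ∧ j ≠ i then a z else 1 := fun i j => by
    rcases lt_trichotomy j.1 i with e | e | e
    · rw [c3 i j e]; simp [Fin.ne_of_val_ne e.ne]
    · rw [Fin.ext e]; simp
    · rw [← commutatorElement_inv, c3 j i e]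
      by_cases e' : i.1 / 2 = j / 2 <;> simp [e', Fin.ne_of_val_ne e.ne', hzi, eq_comm (a := j.1 / 2)]
  have c5 : ∀ i j, ⁅g i, g j⁆ ∈ Subgroup.zpowers (a z) := fun i j => by
    rw [c4]; split_ifs; exacts [Subgroup.mem_zpowers _, one_mem _]
  have c6 : ∀ j, ∃ i, ⁅g i, g j⁆ ≠ 1 ∧ ∀ k ≠ j, ⁅g i, g k⁆ = 1 := fun j => by
    refine ⟨⟨if j.1 % 2 = 0 then j + 1 else j - 1, by have := j.2; split_ifs <;> omega⟩, ?_, fun k hk => ?_⟩
    · rw [c4, if_pos ⟨by dsimp only; split_ifs <;> omega, Fin.ne_of_val_ne (by dsimp only; split_ifs <;> omega)⟩]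
      exact hz
    · rw [c4, if_neg]
      rintro ⟨e1, e2⟩
      have e3 := Fin.val_ne_of_ne e2
      have e4 := Fin.val_ne_of_ne hk
      dsimp only at e1 e3
      split_ifs at e1 e3 <;> omega
  have t2 : Subgroup.closure (Set.range fun o : Option (Fin es.length) => o.elim (a z) g) = ⊤ := by
    rw [eq_top_iff, ← top]
    refine genL_le fun x hx => Subgroup.subset_closure ?_
    rcases List.mem_cons.1 hx with rfl | hx
    · exact ⟨none, rfl⟩
    · obtain ⟨i, hi, rfl⟩ := List.getElem_of_mem hx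
      exact ⟨some ⟨i, hi⟩, by simp [g]⟩
  have hE : PGrp.IsES 2 (a z) := Comp.isES_closure t2 ho (by rintro (_ | i); exacts [rfl, c1 i])
    (by
      rintro (_ | i) (_ | j)
      · simp
      · exact commutatorElement_eq_one_iff_commute.2 (c1 j).symm ▸ one_mem _
      · exact commutatorElement_eq_one_iff_commute.2 (c1 i) ▸ one_mem _
      · exact c5 i j) (by rintro (_ | i); exacts [pow_mem (Subgroup.mem_zpowers _) 2, c2 i])
  have hn : (Subgroup.zpowers (a z)).Normal := PGrp.normal_of_le_center hE.le_center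
  have hcard : Nat.card A = 2 ^ (Fintype.card (Fin es.length) + 1) := by
    obtain ⟨K, k1, k2⟩ := Comp.exists_ker_ES hE c6
    refine le_antisymm ?_ (by
      rw [← k2, pow_succ]; exact Nat.mul_le_mul_left _ (hE.card_zpowers ▸ Subgroup.card_le_of_le (hE.le_center.trans k1)))
    rw [← (Subgroup.zpowers (a z)).index_mul_card, hE.card_zpowers, pow_succ]
    refine Nat.mul_le_mul_right _ (card_le_pow (g := fun i => QuotientGroup.mk' _ (g i)) two_pos (fun i j => ?_)
      (fun i => ?_) ?_)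
    · rw [← commutatorElement_eq_one_iff_commute, ← map_commutatorElement]; exact (QuotientGroup.eq_one_iff _).2 (c5 i j)
    · rw [← map_pow]; exact (QuotientGroup.eq_one_iff _).2 (c2 i)
    · rw [eq_top_iff, ← Subgroup.map_top_of_surjective _ (QuotientGroup.mk'_surjective _), ← t2, MonoidHom.map_closure,
        Subgroup.closure_le]
      rintro _ ⟨_, ⟨_ | i, rfl⟩, rfl⟩
      · have e : QuotientGroup.mk' (Subgroup.zpowers (a z)) (a z) = 1 :=
          (QuotientGroup.eq_one_iff _).2 (Subgroup.mem_zpowers _)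
        exact e.symm ▸ one_mem _
      · exact Subgroup.subset_closure ⟨i, rfl⟩
  have : Nonempty (Fin es.length) := ⟨⟨0, by omega⟩⟩
  exact ⟨(Comp.ES_of_symp ho c1 c5 c2 c6 hcard).1, by rw [hcard, Fintype.card_fin, hm]⟩

end

section
variable {G K : Type} [Group G] [Group K] {ι : K →* G} {y : ℕ → K} {T : G} {φ : K →* Perm ℕ} {N tl : ℕ}
  {act : ℕ → ℕ → ℕ} {B : List ℕ} {W1 W2 : List (List ℕ)} {E : List (List ℕ × List ℕ)}

def xp (W1 W2 : List (List ℕ)) (w : List ℕ) : List ℕ := renW W1 (renW W2 w)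

theorem ev_xp (g : ℕ → G) (w : List ℕ) : ev (renG (renG g W1) W2) w = ev g (xp W1 W2 w) := by rw [ev_renG, ev_renG]; rfl

theorem eqs_def {g : ℕ → G} (hc : (E.all fun e => xp W1 W2 e.1 == xp W1 W2 e.2) = true) :
    Eqs (renG (renG g W1) W2) E := fun e he => by
  rw [ev_xp, ev_xp, beq_iff_eq.1 (List.all_eq_true.1 hc e he)]

theorem ev_K {w : List ℕ} (h : allL w (fun x => Nat.blt x tl) = true) : ev (Dce.gD ι y T tl) w = ι (ev y w) :=
  Dce.ev_gD fun x hx => (Dce.blt_spec (allL_spec h x hx)).ne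

theorem let_K {x : ℕ} (w : List ℕ) (hc : andB (xp W1 W2 [x] == w) (allL w fun x => Nat.blt x tl) = true) :
    renG (renG (Dce.gD ι y T tl) W1) W2 x = ι (ev y w) := by
  rw [andB_eq_true, beq_iff_eq] at hc
  rw [← ev_one (renG _ W2), ev_xp, hc.1, ev_K hc.2]

theorem eqs_K (h : PtAct φ N B y act) (hB : ∀ b ∈ B, b < N) (hc : allL E (fun e =>
      andB (allL (xp W1 W2 e.1) fun x => Nat.blt x tl) (andB (allL (xp W1 W2 e.2) fun x => Nat.blt x tl)
        (keyW act B (xp W1 W2 e.1) == keyW act B (xp W1 W2 e.2)))) = true) :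
    Eqs (renG (renG (Dce.gD ι y T tl) W1) W2) E := fun e he => by
  have := allL_spec hc e he
  simp only [andB_eq_true, beq_iff_eq] at this
  rw [ev_xp, ev_xp, ev_K this.1, ev_K this.2.1,
    eq_of_key h ((List.map_congr_left fun b hb => h.run _ b (hB b hb)).trans this.2.2)]

theorem genW_le_of_keys (h : PtAct φ N B y act) (hB : ∀ b ∈ B, b < N) {H : Subgroup K} {fs : List (List ℕ)}
    (hF : ∀ x, renG y fs x ∈ H) {ws : List (List ℕ)} (cs : List (List ℕ)) (hc : allN ws.length (fun j =>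
      keyW act B (getL ws [] j) == keyW act B (renW fs (getL cs [] j))) = true) : genW y ws ≤ H := by
  refine genW_le fun w hw => ?_
  obtain ⟨j, hj, rfl⟩ := List.getElem_of_mem hw
  have := beq_iff_eq.1 (allN_spec hc j hj)
  rw [getL_eq_getD, List.getD_eq_getElem _ _ hj] at this
  rw [eq_of_key h ((List.map_congr_left fun b hb => h.run _ b (hB b hb)).trans this), ← ev_renG]
  exact ev_mem _ _ fun x _ => hF x

theorem comm_of_keys (h : PtAct φ N B y act) (hB : ∀ b ∈ B, b < N) {ws : List (List ℕ)} {tw : List ℕ}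
    (hc : allL ws (fun w => keyW act B (tw ++ w) == keyW act B (w ++ tw)) = true) :
    ∀ c ∈ genW y ws, c * ev y tw = ev y tw * c := comm_of_genW fun w hw => by
  rw [← ev_append, ← ev_append]
  exact eq_of_key h ((List.map_congr_left fun b hb => h.run _ b (hB b hb)).trans (beq_iff_eq.1 (allL_spec hc w hw)))

theorem ne_of_keys (h : PtAct φ N B y act) (hB : ∀ b ∈ B, b < N) {u v : List ℕ}
    (hc : (keyW act B u == keyW act B v) = false) : ev y u ≠ ev y v := fun e => by
  have k : ∀ w, keyW act B w = B.map (φ (ev y w)) := fun w => List.map_congr_left fun b hb => (h.run _ b (hB b hb)).symm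
  rw [k, k, e] at hc
  simp at hc

theorem let_ne (h : PtAct φ N B y act) (hB : ∀ b ∈ B, b < N) (inj : Function.Injective ι) {x : ℕ}
    (hc : andB (allL (xp W1 W2 [x]) fun x => Nat.blt x tl) (!(keyW act B (xp W1 W2 [x]) == keyW act B [])) = true) :
    renG (renG (Dce.gD ι y T tl) W1) W2 x ≠ 1 := fun e => by
  rw [andB_eq_true, Bool.not_eq_true'] at hc
  rw [← ev_one (renG _ W2), ev_xp, ev_K hc.1, ← ι.map_one] at e
  exact ne_of_keys h hB hc.2 (inj e)

theorem ncomm_of_keys (h : PtAct φ N B y act) (hB : ∀ b ∈ B, b < N) {u tw : List ℕ}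
    (hc : (keyW act B (tw ++ u) == keyW act B (u ++ tw)) = false) : ev y u * ev y tw ≠ ev y tw * ev y u := by
  rw [← ev_append, ← ev_append]; exact ne_of_keys h hB hc

theorem permRep_ren {g : ℕ → K} {nets : List Net} {nl : ℕ} (R : PermRep g nets N nl φ) (defs more : List (List ℕ)) :
    PermRep (renG g ((sing (List.range nl) ++ defs) ++ more)) nets N nl φ :=
  R.congr fun _ hx => (renG_append _ _ (by simp [sing]; omega)).trans (renG_ext_left _ _ hx)

def ow : List Ex → List ℕ
  | [] => []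
  | e :: _ => e.w

noncomputable def evO (D : BP) (As : List ℕ) (o : List Ex) : ℕ := List.rec (D.idB D.K) (fun e _ _ => D.evE As e) o

theorem eqs_M {D : BP} {ρ : G →* (Matrix (Fin D.K) (Fin D.K) (ZMod D.p))ˣ} {As : List ℕ} {n : ℕ} {Y : ℕ → G}
    (h : MAct D ρ As n Y) {es : List (Ex × List Ex)}
    (hl : chkLet (List.range n) (es.map fun e => e.1.w ++ ow e.2) = true)
    (hc : allL es (fun e => Nat.beq (D.evE As e.1) (evO D As e.2)) = true) : Eqs Y (es.map fun e => (e.1.w, ow e.2)) := by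
  refine List.forall_mem_map.2 fun e he => h.inj (Units.ext ?_)
  have h1 := lt_of_chkLet hl _ (List.mem_map_of_mem he)
  rw [h.map fun x hx => h1 x (List.mem_append_left _ hx), h.map fun x hx => h1 x (List.mem_append_right _ hx),
    ← (h.ok.evE _).2, Nat.eq_of_beq_eq_true (allL_spec hc e he)]
  rcases e.2 with _ | ⟨f, _⟩
  exacts [BP.bM_idB h.ok.ok, (h.ok.evE f).2]

variable (h : Eqs (renG (renG (Dce.gD ι y T tl) W1) W2) E) (inj : Function.Injective ι)
include h

theorem Eqs.h0 {cs : List (List ℕ)} {ms : List ℕ} {t : K} (hC : ∀ k ∈ (⊤ : Subgroup K), k * t = t * k → k ∈ genW y cs)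
    (ws : List (List ℕ)) (hc : (ws.map (xp W1 W2) == cs && chkLet (List.range tl) cs && chkIn E ms ws) = true) (c : K)
    (e : c * t = t * c) : ι c ∈ genL (renG (renG (Dce.gD ι y T tl) W1) W2) ms := by
  simp only [Bool.and_eq_true, beq_iff_eq] at hc
  refine genW_le (H := (genL _ ms).comap ι) (fun w hw => ?_) (hC c trivial e)
  obtain ⟨v, hv, rfl⟩ := List.mem_map.1 (hc.1.1 ▸ hw)
  have := h.mem hc.2 v hv
  rwa [ev_xp, Dce.ev_gD fun x hx => (lt_of_chkLet hc.1.2 _ hw x hx).ne] at this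

include inj

theorem Eqs.g4 {ms : List ℕ} {t : K} {M : Subgroup G} (hM : M = genL (renG (renG (Dce.gD ι y T tl) W1) W2) ms)
    (h0 : ∀ c, c * t = t * c → ι c ∈ M) (hC : M ≤ Subgroup.centralizer {ι t}) {dw u : List ℕ} (v w : List ℕ)
    (hc : (xp W1 W2 w == v ++ dw ++ u && chkLet (List.range tl) [u, v] && chkIn E ms [w]) = true) :
    Good ι (ev (Dce.gD ι y T tl) dw) t M ((ev y u)⁻¹ * t * ev y u) := by
  simp only [Bool.and_eq_true, beq_iff_eq] at hc
  have h1 := h.mem hc.2 w List.mem_cons_self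
  rw [← hM, ev_xp, hc.1.1, ev_append, ev_append, Dce.ev_gD fun x hx => (lt_of_chkLet hc.1.2 u (by simp) x hx).ne,
    Dce.ev_gD (w := v) fun x hx => (lt_of_chkLet hc.1.2 v (by simp) x hx).ne, ← mul_assoc] at h1
  exact good_of_mem inj h0 h1 (Subgroup.mem_centralizer_singleton_iff.1 (hC h1)).symm

theorem Eqs.g3 {tw sw : List ℕ} {M : Subgroup G} (hs : ∀ a ∈ (⊤ : Subgroup K), a⁻¹ * ev y tw * a ≠ ev y sw)
    {dw u : List ℕ} (v w w' : List ℕ) (hc : (xp W1 W2 w == v ++ dw ++ u ++ tw && xp W1 W2 w' == sw ++ (v ++ dw ++ u) &&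
      chkLet (List.range tl) [u, v, tw, sw] && E.contains (w, w')) = true) :
    Good ι (ev (Dce.gD ι y T tl) dw) (ev y tw) M ((ev y u)⁻¹ * ev y tw * ev y u) := by
  simp only [Bool.and_eq_true, beq_iff_eq] at hc
  have h1 := h.eq _ _ hc.2
  have k : ∀ w ∈ [u, v, tw, sw], ev (Dce.gD ι y T tl) w = ι (ev y w) := fun w hw =>
    Dce.ev_gD fun x hx => (lt_of_chkLet hc.1.2 w hw x hx).ne
  rw [ev_xp, ev_xp, hc.1.1.1, hc.1.1.2, ev_append _ sw, ev_append _ _ tw, ev_append, ev_append, k u (by simp),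
    k v (by simp), k tw (by simp), k sw (by simp), ← mul_assoc (ι _) (ev _ dw)] at h1
  exact good_of_nc inj hs h1

end

end Cfsg.Agent.Spor.Ct
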