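import Cfsg.Agent.Spor.HnD
import Cfsg.Agent.Spor.HnM
import Cfsg.Prelude.Def_Spor_HN

/-! The Harada-Norton group (generated certificate, helper23). -/

set_option Elab.async false
set_option maxRecDepth 100000
set_option exponentiation.threshold 100000

namespace Cfsg.Agent.Spor.HnG

open Equiv

theorem okO : netsOk 1408 HnO.nets = true := netsOk_append HnO.ok0 HnO.ok1

theorem lw3 : BaseGe (genW (PP HnO.nets) [[5], [6], [7]]) 60 [85] :=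
  BaseGe.stepW (L := 11) (n := 60) okO (genW_nil_base _) [] [0, 2, 0, 0, 2, 0, 0, 2, 0, 0, 2, 0, 0] (by decide +kernel)

theorem lw2 : BaseGe (genW (PP HnO.nets) [[5], [6], [7], [8]]) 2520 [8, 85] :=
  BaseGe.stepW (L := 11) (n := 42) okO lw3 [[0], [1], [2]] [3, 0, 0, 2, 3, 0, 0, 2, 3, 0, 2, 0] (by decide +kernel)

theorem lw1 : BaseGe (genW (PP HnO.nets) [[5], [6], [7], [8], [9]]) 126000 [3, 8, 85] :=
  BaseGe.stepW (L := 11) (n := 50) okO lw2 [[0], [1], [2], [3]] [4, 0, 2, 3, 4, 0, 3, 0, 4, 2, 3] (by decide +kernel)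

theorem lw0 : BaseGe (genW (PP HnO.nets) (sing (List.range 10))) 177408000 [0, 3, 8, 85] :=
  BaseGe.stepW (L := 11) (n := 1408) okO lw1 [[5], [6], [7], [8], [9]] [0, 4, 0, 2, 0, 2, 4, 2, 8, 9, 0, 5, 4, 9, 7, 2, 4] (by decide +kernel)

def lts : List (Cfsg.Spor.HN.Gen × Bool) := [(.x, true), (.x, false), (.y, true), (.y, false), (.z, true), (.t, true), (.t, false)]

theorem lt : LtOk Cfsg.Spor.HN.edges Cfsg.Spor.HN.extra lts :=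
  ⟨by intro q; cases q <;> decide, by decide +kernel, by decide +kernel⟩

noncomputable abbrev g : ℕ → Cfsg.Spor.HN := letG (RS Cfsg.Spor.HN.edges Cfsg.Spor.HN.extra) lts

def rels : List (List ℕ) := [[0, 1], [1, 0], [2, 3], [3, 2], [4, 4], [5, 6], [6, 5], [2, 2, 2, 2, 2, 2], [0, 0, 2, 0, 0, 3], [1, 3, 0, 2, 1, 3, 0, 2, 1, 3, 0, 2], [1, 2, 2, 0, 2, 2, 2, 1, 2, 2, 0, 2, 2, 2, 1, 2, 2, 0, 2, 2, 2], [0, 2, 0, 2, 0, 2, 0, 2, 0, 2, 0, 2, 0, 2, 0, 2], [0, 2, 0, 2, 2, 2, 0, 2, 0, 2, 2, 2, 0, 2, 0, 2, 2, 2, 0, 2, 0, 2, 2, 2], [4, 0, 4, 0], [4, 2, 1, 3, 3, 1, 3, 1, 3, 4, 2, 0, 2, 0, 2, 2, 0, 3, 1, 1], [4, 3, 1, 3, 1, 3, 3, 3, 4, 2, 2, 2, 0, 2, 0, 2, 0, 3, 1, 3, 1, 3, 3, 3, 4, 2, 2, 2, 0, 2, 0, 2, 0, 3, 1, 3, 1, 3, 3, 3, 4, 2, 2, 2, 0, 2, 0, 2, 0], [5, 5, 5, 5, 5], [1, 5, 0, 5, 5], [6, 3, 5, 2], [4, 5, 4, 5, 4, 5]]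

theorem hg : ∀ r ∈ rels, ev g r = 1 := lt.rels_of_relsG (by decide +kernel)

def iv : List ℕ := [1, 0, 3, 2, 4, 6, 5]

theorem hi : InvOk g 7 iv := invOk_of_rels hg (by decide +kernel)

theorem hd : ∀ x < 7, renG g (sing (List.range 7)) x = g x := hi.defs hg (by decide +kernel) [] (by decide +kernel)

def jl : List (List ℕ) := sing (List.range 5)

theorem exι : ∃ ι : HnK.G →* Cfsg.Spor.HN, ∀ x < 5, ι (HnK.g x) = renG g jl x :=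
  HnK.lifts _ _ (renG_rels (hi.rels hg (by decide +kernel) (by decide +kernel)))

noncomputable def ι : HnK.G →* Cfsg.Spor.HN := exι.choose

def R : List (List ℕ) := HnL.renK.map (renW jl) ++ [[5]]

noncomputable def T : Cfsg.Spor.HN := renG g R 10

theorem h1 : ∀ x < 10, ι (HnL.y x) = renG g R x := map_renG (ren := HnL.renK) exι.choose_spec (by decide +kernel) _

theorem cp : Dce.CommP ι HnL.y T [[2], [3], [1, 2, 0], [1, 3, 0]] [[2], [3], [1, 2, 0], [1, 3, 0]] :=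
  Dce.commP_of_rels h1 rfl hi (ps := List.zip [[2], [3], [1, 2, 0], [1, 3, 0]] [[2], [3], [1, 2, 0], [1, 3, 0]]) (by decide +kernel) (hi.prod hg
   [[([3, 6], 37)],
    [([6], 36)],
    [([1, 5, 0, 3, 0], 34), ([6, 6, 1, 5, 1, 5, 0, 3, 0], 35), ([1, 5, 1, 5, 0, 3, 0], 32), ([1, 5, 1, 5, 0, 3, 0], 35), ([6, 6, 3, 0], 35), ([3, 6, 2, 6, 3, 0], 37), ([3, 6, 0, 5, 1, 6, 2, 6, 3, 0], 37), ([1, 5, 0, 6, 1, 1, 6, 0, 6, 6, 0, 5, 1, 6, 2, 6, 3, 0], 34), ([1, 5, 0, 6, 1, 1, 6, 0, 6, 6, 0, 5, 1, 6, 2, 6, 3, 0], 33), ([6, 6, 1, 5, 0, 6, 1, 1, 6, 0, 6, 6, 0, 5, 1, 6, 2, 6, 3, 0], 34), ([0, 6, 1, 1, 6, 0, 6, 6, 0, 5, 1, 6, 2, 6, 3, 0], 35), ([6, 6, 0, 5, 1, 6, 2, 6, 3, 0], 34)],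
    [([6, 6, 0, 5, 1, 6, 2, 6, 3, 0, 5, 1, 2, 0, 6], 35), ([0, 6, 1, 1, 6, 0, 6, 6, 0, 5, 1, 6, 2, 6, 3, 0, 5, 1, 2, 0, 6], 34), ([6, 6, 1, 5, 0, 6, 1, 1, 6, 0, 6, 6, 0, 5, 1, 6, 2, 6, 3, 0, 5, 1, 2, 0, 6], 35), ([1, 5, 0, 6, 1, 1, 6, 0, 6, 6, 0, 5, 1, 6, 2, 6, 3, 0, 5, 1, 2, 0, 6], 32), ([1, 5, 0, 6, 1, 1, 6, 0, 6, 6, 0, 5, 1, 6, 2, 6, 3, 0, 5, 1, 2, 0, 6], 35), ([3, 6, 0, 5, 1, 6, 2, 6, 3, 0, 5, 1, 2, 0, 6], 36), ([3, 6, 2, 6, 3, 0, 5, 1, 2, 0, 6], 36), ([6, 6, 3, 0, 5, 1, 2, 0, 6], 34), ([1, 5, 1, 5, 0, 3, 0, 5, 1, 2, 0, 6], 34), ([1, 5, 1, 5, 0, 3, 0, 5, 1, 2, 0, 6], 33), ([6, 6, 1, 5, 1, 5, 0, 3, 0, 5, 1, 2, 0, 6], 34), ([1, 5, 0, 3, 0, 5, 1, 2, 0, 6], 35)]] (by decide +kernel))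

theorem comm : ∀ x, 0 < Dce.tb HnD.sgc x → T * ι (HnL.y x) = ι (HnL.y (Dce.sgm HnD.sgc x)) * T :=
  cp.comm HnL.pa (ws := [[], [], [], [], [], [2, 0, 0, 2, 1, 3, 0, 2], [3, 1, 2, 0, 3, 1, 1, 3], [0, 3, 1, 2, 0, 3, 1, 2], [0, 2, 1, 3, 0, 2, 1, 3], [0, 0, 3, 0, 0, 2, 1, 3, 3, 0, 2, 2], [], [], [], [], [], [], [], [], [], [], [], [], [], [], [], [], [], [], [], [], [], [], [], [], [], [], [], [], [], [], [], [], [], [], [], [], [], [], [], [], [], [], [], [], [], [], [], [], [], [], [], [], []]) (by decide +kernel)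

theorem hr : ∀ w ∈ HnD.rels.map (Dce.flatT 10), ev (Dce.gD ι HnL.y T 10) w = 1 :=
  Dce.rels_gD h1 rfl (by decide +kernel) (hi.prod hg [[([1, 5], 34), ([6, 6, 1, 5, 1, 5], 35), ([1, 5, 1, 5], 32), ([1, 5, 1, 5], 35)],
    [([], 34)],
    [([1, 5, 0, 5], 34)],
    [([], 38)],
    [([1, 5], 34)],
    [([], 32)],
    [([], 38)],
    [([0], 34), ([6, 6, 1, 5, 0], 35), ([1, 5, 0], 32), ([1, 5, 0], 35)]] (by decide +kernel))

theorem hyp : Dce.Hyp ι HnL.y T HnK.φ 1408 HnL.act [0, 99, 21, 3] 10 HnD.ivc HnD.sgc [1, 1, 10, 0, 0] HnD.rels :=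
  ⟨HnL.pa, by decide, Dce.hyp_inv HnL.pa (by decide +kernel),
    Dce.invT_of_rel (Dce.rels_gD h1 rfl (by decide +kernel) (hi.prod hg [[([0, 6], 34), ([6, 6, 1, 5, 0, 6], 35), ([1, 5, 0, 6], 32), ([1, 5, 0, 6], 35)]] (by decide +kernel))), comm,
    Dce.hyp_rel (by decide +kernel) hr⟩

noncomputable def ψ : HnK.G →* Perm ℕ := HnO.ex.choose

theorem rψ : PermRep HnL.y HnO.nets 1408 10 ψ := HnO.ex.choose_spec.congr fun _ hx => renG_append _ _ hx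

theorem stabC : IsStab ψ (genW HnL.y (sing [5, 6, 7, 8, 9])) 0 :=
  rψ.stab_le (rψ.trans (by decide) HnO.otr) (fun c hc => fix_of_chkClosed rψ.ok (ws := sing [5, 6, 7, 8, 9]) (by decide +kernel)
    ((rψ.map_genW (by decide +kernel)).le (Subgroup.mem_map_of_mem ψ hc))) (m := 126000) HnK.card (by decide)
    (CardGe.of_map ψ (by rw [rψ.map_genW (by decide +kernel)]; exact lw1.cardGe))

theorem injψ : Function.Injective ψ :=
  (rψ.card_eq (cardLe_of_card HnK.card (by decide) _) (by rw [← genW_sing]; exact lw0.cardGe)).2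

instance finK : Finite HnK.G := Nat.finite_of_card_ne_zero (by rw [HnK.card]; decide)

theorem cert : Dce.Cert ι HnL.y T 10 HnD.subs HnD.tab.at ψ 1408 0 HnD.sz.length HnD.nm HnD.sz :=
  hyp.cert HnD.steps rψ (by decide) (by decide)
    (fun k hk => Dce.hC_of_comm comm (xs := [5, 6, 7, 8, 9]) (by decide +kernel) ((genW_sing _ _).le ((stabC k).2 hk)))
    (by decide) rfl (by decide) HnD.tree HnD.rows

theorem gen : ∀ S : Subgroup Cfsg.Spor.HN, (∀ k, ι k ∈ S) → T ∈ S → S = ⊤ :=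
  Dce.gen_top h1 rfl (by decide +kernel) (eq_top_iff.2 (lt.genL_top.ge.trans ((genW_sing g _).ge.trans
    (hi.genW_le hd (by decide +kernel)))))

theorem exρ : ∃ ρ, BRep HnM.D HnM.As 7 HnM.iv g 7 (sing (List.range 7)) ρ :=
  lt.bRep (rels := rels) (by decide +kernel) HnM.ok HnM.hi (by decide +kernel)
    (HnM.hi.rels HnM.hb (by decide +kernel) (by decide +kernel))

noncomputable def ρ := exρ.choose

theorem rρ : BRep HnM.D HnM.As 7 HnM.iv g 7 (sing (List.range 7)) ρ := exρ.choose_spec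

theorem rng : ι.range = genW g jl := range_eq_genW HnK.rep.top exι.choose_spec

theorem cE (k : HnK.G) : ∀ E ∈ [HnM.E0, HnM.E1, HnM.E2].map HnM.D.bM, Commute (ρ (ι k) : Matrix _ _ _) E :=
  rρ.commL (mc := 7) (by decide +kernel) (ws := jl) (by decide +kernel) (by decide +kernel) (rng ▸ ⟨k, rfl⟩)

def ts : List (Ex × Ex) := [((.mul (.lt 4) (.lt 2)), (.mul (.lt 2) (.lt 4))), ((.mul (.lt 0) (.mul (.lt 4) (.lt 2))), (.mul (.lt 0) (.mul (.lt 4) (.lt 0))))]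

theorem main : ι.range.index = 1539000 ∧ Function.Injective ρ ∧ Function.Injective ι ∧
    Nat.card ι.range = 177408000 ∧ Nat.card Cfsg.Spor.HN = 177408000 * 1539000 ∧ IsCoatom ι.range ∧
    ∀ N : Subgroup Cfsg.Spor.HN, N.Normal → N ≤ ι.range → N = ⊥ :=
  (cert.main' gen (by decide) ρ (invT ZMod.val _ _ ts) (fun k a k' => invT_mul _ _ (cE k) (cE k') a)
    (rρ.sep (mc := 7) (by decide +kernel) ts h1 rfl (fun i => Dce.pw HnD.tab.at (getL HnD.nm 0 i))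
      (vals := [[(true, 0), (true, 0)], [(false, 0), (true, 0)], [(false, 4), (false, 0)], [(true, 2), (false, 0)], [(false, 1), (false, 0)], [(false, 0), (false, 0)], [(false, 3), (false, 0)], [(false, 4), (true, 0)], [(true, 3), (true, 0)]])
      (by decide +kernel) (by decide +kernel) (by decide))
    (by decide +kernel) rfl (fun k hk => injψ (hk.trans ψ.map_one.symm)) (by decide) (by decide) HnK.card
    (by decide +kernel)).2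

theorem pw : (T * ι (ev HnL.y [4, 2, 1, 3, 3])) ^ 19 = 1 := by
  have := Dce.rels_gD h1 rfl (ws := [powW ([4, 2, 1, 3, 3] ++ [10]) 19]) (by decide +kernel) (rρ.rels main.2.1
    (by decide +kernel) (HnM.hi.rels (HnM.ok.rels (es := [(.mul (.sq (.mul (.sq (.sq (.sq (.mul (.mul (.lt 4) (.mul (.lt 2) (.lt 1))) (.mul (.lt 3) (.mul (.lt 3) (.lt 5))))))) (.mul (.mul (.lt 4) (.mul (.lt 2) (.lt 1))) (.mul (.lt 3) (.mul (.lt 3) (.lt 5)))))) (.mul (.mul (.lt 4) (.mul (.lt 2) (.lt 1))) (.mul (.lt 3) (.mul (.lt 3) (.lt 5)))))]) (by decide +kernel)) (by decide +kernel)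
    (by decide +kernel))) _ List.mem_cons_self
  rwa [ev_powW, ev_append, ev_one, Dce.gD_t, Dce.ev_gD (by decide)] at this

theorem simple : IsSimpleGroup Cfsg.Spor.HN :=
  Dce.simple_of_coatom main.2.2.2.2.2.1 main.2.2.2.2.2.2 pw (by rw [main.2.2.2.1]; decide +kernel)
    (Dce.ncl_top gen (kw := [2, 2, 0, 3, 4]) (HnL.pa.rels (ws := [_]) (by decide +kernel) _ List.mem_cons_self) (rs := [[10, 10, 10, 10, 10]])
      (rels_of_sub hr (by decide +kernel)) (ncl_of_words (nl := 5) (iv := HnK.iv)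
        (invOk_of_rels (HnL.pa.rels (ws := [[0, 1], [1, 0], [2, 3], [3, 2], [4, 4]]) (by decide +kernel))
          (by decide +kernel))
        [([], 0), ([0], 0), ([0, 2], 0)] (by decide +kernel) (HnL.pa.top_of_words rψ.top [[2, 0, 0, 0, 0, 2, 0, 1, 1, 1, 1, 0, 0, 2, 2, 2, 1, 1, 1, 0], [1, 2, 2, 0, 2, 0, 1, 2, 2, 2, 0, 1, 1, 1, 2, 0, 0, 0], [1, 1, 2, 2, 0, 1, 0, 2, 2, 2, 1, 1, 2, 0, 0, 2, 2, 0], [1, 2, 2, 1, 0, 2, 2, 0, 0, 1, 1, 2, 1, 2, 0, 0], [1, 1, 2, 2, 2, 1, 2, 1, 1, 2, 1, 1, 0, 0, 2, 2, 0], [1, 2, 0, 1, 2, 2, 1, 2, 0, 1, 2, 0, 0, 2, 0, 0], [1, 1, 2, 0, 1, 2, 0, 0, 1, 2, 2, 2, 1, 2, 1, 1, 0, 2], [0, 1, 2, 0, 2, 2, 1, 2, 0, 2, 2, 0, 0, 0, 2, 1, 2, 1], [1, 1, 0, 1, 2, 1, 0, 2, 2, 1, 2, 2, 2, 2, 0, 0, 2, 0], [1, 0, 2, 1, 0, 2, 0, 0, 0, 1, 2, 1, 2, 2, 0, 2, 1, 0]] (by decide +kernel))))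

theorem rng' : ι.range = genW g [[0], [2], [4]] :=
  rng.trans (le_antisymm (hi.genW_le hd (by decide +kernel)) (genW_mono _ (by decide)))

end Cfsg.Agent.Spor.HnG
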