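import Cfsg.Agent.Spor.Cov2
import Cfsg.Agent.Pres.Carm

/-! Letters with explicit matrices in a faithful representation; alternating subgroups (helper23). -/

namespace Cfsg.Agent.Spor

/-- The letters `y x`, `x < n`, have the matrices `As` in the faithful representation `ρ`. -/
structure MAct {G : Type} [Group G] (D : BP) (ρ : G →* (Matrix (Fin D.K) (Fin D.K) (ZMod D.p))ˣ) (As : List ℕ)
    (n : ℕ) (y : ℕ → G) : Prop where
  inj : Function.Injective ρ
  ok : D.Ok As
  app : ∀ x < n, (ρ (y x) : Matrix _ _ _) = D.MB As x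

theorem BRep.mAct {G : Type} [Group G] {g : ℕ → G} {D : BP} {As iv : List ℕ} {nb nf : ℕ} {ren : List (List ℕ)}
    {ρ : G →* (Matrix (Fin D.K) (Fin D.K) (ZMod D.p))ˣ} (h : BRep D As nb iv g nf ren ρ) (inj : Function.Injective ρ)
    (n : ℕ) (hc : allN n (fun x => andB (Nat.blt x nf) (decide (ren.getD x [] = [x]))) = true) : MAct D ρ As n g :=
  ⟨inj, h.ok, fun x hx => by
    have h1 := allN_spec hc x hx
    rw [andB_eq_true, decide_eq_true_eq] at h1
    have := h.map [x] fun z hz => List.mem_singleton.1 hz ▸ Dce.blt_spec h1.1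
    rw [ev_one] at this
    rw [this, renW, List.flatMap_singleton, h1.2]
    exact one_mul _⟩

namespace MAct
variable {G : Type} [Group G] {D : BP} {ρ : G →* (Matrix (Fin D.K) (Fin D.K) (ZMod D.p))ˣ} {As : List ℕ}
  {n : ℕ} {y : ℕ → G} (h : MAct D ρ As n y)
include h

theorem map {w : List ℕ} (hw : ∀ x ∈ w, x < n) : (ρ (ev y w) : Matrix _ _ _) = ev (D.MB As) w :=
  (map_ev ((Units.coeHom _).comp ρ) y w).trans (ev_congr fun x hx => h.app x (hw x hx))

theorem ren {es : List Ex} {Bs : List ℕ} (mc : ℕ) (hB : allL Bs (D.okV mc) = true)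
    (hl : chkLet (List.range n) (es.map Ex.w) = true)
    (hc : ∀ i < es.length, Nat.beq (D.evE As (getL es (.lt 0) i)) (getL Bs 0 i) = true) :
    MAct D ρ Bs es.length (renG y (es.map Ex.w)) :=
  ⟨h.inj, BP.ok_of_chk h.ok.ok mc hB, fun x hx => by
    have e : getL (es.map Ex.w) [] x = (getL es (.lt 0) x).w := by
      rw [getL_eq_getD, getL_eq_getD, List.getD_eq_getElem _ _ (by simpa using hx), List.getD_eq_getElem _ _ hx,
        List.getElem_map]
    have hm : (getL es (.lt 0) x).w ∈ es.map Ex.w := by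
      rw [getL_eq_getD, List.getD_eq_getElem _ _ hx]; exact List.mem_map_of_mem (List.getElem_mem _)
    rw [renG, e, h.map (lt_of_chkLet hl _ hm), ← (h.ok.evE _).2, Nat.eq_of_beq_eq_true (hc x hx)]; rfl⟩

theorem rels' {ws : List (List ℕ)} (hl : chkLet (List.range n) ws = true) (hc : ∀ r ∈ ws, ev (D.MB As) r = 1) :
    ∀ r ∈ ws, ev y r = 1 := fun r hr =>
  h.inj (Units.ext (by rw [h.map (lt_of_chkLet hl r hr), hc r hr, map_one]; rfl))

theorem rels {es : List Ex} (hl : chkLet (List.range n) (es.map Ex.w) = true) (hc : D.chkE As es = true) :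
    ∀ r ∈ es.map Ex.w, ev y r = 1 := h.rels' hl (h.ok.rels hc)

theorem eq {a b : Ex} (hl : chkLet (List.range n) [a.w, b.w] = true)
    (hc : Nat.beq (D.evE As a) (D.evE As b) = true) : ev y a.w = ev y b.w :=
  h.inj (Units.ext (by
    rw [h.map (lt_of_chkLet hl _ (by simp)), h.map (lt_of_chkLet hl _ (by simp)), h.ok.eq hc]))

theorem ne {a b : Ex} (hl : chkLet (List.range n) [a.w, b.w] = true)
    (hc : Nat.beq (D.evE As a) (D.evE As b) = false) : ev y a.w ≠ ev y b.w := by
  intro e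
  have e1 := h.map (lt_of_chkLet hl a.w (by simp))
  rw [e, h.map (lt_of_chkLet hl b.w (by simp)), ← (h.ok.evE _).2, ← (h.ok.evE _).2] at e1
  rw [BP.bM_inj h.ok.ok (h.ok.evE _).1 (h.ok.evE _).1 e1, Nat.beq_refl] at hc
  exact Bool.noConfusion hc

end MAct

/-- Carmichael's relators in the letters `< n`. -/
def carmRels (n : ℕ) : List (List ℕ) :=
  (List.range n).flatMap fun i => [i, i, i] :: (List.range i).map fun j => [i, j, i, j]

open Equiv in
theorem carm_hom {G : Type*} [Group G] {y : ℕ → G} {n : ℕ} (h : ∀ r ∈ carmRels n, ev y r = 1) :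
    ∃ f : alternatingGroup (Fin (n + 2)) →* G, f.range = genL y (List.range n) ∧
      ∀ i : Fin n, ∃ a, f a = y i ∧ (a : Perm (Fin (n + 2))) = Pres.c3 i.succ.succ 0 1 := by
  classical
  let x : Fin (n + 2) → G × Perm (Fin (n + 2)) := fun i => (y (i - 2), Pres.c3 i 0 1)
  let s : Finset (Fin (n + 2)) := Finset.univ.image fun i : Fin n => i.succ.succ
  have hs : ∀ i ∈ s, ∃ k : Fin n, k.succ.succ = i := fun i hi => by simpa [s] using hi
  have n0 : ∀ k : Fin n, k.succ.succ ≠ (0 : Fin (n + 2)) := fun k => Fin.succ_ne_zero _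
  have n1 : ∀ k : Fin n, k.succ.succ ≠ (1 : Fin (n + 2)) := fun k e =>
    Fin.succ_ne_zero k (Fin.succ_injective _ (e.trans (Fin.succ_zero_eq_one).symm))
  have n01 : (0 : Fin (n + 2)) ≠ 1 := Fin.zero_ne_one
  have hx : ∀ k : Fin n, x k.succ.succ = (y k, Pres.c3 k.succ.succ 0 1) := fun k => by simp [x]
  have h2 : ∀ i j : Fin n, j < i → (y j * y i) ^ 2 = 1 := fun i j hij => by
    have := h [i, j, i, j] (List.mem_flatMap.2 ⟨i, List.mem_range.2 i.2, List.mem_cons_of_mem _
      (List.mem_map.2 ⟨j, List.mem_range.2 hij, rfl⟩)⟩)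
    simpa [ev, pow_two, mul_assoc] using this
  have L := Pres.carm (MonoidHom.snd G _) n01 x s (fun e => (hs _ e).elim fun k e => n0 k e)
    (fun e => (hs _ e).elim fun k e => n1 k e) (fun i hi => by
      obtain ⟨k, rfl⟩ := hs i hi
      have := h [k, k, k] (List.mem_flatMap.2 ⟨k, List.mem_range.2 k.2, List.mem_cons_self⟩)
      rw [hx, Prod.pow_mk, Pres.c3_pow_three (n0 k) (n1 k) n01, show y k ^ 3 = 1 by
        simpa [ev, pow_succ, mul_assoc] using this]
      rfl) (fun i hi j hj hij => by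
      obtain ⟨k, rfl⟩ := hs i hi
      obtain ⟨l, rfl⟩ := hs j hj
      rw [hx, hx, Prod.mk_mul_mk, Prod.pow_mk, Pres.c3_mul_sq (n0 k) (n1 k) n01 (n0 l) (n1 l) hij]
      have : (y k * y l) ^ 2 = 1 := by
        rcases lt_trichotomy k l with e | e | e
        · exact h2 l k e
        · exact absurd (e ▸ rfl) hij
        · have e2 : (y k * y l) ^ 2 = (y l)⁻¹ * (y l * y k) ^ 2 * (y l)⁻¹⁻¹ := by rw [pow_two, pow_two]; group
          rw [e2, h2 k l e]; simp
      rw [this]; rfl) (fun i _ => rfl)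
  have hu : insert 0 (insert 1 s) = Finset.univ := by
    ext i
    simp only [Finset.mem_insert, Finset.mem_univ, iff_true]
    induction i using Fin.cases with
    | zero => exact Or.inl rfl
    | succ i =>
      induction i using Fin.cases with
      | zero => exact Or.inr (Or.inl Fin.succ_zero_eq_one)
      | succ i => exact Or.inr (Or.inr (Finset.mem_image_of_mem _ (Finset.mem_univ i)))
  have hm := L.map
  rw [hu, Pres.altOn_univ] at hm
  set H := Subgroup.closure (x '' ↑s)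
  let π : H →* alternatingGroup (Fin (n + 2)) :=
    ((MonoidHom.snd G _).comp H.subtype).codRestrict _ fun a => hm.le (Subgroup.mem_map_of_mem _ a.2)
  have hπ : Function.Bijective π := ⟨(injective_iff_map_eq_one _).2 fun a ha =>
    Subtype.ext (L.inj a a.2 (congrArg Subtype.val ha)), fun b => by
      obtain ⟨a, ha, e⟩ : (b : Perm (Fin (n + 2))) ∈ H.map (MonoidHom.snd G _) := hm.ge b.2
      exact ⟨⟨a, ha⟩, Subtype.ext e⟩⟩
  let e := MulEquiv.ofBijective π hπ
  have hk : ∀ k : Fin n, x k.succ.succ ∈ H := fun k =>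
    Subgroup.subset_closure ⟨_, Finset.mem_coe.2 (Finset.mem_image_of_mem _ (Finset.mem_univ k)), rfl⟩
  have hf : ∀ k : Fin n, ((MonoidHom.fst G _).comp (H.subtype.comp e.symm.toMonoidHom)) (e ⟨_, hk k⟩) = y k := fun k => by
    show ((e.symm (e ⟨_, hk k⟩) : H) : G × Perm (Fin (n + 2))).1 = _
    rw [e.symm_apply_apply]; exact congrArg Prod.fst (hx k)
  refine ⟨(MonoidHom.fst G _).comp (H.subtype.comp e.symm.toMonoidHom), le_antisymm ?_ (genL_le fun k hk' =>
    ⟨_, hf ⟨k, List.mem_range.1 hk'⟩⟩), fun k => ⟨_, hf k, rfl⟩⟩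
  rintro _ ⟨a, rfl⟩
  have : H ≤ (genL y (List.range n)).comap (MonoidHom.fst G _) := (Subgroup.closure_le _).2 (by
    rintro _ ⟨i, hi, rfl⟩
    obtain ⟨k, rfl⟩ := hs i hi
    rw [hx]; exact mem_genL (g := y) (List.mem_range.2 k.2))
  exact this (e.symm a).2

theorem carm_equiv {G : Type*} [Group G] {y : ℕ → G} {n : ℕ} (h : ∀ r ∈ carmRels n, ev y r = 1) (hn : 3 ≤ n)
    (h0 : y 0 ≠ 1) : Nonempty (alternatingGroup (Fin (n + 2)) ≃* genL y (List.range n)) := by
  obtain ⟨f, h1, h2⟩ := carm_hom h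
  have := alternatingGroup.isSimpleGroup (α := Fin (n + 2)) (by simpa using hn)
  obtain ⟨a, ha, -⟩ := h2 ⟨0, by omega⟩
  exact ⟨(MonoidHom.ofInjective (injective_of_simple f (x := a) (ha ▸ h0))).trans (MulEquiv.subgroupCongr h1)⟩

end Cfsg.Agent.Spor
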