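import Cfsg.Agent.Spor.Dce9
import Mathlib.GroupTheory.Sylow

/-! Centralisers from a double coset decomposition (helper23): `Ct.cent_le` bounds `C_G(ι t)` by a subgroup `M` once
every `K`-conjugate of `t` is `Good` for every double coset representative. -/

namespace Cfsg.Agent.Spor.Ct

open Equiv

section abs
variable {G K : Type} [Group G] [Group K] {ι : K →* G} {d : G} {t r : K} {M : Subgroup G}

/-- The stabiliser in `K` of the coset `d K`. -/
def Fd (ι : K →* G) (d : G) : Subgroup K := (MulAction.stabilizer G (d • basePt ι.range)).comap ι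

theorem mem_Fd : r ∈ Fd ι d ↔ ∃ s, ι r * d = d * ι s := by
  rw [Fd, Subgroup.mem_comap, MulAction.mem_stabilizer_iff, smul_smul, ← inv_smul_eq_iff.trans eq_comm, smul_smul,
    smul_basePt_eq_iff]
  exact ⟨fun ⟨s, e⟩ => ⟨s⁻¹, by rw [map_inv, e]; group⟩, fun ⟨s, e⟩ => ⟨s⁻¹, by rw [map_inv, e]; group⟩⟩

def Good (ι : K →* G) (d : G) (t : K) (M : Subgroup G) (r : K) : Prop :=
  ∀ u v : K, u⁻¹ * t * u = r → ι r * d = d * ι (v * t * v⁻¹) → ι u * d * ι v ∈ M

theorem cent_le {d : ℕ → G} {nd : ℕ} {sz : List ℕ} (o : Dce.Orbs ι (fun i => d i • basePt ι.range) nd sz)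
    (h : ∀ i < nd, ∀ r, Good ι (d i) t M r) : Subgroup.centralizer {ι t} ≤ M := by
  intro g hg
  obtain ⟨i, hi, k, hk⟩ := o.cover (g • basePt ι.range)
  have hk' : (ι k * d i)⁻¹ * g ∈ ι.range := by
    rw [← smul_basePt_eq_iff, mul_smul, ← hk, smul_smul, smul_smul, mul_assoc, inv_mul_cancel, one_smul]
  obtain ⟨v, hv⟩ := hk'
  have e : g = ι k * d i * ι v := by rw [hv]; group
  have c := Subgroup.mem_centralizer_singleton_iff.1 hg
  rw [e] at c ⊢
  refine h i hi _ k v rfl ?_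
  simp only [map_mul, map_inv]
  calc (ι k)⁻¹ * ι t * ι k * d i = (ι k)⁻¹ * (ι t * (ι k * d i * ι v)) * (ι v)⁻¹ := by group
    _ = _ := by rw [← c]; group

theorem good_of_not_mem (h : r ∉ Fd ι d) : Good ι d t M r := fun _ _ _ e => absurd (mem_Fd.2 ⟨_, e⟩) h

theorem good_of_nc0 (h : ∀ a ∈ (⊤ : Subgroup K), a⁻¹ * t * a ≠ r) : Good ι d t M r :=
  fun u _ e _ => absurd e (h u trivial)

theorem key (inj : Function.Injective ι) {u v w s : K} (hc : ι t * (ι u * d * ι v) = ι u * d * ι v * ι s)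
    (h : ι (u⁻¹ * t * u) * d = d * ι (w * t * w⁻¹)) : w * t * w⁻¹ = v * s * v⁻¹ := by
  refine inj (mul_left_cancel (a := d) ?_)
  rw [← h]
  simp only [map_mul, map_inv]
  calc (ι u)⁻¹ * ι t * ι u * d = (ι u)⁻¹ * (ι t * (ι u * d * ι v)) * (ι v)⁻¹ := by group
    _ = _ := by rw [hc]; group

theorem good_of_mem (inj : Function.Injective ι) (h0 : ∀ c, c * t = t * c → ι c ∈ M) {u v : K}
    (hm : ι u * d * ι v ∈ M) (hc : ι t * (ι u * d * ι v) = ι u * d * ι v * ι t) : Good ι d t M (u⁻¹ * t * u) := by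
  intro u' v' e1 e2
  have e3 := key inj hc e2
  have e : ι u' * d * ι v' = ι (u' * u⁻¹) * (ι u * d * ι v) * ι (v⁻¹ * v') := by simp only [map_mul, map_inv]; group
  rw [e]
  refine M.mul_mem (M.mul_mem (h0 _ ?_) hm) (h0 _ ?_)
  · calc u' * u⁻¹ * t = u' * (u⁻¹ * t * u) * u⁻¹ := by group
      _ = _ := by rw [← e1]; group
  · calc v⁻¹ * v' * t = v⁻¹ * (v' * t * v'⁻¹) * v' := by group
      _ = _ := by rw [e3]; group

theorem good_of_nc (inj : Function.Injective ι) {u v s : K} (hs : ∀ a ∈ (⊤ : Subgroup K), a⁻¹ * t * a ≠ s)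
    (hc : ι t * (ι u * d * ι v) = ι u * d * ι v * ι s) : Good ι d t M (u⁻¹ * t * u) := by
  intro u' v' _ e2
  refine absurd ?_ (hs (v'⁻¹ * v) trivial)
  calc (v'⁻¹ * v)⁻¹ * t * (v'⁻¹ * v) = v⁻¹ * (v' * t * v'⁻¹) * v := by group
    _ = _ := by rw [key inj hc e2]; group

theorem Good.conj (h : Good ι d t M r) {f : K} (hf : f ∈ Fd ι d) : Good ι d t M (f * r * f⁻¹) := by
  intro u v e1 e2
  obtain ⟨s, hs⟩ := mem_Fd.1 hf
  have e3 : d = ι f * d * (ι s)⁻¹ := by rw [hs]; group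
  have := h (u * f) (s⁻¹ * v) (by
    calc (u * f)⁻¹ * t * (u * f) = f⁻¹ * (u⁻¹ * t * u) * f := by group
      _ = _ := by rw [e1]; group) (by
    simp only [map_mul, map_inv] at e2 ⊢
    calc ι r * d = (ι f)⁻¹ * (ι f * ι r * (ι f)⁻¹ * (ι f * d * (ι s)⁻¹)) * ι s := by group
      _ = (ι f)⁻¹ * ((ι f * d * (ι s)⁻¹) * (ι v * ι t * (ι v)⁻¹)) * ι s := by rw [← e3, e2]
      _ = _ := by group)
  rw [e3]
  simp only [map_mul, map_inv] at this
  simpa only [mul_assoc] using this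

theorem good_one (inj : Function.Injective ι) (h0 : ∀ c, c * t = t * c → ι c ∈ M) (r : K) : Good ι 1 t M r := by
  intro u v e1 e2
  rw [mul_one, one_mul, ← e1] at e2
  rw [mul_one, ← map_mul]
  refine h0 _ ?_
  calc u * v * t = u * (v * t * v⁻¹) * v := by group
    _ = _ := by rw [← inj e2]; group

theorem card_Fd {d : ℕ → G} {nd : ℕ} {sz : List ℕ} (o : Dce.Orbs ι (fun i => d i • basePt ι.range) nd sz) {i : ℕ}
    (hi : i < nd) {n m : ℕ} (hK : Nat.card K = m) (h : andB (Nat.blt 0 (getL sz 0 i)) (Nat.beq (getL sz 0 i * n) m) = true) :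
    Nat.card (Fd ι (d i)) = n := by
  rw [andB_eq_true] at h
  let _ := MulAction.compHom (G ⧸ ι.range) ι
  have e : (Fd ι (d i)).index = getL sz 0 i :=
    (MulAction.index_stabilizer K (d i • basePt ι.range)).trans (o.size i hi)
  have h1 := (Fd ι (d i)).index_mul_card
  rw [e, hK, ← Nat.eq_of_beq_eq_true h.2] at h1
  exact Nat.eq_of_mul_eq_mul_left (Dce.blt_spec h.1) h1

theorem good_of_sylow [Finite K] {p m c : ℕ} (hp : p.Prime) (ht : t ^ p = 1) {H : Subgroup K} (hH : H ≤ Fd ι d)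
    (h1 : Nat.card (Fd ι d) = m * c) (h2 : Nat.card H = m) (hc : ¬ p ∣ c) (h : ∀ r ∈ H, Good ι d t M r) (r : K) :
    Good ι d t M r := by
  intro u v e1 e2
  have hr : r ∈ Fd ι d := mem_Fd.2 ⟨_, e2⟩
  have := Fact.mk hp
  have h3 : (H.subgroupOf (Fd ι d)).index = c := by
    have h4 := (H.subgroupOf (Fd ι d)).card_mul_index
    rw [h1, Nat.card_congr (Subgroup.subgroupOfEquivOfLe hH).toEquiv, h2] at h4
    exact Nat.eq_of_mul_eq_mul_left (h2 ▸ Nat.card_pos) h4
  have h4 : (⟨r, hr⟩ : Fd ι d) ^ p = 1 := Subtype.ext (by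
    show r ^ p = 1
    rw [← e1, show u⁻¹ * t * u = u⁻¹ * t * u⁻¹⁻¹ by rw [inv_inv], conj_pow, ht, mul_one, mul_inv_cancel])
  have h5 : IsPGroup p (Subgroup.zpowers (⟨r, hr⟩ : Fd ι d)) := by
    rintro ⟨_, k, rfl⟩
    exact ⟨1, Subtype.ext (by
      show ((⟨r, hr⟩ : Fd ι d) ^ k) ^ p ^ 1 = 1
      rw [pow_one, ← zpow_natCast, ← zpow_mul, mul_comm, zpow_mul, zpow_natCast, h4, one_zpow])⟩
  obtain ⟨x, hx⟩ := h5.nonempty_fixed_point_of_prime_not_dvd_card (Fd ι d ⧸ H.subgroupOf (Fd ι d))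
    (by rwa [← Subgroup.index, h3])
  obtain ⟨f, rfl⟩ := QuotientGroup.mk_surjective x
  have h6 : ((⟨r, hr⟩ * f : Fd ι d) : Fd ι d ⧸ H.subgroupOf (Fd ι d)) = f := hx ⟨_, Subgroup.mem_zpowers _⟩
  rw [eq_comm, QuotientGroup.eq, Subgroup.mem_subgroupOf] at h6
  have h7 := (h _ h6).conj f.2
  have e3 : (f : K) * ((f⁻¹ * (⟨r, hr⟩ * f) : Fd ι d) : K) * (f : K)⁻¹ = r := by
    simp only [Subgroup.coe_mul, Subgroup.coe_inv]; group
  rw [e3] at h7
  exact h7 u v e1 e2

end abs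

section perm
variable {G K : Type} [Group G] [Group K] {ι : K →* G} {d : G} {M : Subgroup G} {y : ℕ → K} {nets : List Net}
  {N nl L : ℕ} {φ : K →* Perm ℕ}

/-- The points moved by a word. -/
noncomputable def mvM (nets : List Net) (N L : ℕ) (w : List ℕ) : ℕ :=
  Dce.orN (fun p => seq (pl N L p) fun X => Nat.xor (appW nets w X) X) L

theorem orN_testBit (f : ℕ → ℕ) (n i : ℕ) : (Dce.orN f n).testBit i = true ↔ ∃ j < n, (f j).testBit i = true := by
  induction n with
  | zero => simp [Dce.orN]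
  | succ n ih =>
    rw [show Dce.orN f (n + 1) = f n ||| Dce.orN f n from rfl, Nat.testBit_or, Bool.or_eq_true, ih,
      Nat.exists_lt_succ_right, or_comm]

theorem mvM_spec (hok : netsOk N nets = true) (hN : N ≤ 2 ^ L) (w : List ℕ) (i : ℕ) :
    (mvM nets N L w).testBit i = true ↔ ev (PP nets) w i ≠ i := by
  have fix : ∀ i, N ≤ i → (ev (PP nets) w)⁻¹ i = i := fun i hi => by rw [Perm.inv_eq_iff_eq, ev_PP_of_le hok w hi]
  have e : ∀ p, (seq (pl N L p) fun X => Nat.xor (appW nets w X) X).testBit i =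
      ((pl N L p).testBit ((ev (PP nets) w)⁻¹ i) ^^ (pl N L p).testBit i) := fun p => by
    rw [seq_eq, ← appW_testBit' hok]; exact Nat.testBit_xor ..
  rw [mvM, orN_testBit, Ne, eq_comm, ← Perm.inv_eq_iff_eq]
  simp only [e]
  refine ⟨fun ⟨p, _, h⟩ e' => by simp [e'] at h, fun h => ?_⟩
  have hi : i < N := not_le.1 fun hi => h (fix i hi)
  have hj := perm_lt_of_fix fix hi
  by_contra hc
  refine h (Nat.eq_of_testBit_eq fun p => ?_)
  rcases lt_or_ge p L with hp | hp
  · have := fun h => hc ⟨p, hp, h⟩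
    rw [pl_testBit hN hp hi, pl_testBit hN hp hj] at this
    simpa using this
  · have : 2 ^ L ≤ 2 ^ p := Nat.pow_le_pow_right (by norm_num) hp
    rw [Nat.testBit_lt_two_pow (by omega), Nat.testBit_lt_two_pow (by omega)]

theorem land_sub {A B : ℕ} (h : Nat.beq (Nat.land A B) A = true) {i : ℕ} (hi : A.testBit i = true) :
    B.testBit i = true := by
  rw [← Nat.eq_of_beq_eq_true h] at hi
  exact ((Bool.and_eq_true _ _).mp ((Nat.testBit_and ..).symm.trans hi)).2

/-- Elements with different numbers of moved points in an invariant set are not conjugate. -/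
theorem nc_of_mv (R : PermRep y nets N nl φ) (hN : N ≤ 2 ^ L) {ys : List (List ℕ)} {tw rw : List ℕ} {A : ℕ}
    (hl : chkLet (List.range nl) (tw :: rw :: ys) = true)
    (hc : andB (chkClosed nets ys A) (Nat.blt (popD L (Nat.land A (mvM nets N L tw)))
      (popD L (Nat.land A (mvM nets N L rw))) || Nat.blt (popD L (Nat.land A (mvM nets N L rw)))
      (popD L (Nat.land A (mvM nets N L tw)))) = true) :
    ∀ a ∈ genW y ys, a⁻¹ * ev y tw * a ≠ ev y rw := by
  intro a ha e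
  rw [andB_eq_true] at hc
  have h1 := lt_of_chkLet hl
  have hy : chkLet (List.range nl) ys = true := by
    simp only [chkLet, List.all_cons, Bool.and_eq_true] at hl ⊢; exact hl.2.2
  have h2 := testBit_of_chkClosed R.ok hc.1 ((R.map_genW hy).le (Subgroup.mem_map_of_mem φ ha))
  have h3 : ∀ w ∈ tw :: rw :: ys, ∀ i, (Nat.land A (mvM nets N L w)).testBit i = true ↔
      A.testBit i = true ∧ φ (ev y w) i ≠ i := fun w hw i => by
    rw [R.map_ev (h1 w hw), ← mvM_spec R.ok hN, ← Bool.and_eq_true]; exact Eq.congr_left (Nat.testBit_and ..)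
  have h4 : ∀ (b : K) i, φ b i ≠ i → i < 2 ^ L := fun b i h => lt_of_lt_of_le (not_le.1 fun hi => h (R.fix b hi)) hN
  have : popD L (Nat.land A (mvM nets N L rw)) = popD L (Nat.land A (mvM nets N L tw)) := by
    rw [popD_spec, popD_spec]
    have h5 : ∀ i, φ (ev y rw) i ≠ i ↔ φ (ev y tw) (φ a i) ≠ φ a i := fun i => by
      rw [← e, map_mul, map_mul, map_inv, Perm.mul_apply, Perm.mul_apply, Ne, Perm.inv_eq_iff_eq]
    refine Finset.card_nbij' (φ a) (fun i => (φ a)⁻¹ i) (fun i hi => ?_) (fun i hi => ?_) (fun i _ => by simp) fun i _ => by simp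
    · simp only [Finset.coe_filter, Finset.mem_range, Set.mem_ofPred_eq, h3 _ (by simp : tw ∈ _),
        h3 _ (by simp : rw ∈ _)] at hi ⊢
      exact ⟨h4 _ _ ((h5 i).1 hi.2.2), (h2 i).trans hi.2.1, (h5 i).1 hi.2.2⟩
    · simp only [Finset.coe_filter, Finset.mem_range, Set.mem_ofPred_eq, h3 _ (by simp : tw ∈ _),
        h3 _ (by simp : rw ∈ _)] at hi ⊢
      have h6 := (h5 ((φ a)⁻¹ i)).2 (by simpa using hi.2.2)
      exact ⟨h4 _ _ h6, by rw [← h2]; simpa using hi.2.1, h6⟩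
  rw [this] at hc
  simp at hc

theorem nc_top (R : PermRep y nets N nl φ) (hN : N ≤ 2 ^ L) {tw rw : List ℕ}
    (hl : chkLet (List.range nl) (tw :: rw :: sing (List.range nl)) = true)
    (hc : andB (chkClosed nets (sing (List.range nl)) (ivl 0 N)) (Nat.blt (popD L (Nat.land (ivl 0 N) (mvM nets N L tw)))
      (popD L (Nat.land (ivl 0 N) (mvM nets N L rw))) || Nat.blt (popD L (Nat.land (ivl 0 N) (mvM nets N L rw)))
      (popD L (Nat.land (ivl 0 N) (mvM nets N L tw)))) = true) :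
    ∀ a ∈ (⊤ : Subgroup K), a⁻¹ * ev y tw * a ≠ ev y rw := by
  rw [← R.top, ← genW_sing]; exact nc_of_mv R hN hl hc

noncomputable def startM (reps : List (ℕ × List ℕ)) : ℕ :=
  List.rec 0 (fun r _ ih => Nat.lor (Nat.shiftLeft 1 r.1) ih) reps

theorem startM_spec {reps : List (ℕ × List ℕ)} {p : ℕ} (h : p ∈ bset (startM reps)) : ∃ r ∈ reps, r.1 = p := by
  induction reps with
  | nil => exact absurd h (by simp [bset, startM])
  | cons r t ih =>
    have h' : (Nat.shiftLeft 1 r.1 ||| startM t).testBit p = true := h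
    rw [Nat.testBit_or, Bool.or_eq_true] at h'
    rcases h' with h' | h'
    · exact ⟨r, List.mem_cons_self, (testBit_one_shiftLeft h').symm⟩
    · obtain ⟨s, h1, h2⟩ := ih h'
      exact ⟨s, List.mem_cons_of_mem _ h1, h2⟩

noncomputable def chkCov (nets : List Net) (nl : ℕ) (xs fs : List (List ℕ)) (reps : List (ℕ × List ℕ)) (b A Z : ℕ)
    (prog : List ℕ) : Bool :=
  andB (chkLet (List.range nl) (xs ++ fs ++ reps.map (·.2))) (andB (allL reps fun r => chkPt nets r.2 r.1 b)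
    (seq A fun A => andB (chkClosed nets xs A) (andB (A.testBit b)
      (Nat.beq (Nat.land A (Nat.lor Z (orbRun nets fs prog (startM reps)))) A))))

/-- Double coset cover. -/
theorem dcover (R : PermRep y nets N nl φ) {xs fs : List (List ℕ)} {reps : List (ℕ × List ℕ)} {b A Z : ℕ}
    {prog : List ℕ} (hc : chkCov nets nl xs fs reps b A Z prog = true) {k : K} (hk : k ∈ genW y xs)
    (hZ : ¬ Z.testBit (φ k⁻¹ b) = true) : ∃ r ∈ reps, ∃ f ∈ genW y fs, φ (k * f * (ev y r.2)⁻¹) b = b := by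
  simp only [chkCov, andB_eq_true, seq_eq] at hc
  obtain ⟨hl, h1, h2, h3, h4⟩ := hc
  have h5 := lt_of_chkLet hl
  have hx : chkLet (List.range nl) xs = true := by
    simp only [chkLet, List.all_append, Bool.and_eq_true] at hl ⊢; exact hl.1.1
  have h6 := land_sub h4 ((testBit_of_chkClosed R.ok h2
    ((R.map_genW hx).le (Subgroup.mem_map_of_mem φ (inv_mem hk))) b).trans h3)
  rw [show ∀ a b : ℕ, Nat.lor a b = a ||| b from fun _ _ => rfl, Nat.testBit_or, Bool.or_eq_true] at h6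
  obtain ⟨r, hr, f, hf, e⟩ := Dce.orbRun_ind R.ok (ws := fs) (Q := fun p => ∃ r ∈ reps, ∃ f ∈ genW y fs, φ f r.1 = p)
    (fun w hw p ⟨r, hr, f, hf, e⟩ => ⟨r, hr, ev y w * f, mul_mem (mem_genW y hw) hf, by
      rw [map_mul, Perm.mul_apply, e, R.map_ev (h5 w (by simp [hw]))]⟩) prog
    (fun p hp => let ⟨r, hr, e⟩ := startM_spec hp; ⟨r, hr, 1, one_mem _, by rw [map_one, ← e]; rfl⟩) _
    (h6.resolve_left hZ)
  refine ⟨r, hr, f, hf, ?_⟩
  have h7 : φ (ev y r.2)⁻¹ b = r.1 := by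
    rw [map_inv, Perm.inv_eq_iff_eq, R.map_ev (h5 _ (List.mem_append_right _ (List.mem_map_of_mem hr))),
      ev_apply_of_chkPt R.ok (allL_spec h1 r hr)]
  rw [map_mul, Perm.mul_apply, h7, map_mul, Perm.mul_apply, e, ← Perm.mul_apply, ← map_mul, mul_inv_cancel, map_one]
  rfl

/-- The conjugates of `t` are indexed by points. -/
theorem good_of_X (R : PermRep y nets N nl φ) {t : K} {b : ℕ} (hC : ∀ k, φ k b = b → k * t = t * k)
    {fs : List (List ℕ)} (hF : genW y fs ≤ Fd ι d) {reps : List (ℕ × List ℕ)} {prog : List ℕ}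
    (hc : chkCov nets nl (sing (List.range nl)) fs reps b (orbRun nets fs prog (startM reps)) 0 prog = true)
    (h : ∀ r ∈ reps, Good ι d t M ((ev y r.2)⁻¹ * t * ev y r.2)) (r : K) : Good ι d t M r := by
  intro k v e1
  obtain ⟨s, hs, f, hf, e⟩ := dcover R hc (k := k) (by rw [genW_sing, R.top]; trivial) (by simp)
  have h1 := (h s hs).conj (hF hf)
  have e2 : f * ((ev y s.2)⁻¹ * t * ev y s.2) * f⁻¹ = r := by
    calc _ = k⁻¹ * (k * f * (ev y s.2)⁻¹ * t) * ev y s.2 * f⁻¹ := by group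
      _ = _ := by rw [hC _ e, ← e1]; group
  exact (e2 ▸ h1) k v e1

/-- One step of a centraliser computation in a permutation group. -/
theorem cent_step (R : PermRep y nets N nl φ) {t : K} {C S : Subgroup K} (hC : ∀ c ∈ C, c * t = t * c)
    {xs fs : List (List ℕ)} {b A Z : ℕ} (hS : ∀ k ∈ genW y xs, φ k b = b → k ∈ S)
    (h : ∀ k ∈ S, k * t = t * k → k ∈ C) (h1 : genW y fs ≤ C) (h2 : genW y fs ≤ genW y xs)
    (hZ : ∀ k, k * t = t * k → ¬ Z.testBit (φ k⁻¹ b) = true) {reps : List (ℕ × List ℕ)} {prog : List ℕ}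
    (hc : chkCov nets nl xs fs ((b, []) :: reps) b A Z prog = true)
    (hr : ∀ r ∈ reps, ev y r.2 ∈ genW y xs ∧ ∀ a ∈ S, a⁻¹ * t * a ≠ ev y r.2 * t * (ev y r.2)⁻¹) :
    ∀ k ∈ genW y xs, k * t = t * k → k ∈ C := by
  intro k hk e
  obtain ⟨r, hr', f, hf, e1⟩ := dcover R hc hk (hZ k e)
  have e2 : k * f * t = t * (k * f) := by rw [mul_assoc, hC f (h1 hf), ← mul_assoc, e, mul_assoc]
  rcases List.mem_cons.1 hr' with rfl | hr'
  · rw [ev_nil, inv_one, mul_one] at e1
    simpa using C.mul_mem (h _ (hS _ (mul_mem hk (h2 hf)) e1) e2) (C.inv_mem (h1 hf))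
  · refine absurd ?_ ((hr r hr').2 _ (hS _ (mul_mem (mul_mem hk (h2 hf)) (inv_mem (hr r hr').1)) e1))
    calc _ = ev y r.2 * (k * f)⁻¹ * (t * (k * f)) * (ev y r.2)⁻¹ := by group
      _ = _ := by rw [← e2]; group

theorem hZ_zero {t : K} {b : ℕ} (k : K) (_ : k * t = t * k) : ¬ (0 : ℕ).testBit (φ k⁻¹ b) = true := by simp

theorem hZ_mv (R : PermRep y nets N nl φ) (hN : N ≤ 2 ^ L) {tw : List ℕ} {b : ℕ}
    (hc : andB (chkLet (List.range nl) [tw]) (chkPt nets tw b b) = true) (k : K) (e : k * ev y tw = ev y tw * k) :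
    ¬ (mvM nets N L tw).testBit (φ k⁻¹ b) = true := by
  rw [andB_eq_true] at hc
  have h := R.map_ev (lt_of_chkLet hc.1 tw List.mem_cons_self)
  rw [mvM_spec R.ok hN, not_not, ← h, ← Perm.mul_apply, ← map_mul, show ev y tw * k⁻¹ = k⁻¹ * ev y tw by
    rw [eq_inv_mul_iff_mul_eq, ← mul_assoc, e, mul_inv_cancel_right], map_mul, Perm.mul_apply, h,
    ev_apply_of_chkPt R.ok hc.2]

theorem nc_of_comm {t u : K} {S : Subgroup K} (h : ∀ a ∈ S, a * t = t * a) (hu : u * t ≠ t * u) :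
    ∀ a ∈ S, a⁻¹ * t * a ≠ u * t * u⁻¹ := fun a ha e => hu (by
  rw [mul_assoc, ← h a ha, inv_mul_cancel_left] at e
  rw [← mul_inv_eq_iff_eq_mul, ← e])

/-- Point stabilisers along a chain. -/
theorem stab_step (R : PermRep y nets N nl φ) {xs ys : List (List ℕ)} {b n m : ℕ}
    (hx : Nat.card (genW y xs) = n * m) (hm : 0 < m) (h : CardGe (genW (PP nets) ys) m) (defs : List (List ℕ))
    (prog : List ℕ) (hc : andB (chkLet (List.range nl) (xs ++ ys)) (andB (ys == defs.map (renW xs))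
      (andB (chkClosed nets ys (Nat.shiftLeft 1 b)) (andB (chkPop L (orbRun nets xs prog (Nat.shiftLeft 1 b)) n)
      (Nat.blt 0 n)))) = true) : Nat.card (genW y ys) = m ∧ ∀ k ∈ genW y xs, φ k b = b → k ∈ genW y ys := by
  simp only [andB_eq_true, beq_iff_eq] at hc
  obtain ⟨hl, h1, h2, h3, h4⟩ := hc
  have hn := Dce.blt_spec h4
  simp only [chkLet, List.all_append, Bool.and_eq_true] at hl
  have : Finite (genW y xs) := Nat.finite_of_card_ne_zero (by rw [hx]; positivity)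
  have hle : genW y ys ≤ genW y xs := by
    rw [h1, ← genW_renG]; exact genW_le fun w _ => ev_mem _ _ fun x _ => renG_mem _ _ x
  let _ := MulAction.compHom ℕ φ
  let T := (MulAction.stabilizer (genW y xs) b).map (genW y xs).subtype
  have hT : genW y ys ≤ T := fun c hc => ⟨⟨c, hle hc⟩,
    fix_of_chkClosed R.ok h2 ((R.map_genW hl.2).le (Subgroup.mem_map_of_mem φ hc)), rfl⟩
  have e := Subgroup.index_mul_card (MulAction.stabilizer (genW y xs) b)
  rw [MulAction.index_stabilizer, ← Subgroup.card_map_of_injective (genW y xs).subtype_injective, hx] at e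
  have h5 : n ≤ (MulAction.orbit (genW y xs) b).ncard := by
    rw [← ncard_of_chkPop h3]
    refine Set.ncard_le_ncard (fun p hp => ?_) (Set.finite_range _)
    obtain ⟨⟨_, ha⟩, rfl⟩ := (orbSub_base (genW (PP nets) xs) b).run R.ok (prog := prog)
      (by rw [chkOrb, Nat.beq_eq]; exact Nat.and_self _) hp
    obtain ⟨a, ha', rfl⟩ := (R.map_genW hl.1).ge ha
    exact ⟨⟨a, ha'⟩, rfl⟩
  have h6 : Nat.card T ≤ m := Nat.le_of_mul_le_mul_left ((Nat.mul_le_mul_right _ h5).trans e.le) hn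
  have : Finite T := Finite.of_injective _ (Subgroup.inclusion_injective (Subgroup.map_subtype_le _))
  have h7 : m ≤ Nat.card (genW y ys) := CardGe.of_map φ (by rwa [R.map_genW hl.2])
    (Finite.of_injective _ (Subgroup.inclusion_injective hle))
  have h8 : genW y ys = T := Subgroup.eq_of_le_of_card_ge hT (h6.trans h7)
  exact ⟨le_antisymm (h8 ▸ h6) h7, fun k hk e => h8 ▸ ⟨⟨k, hk⟩, e, rfl⟩⟩

/-- The images of the base. -/
noncomputable def keyW (act : ℕ → ℕ → ℕ) (B w : List ℕ) : List ℕ := B.map (runA act w)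

noncomputable def chkEnum (act : ℕ → ℕ → ℕ) (B : List ℕ) (n : ℕ) (E : List (List ℕ × List ℕ)) : Bool :=
  andB (chkLet (List.range n) (E.map (·.1))) (andB (allL E fun e => keyW act B e.1 == e.2)
    (andB (allL E fun e => allN n fun x => (E.map (·.2)).contains (e.2.map (act x)))
      (andB (decide (E.map (·.2)).Nodup) ((E.map (·.2)).contains B))))

theorem eq_of_key {B : List ℕ} {act : ℕ → ℕ → ℕ} (h : PtAct φ N B y act) {a : K} {w : List ℕ}
    (e : B.map (φ a) = keyW act B w) : a = ev y w := by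
  rw [← inv_mul_eq_one]
  refine h.ext _ fun b hb hb' => ?_
  rw [map_mul, map_inv, Perm.mul_apply, Perm.inv_eq_iff_eq, h.run w b hb']
  exact (List.map_inj_left.1 e b hb).symm

/-- The list of all elements of a small subgroup. -/
theorem enum [Finite K] {B : List ℕ} {act : ℕ → ℕ → ℕ} (h : PtAct φ N B y act) (hB : ∀ b ∈ B, b < N) {n : ℕ}
    {E : List (List ℕ × List ℕ)} (hc : chkEnum act B n E = true) :
    (∀ a ∈ genL y (List.range n), ∃ e ∈ E, a = ev y e.1) ∧ Nat.card (genL y (List.range n)) = E.length := by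
  simp only [chkEnum, andB_eq_true, decide_eq_true_eq, List.contains_iff_mem] at hc
  obtain ⟨hl, h1, h2, h3, h4⟩ := hc
  have k1 : ∀ e ∈ E, B.map (φ (ev y e.1)) = e.2 := fun e he => by
    rw [← beq_iff_eq.1 (allL_spec h1 e he)]; exact List.map_congr_left fun b hb => h.run _ b (hB b hb)
  have k2 : ∀ a, B.map (φ a) ∈ E.map (·.2) → ∃ e ∈ E, a = ev y e.1 := fun a ha => by
    obtain ⟨e, he, e1⟩ := List.mem_map.1 ha
    exact ⟨e, he, eq_of_key h (e1.symm.trans (beq_iff_eq.1 (allL_spec h1 e he)).symm)⟩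
  have k3 : ∀ x < n, ∀ a, (∃ e ∈ E, a = ev y e.1) → ∃ e ∈ E, y x * a = ev y e.1 := by
    rintro x hx _ ⟨e, he, rfl⟩
    refine k2 _ ?_
    have := List.contains_iff_mem.1 (allN_spec (allL_spec h2 e he) x hx)
    rwa [← k1 e he, List.map_map, List.map_congr_left (g := φ (y x * ev y e.1)) fun b hb => by
      rw [map_mul, Perm.mul_apply, h.app _ _ (h.lt _ _ (hB b hb))]; rfl] at this
  have k4 : ∀ a ∈ genL y (List.range n), ∃ e ∈ E, a = ev y e.1 := fun a ha => by
    induction ha using Subgroup.closure_induction_left with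
    | one => exact k2 1 (by simpa using h4)
    | mul_left _ hx a _ ih => obtain ⟨x, hx, rfl⟩ := hx; exact k3 x (List.mem_range.1 hx) a ih
    | inv_mul_cancel _ hx a _ ih =>
      obtain ⟨x, hx, rfl⟩ := hx
      have : ∀ j, ∃ e ∈ E, y x ^ j * a = ev y e.1 := fun j => by
        induction j with
        | zero => simpa using ih
        | succ j ih => rw [pow_succ', mul_assoc]; exact k3 x (List.mem_range.1 hx) _ ih
      have e : (y x)⁻¹ = y x ^ (orderOf (y x) - 1) := by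
        rw [inv_eq_iff_mul_eq_one, ← pow_succ', Nat.sub_add_cancel (orderOf_pos _), pow_orderOf_eq_one]
      rw [e]; exact this _
  refine ⟨k4, ?_⟩
  classical
  have k5 : (E.map fun e => ev y e.1).Nodup := by
    have : E.map (·.2) = (E.map fun e => ev y e.1).map fun a => B.map (φ a) := by
      rw [List.map_map]; exact List.map_congr_left fun e he => (k1 e he).symm
    exact (this ▸ h3).of_map _
  rw [← List.length_map (f := fun e => ev y e.1), ← List.toFinset_card_of_nodup k5, ← Nat.card_eq_finsetCard]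
  refine Nat.card_congr (Equiv.subtypeEquivRight fun a => ?_)
  rw [List.mem_toFinset, List.mem_map]
  exact ⟨fun ha => let ⟨e, he, e1⟩ := k4 a ha; ⟨e, he, e1.symm⟩, fun ⟨e, he, e1⟩ => e1 ▸ ev_mem _ _ fun x hx =>
    mem_genL _ (List.mem_range.2 (lt_of_chkLet hl _ (List.mem_map_of_mem he) x hx))⟩

/-- Every element of the list is trivial, has the wrong order, or is conjugate to a representative. -/
noncomputable def chkCls (act : ℕ → ℕ → ℕ) (B : List ℕ) (p : ℕ) (hs : List (List ℕ)) (reps : List (List ℕ))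
    (E : List (List ℕ × List ℕ)) (cs : List (ℕ × List ℕ)) : Bool :=
  allN E.length fun j => (fun e c => iteB (e.2 == B) true (iteB (Nat.blt c.1 reps.length)
    (keyW act B (c.2 ++ renW hs e.1) == keyW act B (getL reps [] c.1 ++ c.2))
    (!(keyW act B (powW (renW hs e.1) p) == B)))) (getL E ([], []) j) (getL cs (0, []) j)

theorem good_of_S [Finite K] {B : List ℕ} {act : ℕ → ℕ → ℕ} (h : PtAct φ N B y act) (hB : ∀ b ∈ B, b < N) {t : K}
    {p c : ℕ} (hp : p.Prime) (ht : t ^ p = 1) (ht1 : t ≠ 1) (hF : ∀ x, y x ∈ Fd ι d) {hs reps : List (List ℕ)}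
    {E : List (List ℕ × List ℕ)} (h1 : Nat.card (Fd ι d) = E.length * c) (hc : ¬ p ∣ c) {cs : List (ℕ × List ℕ)}
    (h2 : andB (chkEnum (renA act hs) B hs.length E) (chkCls act B p hs reps E cs) = true)
    (h3 : ∀ r ∈ reps, Good ι d t M (ev y r)) : ∀ r, Good ι d t M r := by
  rw [andB_eq_true] at h2
  obtain ⟨k1, k2⟩ := enum (h.ren hs) hB h2.1
  refine good_of_sylow hp ht (genL_le fun x _ => ev_mem _ _ fun z _ => hF z) h1 k2 hc fun r hr => ?_
  obtain ⟨e, he, rfl⟩ := k1 r hr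
  obtain ⟨j, hj, rfl⟩ := List.getElem_of_mem he
  have h4 := allN_spec h2.2 j hj
  have k : ∀ w, B.map (φ (ev y w)) = keyW act B w := fun w => List.map_congr_left fun b hb => h.run _ b (hB b hb)
  simp only [getL_eq_getD, List.getD_eq_getElem _ _ hj, Dce.iteB_eq] at h4
  rw [ev_renG]
  split_ifs at h4 with c1 c2
  · refine good_of_nc0 fun a _ e => ht1 ?_
    simp only [chkEnum, andB_eq_true] at h2
    have h5 : (1 : K) = _ := eq_of_key (h.ren hs) (w := E[j].1) (by
      rw [beq_iff_eq.1 (allL_spec h2.1.2.1 _ he), beq_iff_eq.1 c1]; simp)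
    rw [← ev_renG, ← h5, mul_assoc, inv_mul_eq_one] at e
    exact mul_right_cancel (e.symm.trans (one_mul a).symm)
  · have h5 := eq_of_key h ((k _).trans (beq_iff_eq.1 h4))
    rw [ev_append, ev_append, ← eq_mul_inv_iff_mul_eq] at h5
    rw [h5]
    refine (h3 _ ?_).conj (ev_mem _ _ fun z _ => hF z)
    rw [List.getD_eq_getElem _ _ (Dce.blt_spec c2)]; exact List.getElem_mem _
  · refine good_of_nc0 fun a _ e => ?_
    rw [← k, ev_powW, ← e, show a⁻¹ * t * a = a⁻¹ * t * a⁻¹⁻¹ by rw [inv_inv], conj_pow, ht] at h4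
    simp at h4

end perm

section dce
variable {G K : Type} [Group G] [Group K] {ι : K →* G} {y : ℕ → K} {T : G} {φ : K →* Perm ℕ} {N : ℕ}
  {act : ℕ → ℕ → ℕ} {B : List ℕ} {tl ivc sgc cw cm : ℕ} {sts : List ℕ} {rels : List (List (List ℕ))}
  {subs : List (List ℕ)} {tab : ℕ → ℕ}

theorem gens_Fd (H : Dce.Hyp ι y T φ N act B tl ivc sgc sts rels) {n : ℕ}
    (hS : Dce.Steps (Dce.chkD tab act B tl ivc sgc cw cm sts rels subs) n) {gens : List ℕ} {p : ℕ}
    {fs : List (List ℕ)} (hc : andB (allL subs.flatten fun z => Nat.blt z tl)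
      (andB (allL gens (Dce.chkGen tab tl n p)) (Dce.genWs tab gens == fs)) = true) (x : ℕ) :
    renG y fs x ∈ Fd ι (ev (Dce.gD ι y T tl) (Dce.pw tab p)) := by
  simp only [andB_eq_true, beq_iff_eq] at hc
  have hF := H.facts (tab := tab) (x0 := basePt ι.range) (fun w hw => (smul_basePt_eq_iff _ _).2 ⟨ev y w, (Dce.ev_gD
    fun x hx => (Dce.blt_spec (allL_spec hc.1 x (List.mem_flatten.2 ⟨w, hw, hx⟩))).ne).symm⟩) hS
  refine getL_prop (p := fun w => ev y w ∈ Fd ι _) fs [] x (one_mem _) fun w hw => ?_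
  obtain ⟨f, hf, rfl⟩ := Dce.mem_genWs (hc.2.2 ▸ hw)
  have h7 := allL_spec hc.2.1 f hf
  simp only [Dce.chkGen, seqL_eq, andB_eq_true] at h7
  have h9 := hF f (Dce.blt_spec h7.1)
  rw [Dce.Fa, Nat.eq_of_beq_eq_true h7.2.1, Nat.eq_of_beq_eq_true h7.2.2.1,
    Dce.ev_gD fun x hx => (Dce.blt_spec (allL_spec h7.2.2.2 x hx)).ne] at h9
  exact h9

variable {D : BP} {As iv : List ℕ} {nb : ℕ} {ren : List (List ℕ)} {ρ : G →* (Matrix (Fin D.K) (Fin D.K) (ZMod D.p))ˣ}

noncomputable def chkOut (D : BP) (As iv : List ℕ) (ren : List (List ℕ)) (tl mc P Y : ℕ) (dw tw : List ℕ)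
    (us : List (List ℕ)) : Bool :=
  andB (andB (D.okV mc P) (andB (D.okV mc Y) (Nat.beq (D.mulB P Y) Y)))
    (andB (andB (chkLet (List.range (tl + 1)) [dw]) (chkLet (List.range tl) (tw :: us)))
      (seq (D.appB As (renW ren dw) Y) fun Y1 => allL us fun u =>
        seq (D.appB As (renW ren (u ++ tw) ++ invWd iv (renW ren (dw ++ u))) Y1) fun Z => !Nat.beq (D.mulB P Z) Z))

/-- Conjugates of `t` outside the stabiliser of a coset. -/
theorem not_mem_Fd (h : BRep D As nb iv (Dce.gD ι y T tl) (tl + 1) ren ρ) {mc P Y : ℕ}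
    (hP : ∀ k, (ρ (ι k)).val * D.bM P = D.bM P * ((ρ (ι k)).val * D.bM P)) {dw tw : List ℕ} {us : List (List ℕ)}
    (hc : chkOut D As iv ren tl mc P Y dw tw us = true) :
    ∀ u ∈ us, (ev y u)⁻¹ * ev y tw * ev y u ∉ Fd ι (ev (Dce.gD ι y T tl) dw) := by
  intro u hu hm
  simp only [chkOut, andB_eq_true, seq_eq] at hc
  obtain ⟨⟨h1, h2, h3⟩, ⟨l1, l2⟩, h4⟩ := hc
  obtain ⟨s, e⟩ := mem_Fd.1 hm
  have l3 := lt_of_chkLet l1 dw List.mem_cons_self
  have l4 := lt_of_chkLet l2 tw List.mem_cons_self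
  have l5 := lt_of_chkLet l2 u (List.mem_cons_of_mem _ hu)
  have g1 := BP.good_of_okV h.ok.ok h1
  have g2 := BP.good_of_okV h.ok.ok h2
  have a1 := h.ok.appB (renW ren dw) g2
  have a2 := h.ok.appB (renW ren (u ++ tw) ++ invWd iv (renW ren (dw ++ u))) a1.1
  have h5 := allL_spec h4 u hu
  have e1 : ev (Dce.gD ι y T tl) (dw ++ (u ++ tw)) = ev (Dce.gD ι y T tl) (dw ++ u) * ι s := by
    rw [ev_append, ev_append, ev_append, Dce.ev_gD fun x hx => (l4 x hx).ne, Dce.ev_gD fun x hx => (l5 x hx).ne,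
      mul_assoc, mul_assoc, ← e]
    simp only [map_mul, map_inv]; group
  have e2 := congrArg (fun a => (ρ a).val) e1
  have l6 : ∀ x ∈ dw ++ u, x < tl + 1 := fun x hx => (List.mem_append.1 hx).elim (l3 x) fun h => (l5 x h).trans (by simp)
  simp only [map_mul, Units.val_mul] at e2
  rw [h.map _ l6, h.map _ fun x hx => by
    rw [← List.append_assoc] at hx; exact (List.mem_append.1 hx).elim (l6 x) fun h => (l4 x h).trans (by simp)] at e2
  have e3 : D.bM (D.appB As (renW ren (u ++ tw) ++ invWd iv (renW ren (dw ++ u))) (D.appB As (renW ren dw) Y)) =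
      (ρ (ι s)).val * D.bM Y := by
    rw [a2.2, a1.2, ev_append, mul_assoc, ← mul_assoc (ev _ (renW ren (u ++ tw))), ← ev_append,
      show renW ren dw ++ renW ren (u ++ tw) = renW ren (dw ++ (u ++ tw)) from List.flatMap_append.symm, e2, mul_assoc, ← mul_assoc, (h.inv.invWd (lt_renW h.lt _)).2, one_mul]
  have e4 : D.bM P * D.bM Y = D.bM Y := by rw [← (BP.mulB_spec h.ok.ok g1 g2).2, Nat.eq_of_beq_eq_true h3]
  rw [BP.bM_inj h.ok.ok (BP.mulB_spec h.ok.ok g1 a2.1).1 a2.1 (by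
    rw [(BP.mulB_spec h.ok.ok g1 a2.1).2, e3, ← e4, ← mul_assoc (ρ (ι s)).val, ← mul_assoc, ← hP])] at h5
  simp at h5

theorem tri_of_comm {n R : Type} [Fintype n] [DecidableEq n] [CommRing R] {a P : Matrix n n R} (h : Commute a P)
    (hP : P * P = P) : a * P = P * (a * P) := by rw [← mul_assoc, ← h.eq, mul_assoc, hP]

theorem mAct {g : ℕ → G} {nf : ℕ} (h : BRep D As nb iv g nf ren ρ) (inj : Function.Injective ρ) {ws : List (List ℕ)}
    {es : List Ex} {Bs : List ℕ} (mc : ℕ) (hB : allL Bs (D.okV mc) = true)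
    (hl : andB (chkLet (List.range nf) ws) (es.map Ex.w == ws.map (renW ren)) = true)
    (hc : ∀ i < ws.length, Nat.beq (D.evE As (getL es (.lt 0) i)) (getL Bs 0 i) = true) :
    MAct D ρ Bs ws.length (renG g ws) :=
  ⟨inj, BP.ok_of_chk h.ok.ok mc hB, fun x hx => by
    rw [andB_eq_true, beq_iff_eq] at hl
    have hx' : x < es.length := by simpa [← List.length_map (f := Ex.w), hl.2] using hx
    have e : renW ren (getL ws [] x) = (getL es (.lt 0) x).w := by
      rw [getL_eq_getD, getL_eq_getD, List.getD_eq_getElem _ _ hx, List.getD_eq_getElem _ _ hx',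
        ← List.getElem_map Ex.w (h := by simpa using hx'), ← List.getElem_map (renW ren) (h := by simpa using hx)]
      simp only [hl.2]
    have hm : getL ws [] x ∈ ws := by rw [getL_eq_getD, List.getD_eq_getElem _ _ hx]; exact List.getElem_mem _
    rw [renG, h.map _ (lt_of_chkLet hl.1 _ hm), e, ← (h.ok.evE _).2, Nat.eq_of_beq_eq_true (hc x hx)]; rfl⟩

end dce

end Cfsg.Agent.Spor.Ct
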