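import Cfsg.Agent.Spor.Model
import Cfsg.Agent.Spor.J.J2m0
import Cfsg.Agent.Spor.J.J2m1
import Cfsg.Agent.Spor.J.J2m2
import Cfsg.Agent.Spor.J.J2mC

/-! Model of J2 on 100 points (generated certificate, helper23). -/

set_option Elab.async false
set_option maxRecDepth 100000
set_option exponentiation.threshold 100000

namespace Cfsg.Agent.Spor.MdJ2

open Equiv

/-- The model. -/
noncomputable abbrev G : Type := MG JJ2m2.nets 8

/-- The letters. -/
noncomputable abbrev g : ℕ → G := mg JJ2m2.nets 8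

theorem he : g 255 = 1 := mg_255 _ (by decide)

/-- The permutation representation of degree 100. -/
noncomputable abbrev φ : G →* Perm ℕ := (MG JJ2m2.nets 8).subtype

theorem rep : PermRep g JJ2m2.nets 100 8 φ := mrep JJ2m2.ok _

theorem inj : Function.Injective φ := Subtype.val_injective

theorem hg : ∀ r ∈ JJ2m2.rels, ev g r = 1 := rep.ev_eq_one inj (by decide +kernel) JJ2m2.hP

/-- The point stabiliser. -/
noncomputable abbrev H : Subgroup G := genW g JJ2m2.subs

theorem stab : IsStab φ H 0 :=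
  rep.isStab (by decide +kernel) (by decide +kernel) (JJ2m2.mem he hg rep.hφ)

theorem mapH : H.map φ = genW (PP JJ2m2.nets) JJ2m2.subs := rep.map_genW (by decide +kernel)


theorem otr : OrbSub (genW (PP JJ2m2.nets) (sing (List.range 8))) 0 (ivl 0 100) :=
  (orbSub_base _ _).run JJ2m2.ok (prog := [7, 0, 2, 4, 6, 2, 7, 4, 2, 0, 4, 6]) (by decide +kernel)

theorem trans : Trans φ 100 0 := rep.trans (by decide) otr

theorem index : H.index = 100 := rep.index_eq stab trans

noncomputable def A0 : ℕ := (nat_lit 0x7dc72096acc7c07e200008800)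

theorem o0 : OrbSub (genW (PP JJ2m2.nets) JJ2m2.subs) 11 A0 :=
  (orbSub_base _ _).run JJ2m2.ok (prog := [0, 1, 2, 1, 2, 1, 3, 2, 1]) (by decide +kernel)

theorem cl0 : chkClosed JJ2m2.nets JJ2m2.subs A0 = true := by decide +kernel

theorem pop0 : chkPop 7 A0 36 = true := by decide +kernel

theorem orb0 : IsOrb (H.map φ) (11, A0, 36) := by
  rw [mapH]; exact isOrb_of_chk JJ2m2.ok o0 (by decide +kernel) cl0 pop0

noncomputable def A1 : ℕ := (nat_lit 0x8238df6953383f81dffff77fe)

theorem o1 : OrbSub (genW (PP JJ2m2.nets) JJ2m2.subs) 1 A1 :=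
  (orbSub_base _ _).run JJ2m2.ok (prog := [0, 1, 2, 3, 1, 2, 2, 3, 0]) (by decide +kernel)

theorem cl1 : chkClosed JJ2m2.nets JJ2m2.subs A1 = true := by decide +kernel

theorem pop1 : chkPop 7 A1 63 = true := by decide +kernel

theorem orb1 : IsOrb (H.map φ) (1, A1, 63) := by
  rw [mapH]; exact isOrb_of_chk JJ2m2.ok o1 (by decide +kernel) cl1 pop1

theorem coatom : IsCoatom H :=
  rep.isCoatom stab trans (by decide) (orbs := [(11, A0, 36), (1, A1, 63)])
    (by simp only [List.forall_mem_cons, List.not_mem_nil, IsEmpty.forall_iff, implies_true, and_true]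
        exact ⟨orb0, orb1⟩) (by decide +kernel) (ns := [36, 63]) rfl (by decide +kernel)

theorem up (G : Type) [Group G] (g : ℕ → G) (_ : g 255 = 1) (hg : ∀ r ∈ JJ2m2.rels, ev g r = 1) :
    CardLe (genW g (sing (List.range 8))) 604800 :=
  have u0 : CardLe (genW g [[0], [1], [2], [3], [4], [5]]) 96 :=
    (cardLe_genW_nil g).job (JJ2m0.relIndex_le (renG_255 g (by decide)) (renG_rels (rels_of_sub hg (by decide +kernel))))
      (by decide +kernel) rfl (by decide)
  have u1 : CardLe (genW g [[0], [1], [2], [3], [4], [5], [6]]) 6048 :=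
    (u0).job (JJ2m1.relIndex_le (renG_255 g (by decide)) (renG_rels (rels_of_sub hg (by decide +kernel))))
      (by decide +kernel) rfl (by decide)
  have u2 : CardLe (genW g [[0], [1], [2], [3], [4], [5], [6], [7]]) 604800 :=
    (u1).job (JJ2m2.relIndex_le (renG_255 g (by decide)) (renG_rels (rels_of_sub hg (by decide +kernel))))
      (by decide +kernel) rfl (by decide)
  u2

noncomputable def x8 : Net :=
  Net.cons 1 (nat_lit 0x515104045150511405150040) <|
  Net.cons 2 (nat_lit 0x311111203333100312232000) <|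
  Net.cons 4 (nat_lit 0xc0c0b0d050a0e0000080a00) <|
  Net.cons 8 (nat_lit 0x43008c0070000500900004) <|
  Net.cons 16 (nat_lit 0x250400002b8200000004) <|
  Net.cons 32 (nat_lit 0x20000000045103280) <|
  Net.cons 64 (nat_lit 0xb6550bbac) <|
  Net.cons 32 (nat_lit 0x400000000c104b84c) <|
  Net.cons 16 (nat_lit 0x154e0000139a00004c98) <|
  Net.cons 8 (nat_lit 0x6b00b400e30018007600c8) <|
  Net.cons 4 (nat_lit 0x70809050108060d0c0d0e04) <|
  Net.cons 2 (nat_lit 0x2323130233303111301220020) <|
  Net.cons 1 (nat_lit 0x5501555440510145450454440) <|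
  Net.nil

noncomputable def x9 : Net :=
  Net.cons 1 (nat_lit 0x1114511145441404515050000) <|
  Net.cons 2 (nat_lit 0x2110302231110231012233000) <|
  Net.cons 4 (nat_lit 0xb09060b0b080c0900050308) <|
  Net.cons 8 (nat_lit 0x8300aa00bc0020007b0000) <|
  Net.cons 16 (nat_lit 0x23100002b2800000008) <|
  Net.cons 32 (nat_lit 0xc31de050) <|
  Net.cons 64 (nat_lit 0x8d73fef50) <|
  Net.cons 32 (nat_lit 0xcb37c440) <|
  Net.cons 16 (nat_lit 0xde0b000099af0000d938) <|
  Net.cons 8 (nat_lit 0x9700ea003e001600b60028) <|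
  Net.cons 4 (nat_lit 0xf02020e0b0003090e0208) <|
  Net.cons 2 (nat_lit 0x3112300011122101122213020) <|
  Net.cons 1 (nat_lit 0x1444411505514011401145010) <|
  Net.nil

noncomputable def x10 : Net :=
  Net.cons 1 (nat_lit 0x5510150155055144411510000) <|
  Net.cons 2 (nat_lit 0x2010002232003030002003200) <|
  Net.cons 4 (nat_lit 0xe010a0b020e0a0e060e0a04) <|
  Net.cons 8 (nat_lit 0x5c00920011002300840001) <|
  Net.cons 16 (nat_lit 0x23b0000901000000003) <|
  Net.cons 32 (nat_lit 0x10000000063082030) <|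
  Net.cons 64 (nat_lit 0xe6b9c20b3) <|
  Net.cons 32 (nat_lit 0xe00000000738c8235) <|
  Net.cons 16 (nat_lit 0xe65000020e200004086) <|
  Net.cons 8 (nat_lit 0xe5005700a5005300030049) <|
  Net.cons 4 (nat_lit 0x902020e0300080a0b0004) <|
  Net.cons 2 (nat_lit 0x3222332230222011033102200) <|
  Net.cons 1 (nat_lit 0x411450540455114451011104) <|
  Net.nil

noncomputable def nets2 : List Net := JJ2m2.nets ++ [x8, x9, x10]

theorem ok2 : netsOk 100 nets2 = true := by decide +kernel

theorem lo3 : CardGe (genL (PP nets2) [10]) 3 :=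
  CardGe.stepL (L := 7) (b := 2) (n := 3) (ys := []) (prog := [0, 0]) ok2 (cardGe_one _)
    (genL_mono _ (by decide)) (by decide +kernel) (by decide +kernel)

theorem lo2 : CardGe (genL (PP nets2) [8, 9]) 96 :=
  CardGe.stepL (L := 7) (b := 4) (n := 32) (ys := [10]) (prog := [0, 1, 0, 1, 1, 0, 1, 0, 1]) ok2 (lo3)
    (genL_le_of_defs (defs := [[8, 9, 8, 9, 8, 9, 9, 8]]) (by decide +kernel) rfl
      (ev_eq_of_chkEq (L := 7) ok2 (by decide) (by decide +kernel))) (by decide +kernel) (by decide +kernel)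

theorem lo1 : CardGe (genL (PP nets2) [0, 1, 2, 3, 4, 5, 6]) 6048 :=
  CardGe.stepL (L := 7) (b := 1) (n := 63) (ys := [8, 9]) (prog := [0, 2, 4, 6, 2, 4, 4, 6, 0]) ok2 (lo2)
    (genL_le_of_defs (defs := [[6, 5, 6, 0], [2, 2, 5, 2, 2, 0]]) (by decide +kernel) rfl
      (ev_eq_of_chkEq (L := 7) ok2 (by decide) (by decide +kernel))) (by decide +kernel) (by decide +kernel)

theorem lo0 : CardGe (genL (PP nets2) (List.range 8)) 604800 :=
  CardGe.stepL (L := 7) (b := 0) (n := 100) (ys := [0, 1, 2, 3, 4, 5, 6]) (prog := [7, 0, 2, 4, 6, 2, 7, 4, 2, 0, 4, 6]) ok2 (lo1)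
    (genL_mono _ (by decide)) (by decide +kernel) (by decide +kernel)

theorem card : Nat.card G = 604800 := ((rep.append rfl ok2).card_eq (up _ g he hg) lo0).1

theorem pw : ev g [4, 7, 3] ^ 5 = 1 := by
  rw [← ev_powW]
  exact rep.ev_eq_one inj (ws := [powW [4, 7, 3] 5]) (by decide +kernel)
    (ev_eq_one_of_chkId (L := 7) JJ2m2.ok (by decide) (by decide +kernel)) _ List.mem_cons_self

theorem cardH : Nat.card H = 6048 := card_of_index index card (by decide) (by decide)

theorem ncl : Subgroup.normalClosure {ev g [4, 7, 3]} = ⊤ :=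
  normalClosure_eq_top rep.top (genW_le_of_seeds (JJ2mC.seedsOk (quoG_255 he _)
    (rels_of_sub (quoG_rels hg _) (by decide +kernel)) (subs_basePt _ _)) (by decide +kernel))

theorem simple : IsSimpleGroup G :=
  rep.isSimpleGroup stab trans inj coatom pw (by rw [cardH]; decide +kernel) ncl

theorem model : Model g 8 604800 JJ2m2.rels := ⟨simple, card, rep.top, he, hg, up⟩

end Cfsg.Agent.Spor.MdJ2
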