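import Cfsg.Agent.Spor.Cent2

/-! Further lemmas for centraliser computations (helper23). -/

namespace Cfsg.Agent.Spor.Ct

open Equiv

section
variable {K : Type} [Group K] {y : ℕ → K} {nets : List Net} {N nl L : ℕ} {φ : K →* Perm ℕ}

/-- The stabiliser of a point, for an action that need not be faithful. -/
theorem stab_top (R : PermRep y nets N nl φ) {ys : List (List ℕ)} {b n m : ℕ} (hx : Nat.card K = n * m) (hm : 0 < m)
    (h : CardGe (genW y ys) m) (prog : List ℕ) (hc : andB (chkLet (List.range nl) ys)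
      (andB (chkClosed nets ys (Nat.shiftLeft 1 b)) (andB (chkPop L (orbRun nets (sing (List.range nl)) prog
      (Nat.shiftLeft 1 b)) n) (Nat.blt 0 n))) = true) : Nat.card (genW y ys) = m ∧ ∀ k, φ k b = b → k ∈ genW y ys := by
  simp only [andB_eq_true] at hc
  obtain ⟨hl, h2, h3, h4⟩ := hc
  have hn := Dce.blt_spec h4
  have : Finite K := Nat.finite_of_card_ne_zero (by rw [hx]; positivity)
  let _ := MulAction.compHom ℕ φ
  have hT : genW y ys ≤ MulAction.stabilizer K b := fun c hc =>
    fix_of_chkClosed R.ok h2 ((R.map_genW hl).le (Subgroup.mem_map_of_mem φ hc))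
  have e := Subgroup.index_mul_card (MulAction.stabilizer K b)
  rw [MulAction.index_stabilizer, hx] at e
  have h5 : n ≤ (MulAction.orbit K b).ncard := by
    rw [← ncard_of_chkPop h3]
    refine Set.ncard_le_ncard (fun p hp => ?_) (Set.finite_range _)
    obtain ⟨⟨_, ha⟩, rfl⟩ := (orbSub_base (genW (PP nets) (sing (List.range nl))) b).run R.ok (prog := prog)
      (by rw [chkOrb, Nat.beq_eq]; exact Nat.and_self _) hp
    obtain ⟨a, -, rfl⟩ := (R.map_genW (chkLet_sing nl)).ge ha
    exact ⟨a, rfl⟩
  have h6 : Nat.card (MulAction.stabilizer K b) ≤ m :=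
    Nat.le_of_mul_le_mul_left ((Nat.mul_le_mul_right _ h5).trans e.le) hn
  have h8 := Subgroup.eq_of_le_of_card_ge hT (h6.trans (h inferInstance))
  exact ⟨le_antisymm (h8 ▸ h6) (h inferInstance), fun k e => h8 ▸ e⟩

theorem cardGe_of_rep (R : PermRep y nets N nl φ) {ys : List (List ℕ)} {m : ℕ} {B : List ℕ}
    (h : BaseGe (genW (PP nets) ys) m B) (hl : chkLet (List.range nl) ys = true) : CardGe (genW y ys) m :=
  CardGe.of_map φ (by rw [R.map_genW hl]; exact h.cardGe)

end

variable {A : Type} [Group A] {a : ℕ → A} {E : List (List ℕ × List ℕ)}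

theorem not_mem_of_card {N : Subgroup A} {n k : ℕ} (hc : Nat.card N = n) {x : A} (hx : x ^ k = 1) (h1 : x ≠ 1)
    (h : k.Coprime n) : x ∉ N := fun e => h1 (orderOf_eq_one_iff.1 (Nat.eq_one_of_dvd_coprimes h
      (orderOf_dvd_of_pow_eq_one hx) (hc ▸ N.orderOf_dvd_natCard e)))

open _root_.Classical in
theorem card_ext {qs : List ℕ} [(genL a qs).Normal] {w p : ℕ} (hp : p.Prime) (h : a w ^ p ∈ genL a qs) :
    Nat.card (genL a (qs ++ [w])) = (if a w ∈ genL a qs then 1 else p) * Nat.card (genL a qs) := by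
  have e : genL a (qs ++ [w]) = (Subgroup.zpowers (a w : A ⧸ genL a qs)).comap (QuotientGroup.mk' _) := by
    rw [← QuotientGroup.mk'_apply, ← MonoidHom.map_zpowers, Subgroup.comap_map_eq, QuotientGroup.ker_mk']
    refine le_antisymm (genL_le fun x hx => ?_) (sup_le (Subgroup.zpowers_le.2 (mem_genL _ (by simp)))
      (genL_le fun x hx => mem_genL _ (List.mem_append_left _ hx)))
    rcases List.mem_append.1 hx with hx | hx
    · exact Subgroup.mem_sup_right (mem_genL _ hx)
    · exact List.mem_singleton.1 hx ▸ Subgroup.mem_sup_left (Subgroup.mem_zpowers _)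
  have := Fact.mk hp
  rw [e, mul_comm]
  refine (QuotientGroup.card_preimage_mk _ (↑(Subgroup.zpowers (a w : A ⧸ genL a qs)) : Set (A ⧸ genL a qs))).trans ?_
  congr 1
  refine (Nat.card_zpowers _).trans ?_
  split_ifs with c
  · rw [(QuotientGroup.eq_one_iff _).2 c, orderOf_one]
  · exact orderOf_eq_prime ((QuotientGroup.mk_pow ..).symm.trans ((QuotientGroup.eq_one_iff _).2 h))
      fun e => c ((QuotientGroup.eq_one_iff _).1 e)

theorem Eqs.pow_mem (h : Eqs a E) {qs : List ℕ} (x k : ℕ) (hc : chkIn E qs [List.replicate k x] = true) :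
    a x ^ k ∈ genL a qs := by
  have := h.mem hc _ List.mem_cons_self
  rwa [ev_congr (g' := fun _ => a x) (fun z hz => by rw [List.eq_of_mem_replicate hz]), ev_const,
    List.length_replicate] at this

theorem genL_one (z : ℕ) : genL a [z] = Subgroup.zpowers (a z) :=
  le_antisymm (genL_le fun _ hx => List.mem_singleton.1 hx ▸ Subgroup.mem_zpowers _)
    (Subgroup.zpowers_le.2 (mem_genL _ List.mem_cons_self))

theorem center_cent {G : Type} [Group G] {Y : ℕ → G} (z : ℕ) :
    genL (subG (Subgroup.centralizer {Y z}) Y) [z] ≤ Subgroup.center _ := genL_le fun x hx => by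
  rw [List.mem_singleton.1 hx, Subgroup.mem_center_iff]
  intro g
  refine Subtype.ext ?_
  rw [Subgroup.coe_mul, Subgroup.coe_mul, coe_subG (Subgroup.mem_centralizer_singleton_iff.2 rfl)]
  exact Subgroup.mem_centralizer_singleton_iff.1 g.2

theorem center_eq {U : Type} [Group U] {N : Subgroup A} [N.Normal] (h : N ≤ Subgroup.center A) (e : A ⧸ N ≃* U)
    (hU : Subgroup.center U = ⊥) : Subgroup.center A = N := by
  have k : ((e : A ⧸ N →* U).comp (QuotientGroup.mk' N)).ker = N := by
    rw [← MonoidHom.comap_ker, (MonoidHom.ker_eq_bot_iff _).2 e.injective, MonoidHom.comap_bot, QuotientGroup.ker_mk']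
  exact (center_eq_ker _ (e.surjective.comp (QuotientGroup.mk'_surjective N)) hU (k.le.trans h)).trans k

/-- A group generated by squares has no subgroup of index two. -/
theorem Eqs.index_ne_two (h : Eqs a E) {xs : List ℕ} (top : genL a xs = ⊤) (hc : (xs.all fun x =>
      E.contains ([x, x, x], []) || E.any fun e => e.2 == [x] && e.1 == e.1.take (e.1.length / 2) ++ e.1.take (e.1.length / 2))
      = true) (L : Subgroup A) : L.index ≠ 2 := fun hL => by
  have k : ∀ b, b * b ∈ L := fun b => L.mul_self_mem_of_index_two hL b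
  have : L = ⊤ := top_unique (top.ge.trans (genL_le fun x hx => by
    have := List.all_eq_true.1 hc x hx
    simp only [Bool.or_eq_true, List.any_eq_true, Bool.and_eq_true, beq_iff_eq] at this
    rcases this with c | ⟨e, he, c1, c2⟩
    · have c2 := h.eq _ _ c
      have := k (a x * a x)
      rwa [← mul_assoc, show a x * a x * a x = 1 by simpa using c2, one_mul] at this
    · have := h e he
      rw [c1, c2, ev_append, ev_one] at this
      exact this ▸ k _))
  rw [this, Subgroup.index_top] at hL
  exact absurd hL (by decide)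

theorem nonsplit {U : Type} [Group U] {N : Subgroup A} [N.Normal] (h : N ≤ Subgroup.center A) (e : A ⧸ N ≃* U)
    (hU : Subgroup.center U = ⊥) (hN : Nat.card N = 2) (hL : ∀ L : Subgroup A, L.index ≠ 2) :
    Cfsg.IsNonsplitDoubleCover A U := by
  have h1 := center_eq h e hU
  exact ⟨h1 ▸ hN, ⟨(QuotientGroup.quotientMulEquivOfEq h1).trans e⟩, fun L hL' => hL L (by
    rw [hL'.index_eq_card, h1, hN])⟩

theorem cent_congr {G P : Type} [Group G] [Group P] (e : G ≃* P) (t : G) :
    Nonempty (Subgroup.centralizer ({t} : Set G) ≃* Subgroup.centralizer ({e t} : Set P)) := by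
  refine ⟨(e.subgroupMap _).trans (MulEquiv.subgroupCongr (Subgroup.ext fun x => ?_))⟩
  refine Subgroup.mem_map_equiv.trans ?_
  rw [Subgroup.mem_centralizer_singleton_iff, Subgroup.mem_centralizer_singleton_iff,
    ← e.apply_eq_iff_eq, map_mul, map_mul, e.apply_symm_apply]

end Cfsg.Agent.Spor.Ct
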