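import Cfsg.Agent.Spor.J4G
import Cfsg.Agent.Spor.Cent3
import Cfsg.Agent.Known.M22Eq

/-! The centraliser of an involution in the fourth Janko group (generated certificate, helper23). -/

set_option Elab.async false
set_option maxRecDepth 100000
set_option exponentiation.threshold 100000

namespace Cfsg.Agent.Spor.J4C

open Equiv

def tw : List ℕ := [3]

noncomputable def Yv : ℕ := J4M.D.spread 1 14 (nat_lit 0x6bda596509b4f4)

noncomputable def nets : List Net := [J4H.n0, J4H.n1, J4H.n1.rev, Net.nil]

theorem ok : netsOk 2048 nets = true := by decide +kernel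

theorem ex : ∃ ψ, PermRep J4H.g nets 2048 4 ψ :=
  permRep_of_lifts J4H.lifts J4H.rep.top ok (ev_eq_one_of_chkId (L := 11) ok (by decide) (by decide +kernel))

end Cfsg.Agent.Spor.J4C
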