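import Cfsg.Agent.Spor.J4G
import Cfsg.Agent.Spor.Cent3
import Cfsg.Agent.Known.M22Eq
import Cfsg.Agent.Spor.J4CT0

/-! The centraliser of an involution in the fourth Janko group (generated certificate, helper23). -/

set_option Elab.async false
set_option maxRecDepth 100000
set_option exponentiation.threshold 100000

namespace Cfsg.Agent.Spor.J4C

open Equiv

def r1_0 : List (ℕ × List ℕ) := [(1, [])]

theorem o1_0 : Ct.chkOut J4M.D J4M.As J4M.iv (J4G.R.map (renW J4G.Rp)) 11 1 J4M.P Yv (Dce.pw J4D.tab.at (getL J4D.nm 0 1)) tw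
    (r1_0.map (·.2)) = true := by decide +kernel

def r2_0 : List (ℕ × List ℕ) := [(1, []), (2, [0]), (4, [1, 0]), (11, [1, 0, 2, 0]), (235, [0, 1, 0, 1, 0, 1, 0, 2, 0]), (1141, [0, 1, 0, 2, 0, 1, 0, 2, 0, 1, 0, 1, 0, 2, 0])]

theorem o2_0 : Ct.chkOut J4M.D J4M.As J4M.iv (J4G.R.map (renW J4G.Rp)) 11 1 J4M.P Yv (Dce.pw J4D.tab.at (getL J4D.nm 0 2)) tw
    (r2_0.map (·.2)) = true := by decide +kernel

def r3_0 : List (ℕ × List ℕ) := [(1, []), (4, [1, 0]), (8, [0, 1, 0]), (207, [0, 1, 0, 2, 0, 2, 0, 2, 0]), (420, [1, 0, 1, 0, 1, 0, 1, 0, 2, 0]), (607, [0, 2, 0, 2, 0, 1, 0, 2, 0, 1, 0, 1, 0])]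

theorem o3_0 : Ct.chkOut J4M.D J4M.As J4M.iv (J4G.R.map (renW J4G.Rp)) 11 1 J4M.P Yv (Dce.pw J4D.tab.at (getL J4D.nm 0 3)) tw
    (r3_0.map (·.2)) = true := by decide +kernel

def r4_0 : List (ℕ × List ℕ) := [(1, []), (4, [1, 0])]

theorem o4_0 : Ct.chkOut J4M.D J4M.As J4M.iv (J4G.R.map (renW J4G.Rp)) 11 1 J4M.P Yv (Dce.pw J4D.tab.at (getL J4D.nm 0 4)) tw
    (r4_0.map (·.2)) = true := by decide +kernel

def r5_0 : List (ℕ × List ℕ) := [(1, []), (2, [0]), (6, [0, 2, 0]), (179, [2, 0, 1, 0, 1, 0, 1, 0]), (233, [0, 2, 0, 1, 0, 1, 0, 2, 0]), (416, [1, 0, 2, 0, 1, 0, 1, 0, 2, 0]), (1695, [0, 2, 0, 2, 0, 2, 0, 2, 0, 1, 0, 1, 0, 2, 0]), (1554, [1, 0, 2, 0, 2, 0, 2, 0, 2, 0, 1, 0, 1, 0, 2, 0])]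

theorem o5_0 : Ct.chkOut J4M.D J4M.As J4M.iv (J4G.R.map (renW J4G.Rp)) 11 1 J4M.P Yv (Dce.pw J4D.tab.at (getL J4D.nm 0 5)) tw
    (r5_0.map (·.2)) = true := by decide +kernel

def r6_0 : List (ℕ × List ℕ) := [(1, []), (6, [0, 2, 0]), (14, [2, 0, 1, 0]), (34, [2, 0, 2, 0, 2, 0])]

theorem o6_0 : Ct.chkOut J4M.D J4M.As J4M.iv (J4G.R.map (renW J4G.Rp)) 11 1 J4M.P Yv (Dce.pw J4D.tab.at (getL J4D.nm 0 6)) tw
    (r6_0.map (·.2)) = true := by decide +kernel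

end Cfsg.Agent.Spor.J4C
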