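import Cfsg.Agent.Spor.J4G
import Cfsg.Agent.Spor.Cent3
import Cfsg.Agent.Known.M22Eq
import Cfsg.Agent.Spor.J4CO0
import Cfsg.Agent.Spor.J4CT0

/-! The centraliser of an involution in the fourth Janko group (generated certificate, helper23). -/

set_option Elab.async false
set_option maxRecDepth 100000
set_option exponentiation.threshold 100000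

namespace Cfsg.Agent.Spor.J4C

open Equiv

def f1 : List (List ℕ) := [[0], [0, 1, 0, 1, 0, 2, 0, 2, 0, 1, 0, 1, 0, 1, 0, 2, 0, 1, 0, 2, 0, 1, 0, 2, 0, 1, 0, 2, 0, 2, 0, 2, 0, 1, 0, 1, 0, 2, 0, 2, 0, 2, 0, 2, 0, 1, 0, 2, 0, 3, 0, 1, 0, 2, 3, 0, 1, 0, 1], [0, 1, 0, 2, 0, 1, 0, 2, 0, 1, 0, 2, 0, 1, 0, 1, 0, 1, 0, 2, 0, 2, 0, 2, 0, 2, 0, 2, 0, 1, 0, 2, 0, 1, 0, 1, 0, 2, 0, 1, 0, 2, 0, 1, 0, 2, 0, 2, 0, 2, 0, 2, 0, 2, 3, 0, 1, 0, 2, 0, 1, 3, 0, 1, 0], [2, 0, 2, 0, 1, 0, 1, 0, 1, 0, 1, 0, 2, 0, 1, 0, 2, 0, 2, 0, 2, 0, 1, 0, 1, 0, 2, 0, 1, 0, 2, 0, 1, 0, 2, 0, 1, 0, 1, 0, 1, 0, 2, 0, 1, 0, 2, 0, 1, 0, 1, 0, 2, 0, 1, 0, 3, 0, 1, 3, 0, 2, 0], [0, 1, 0, 2, 0, 1, 0, 1, 0, 2,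 0, 1, 0, 1, 0, 2, 0, 2, 0, 2, 0, 2, 0, 2, 0, 1, 0, 1, 0, 2, 0, 2, 0, 2, 0, 1, 0, 2, 0, 2, 0, 1, 0, 1, 0, 1, 0, 3, 0, 2, 3, 0, 1, 0, 2, 3, 0, 1]]

theorem F1 : genW J4L.yK f1 ≤ Ct.Fd J4G.ι (ev (Dce.gD J4G.ι J4L.yK J4G.T 11) (Dce.pw J4D.tab.at (getL J4D.nm 0 1))) :=
  Ct.genW_le_of_keys J4L.paK (by decide) (Ct.gens_Fd J4G.hyp J4D.steps (gens := [4, 5, 6, 7, 8])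
    (fs := [[4, 6, 5, 6, 5, 6, 7, 4, 7, 5, 8, 4, 4, 7], [6, 8, 4, 6, 9, 6, 5, 9, 7, 6, 9], [5, 7, 4, 4, 7, 4, 6, 8, 9, 6, 8, 6, 9, 5], [6, 5, 8, 9, 4, 6, 9, 7, 5, 6, 9], [5, 6, 5, 6, 7, 5, 6, 5, 7, 6, 4, 6, 9, 6, 8, 6, 4]]) (by decide +kernel)) [[0], [1], [2], [3], [4]] (by decide +kernel)

def s1 : List (ℕ × List ℕ) := [(14, [2, 0, 1, 0]), (420, [1, 0, 1, 0, 1, 0, 1, 0, 2, 0]), (419, [2, 0, 1, 0, 1, 0, 1, 0, 2, 0])]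

theorem cv1 : Ct.chkCov nets 4 (sing (List.range 4)) f1 (r1_0 ++ s1) 1
    (orbRun nets f1 [0, 4, 0, 3, 0, 1, 0, 4, 0, 2, 0, 4, 0, 1, 0, 4, 0, 4] (Ct.startM (r1_0 ++ s1))) 0 [0, 4, 0, 3, 0, 1, 0, 4, 0, 2, 0, 4, 0, 1, 0, 4, 0, 4] = true := by decide +kernel

def f2 : List (List ℕ) := [[1, 0, 1, 0, 1, 0, 2, 0, 1, 0, 1, 0, 1, 0, 2, 0, 2, 0, 1, 0, 2, 0, 1, 0, 2, 0, 2, 0, 2, 0, 2, 0, 1, 0, 1, 0, 1, 0, 2, 0, 2, 0, 2, 0, 2, 0, 1, 3, 0, 1, 3, 0], [1, 0, 1, 0, 2, 0, 2, 0, 2, 0, 1, 0, 1, 0, 1, 0, 1, 0, 2, 0, 2, 0, 2, 0, 2, 0, 1, 0, 2, 0, 2, 0, 2, 0, 1, 0, 1, 0, 2, 0, 2, 0, 1, 0, 1, 0, 1, 3, 0, 1, 3, 0, 1, 0, 1, 0, 1, 3, 0], [0, 1, 0, 1, 0, 1, 0, 2, 0, 1, 0, 2, 0, 2, 0, 1, 0,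 1, 0, 1, 0, 2, 0, 1, 0, 1, 0, 1, 0, 1, 0, 1, 0, 1, 0, 1, 0, 2, 0, 1, 0, 1, 0, 3, 0, 1, 0, 2, 3, 0, 2, 0, 2], [0, 1, 0, 1, 0, 2, 0, 2, 0, 1, 0, 1, 0, 2, 0, 2, 0, 1, 0, 2, 0, 1, 0, 2, 0, 2, 0, 2, 0, 2, 0, 1, 0, 2, 0, 1, 0, 2, 0, 2, 0, 1, 0, 2, 0, 1, 0, 2, 3, 0, 1, 0, 2, 0, 1, 0, 1, 3, 0], [2, 0, 1, 0, 2, 0, 1, 0, 2, 0, 2, 0, 2, 0, 1, 0, 2, 0, 2, 0, 2, 0, 1, 0, 2, 0, 2, 0, 2, 0, 2, 0, 1, 0, 1, 0, 2, 3, 0, 1, 0, 2, 0, 1, 0, 2, 0, 1, 0, 1, 3], [0, 1, 0, 2, 0, 2, 0, 2, 0, 1, 0, 2, 0, 1, 0, 1, 0, 1, 0, 2, 0, 1, 0, 1, 0, 1, 0, 2, 0, 2, 0, 1, 0, 2, 0, 1, 0, 1, 0, 1, 0, 2, 0, 1, 0, 2, 0, 1, 0, 1, 0, 1, 0, 1, 0, 3, 0, 2, 0, 1, 0, 2, 3, 0, 2, 0, 2, 0, 2, 0], [0, 2, 0, 2, 0, 2,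 0, 2, 0, 2, 0, 1, 0, 2, 0, 2, 0, 2, 0, 2, 0, 1, 0, 1, 0, 1, 0, 1, 0, 1, 0, 1, 0, 1, 0, 2, 0, 1, 0, 2, 0, 1, 0, 1, 0, 1, 0, 1, 0, 2, 0, 2, 0, 1, 3, 0, 1, 0, 1, 0, 1, 0, 2, 0, 3, 0, 3], [0, 2, 0, 1, 0, 1, 0, 1, 0, 2, 0, 2, 0, 1, 0, 2, 0, 1, 0, 1, 0, 2, 0, 1, 0, 1, 0, 1, 0, 2, 0, 1, 0, 1, 0, 1, 0, 1, 0, 1, 0, 1, 0, 2, 0, 1, 0, 3, 0, 2, 0, 1, 3, 0, 1, 0, 3], [0, 1, 0, 2, 0, 2, 0, 2, 0, 1, 0, 2, 0, 1, 0, 1, 0, 2, 0, 2, 0, 2, 0, 2, 0, 2, 0, 1, 0, 2, 0, 2, 0, 2, 0, 2, 0, 1, 0, 2, 0, 2, 0, 2, 0, 1, 0, 3, 0, 1, 3, 0, 1, 0, 1, 0, 1, 0, 1]]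

theorem F2 : genW J4L.yK f2 ≤ Ct.Fd J4G.ι (ev (Dce.gD J4G.ι J4L.yK J4G.T 11) (Dce.pw J4D.tab.at (getL J4D.nm 0 2))) :=
  Ct.genW_le_of_keys J4L.paK (by decide) (Ct.gens_Fd J4G.hyp J4D.steps (gens := [13, 14, 15, 16, 17, 18, 21, 23, 28])
    (fs := [[4, 6, 4, 6, 4, 7, 5, 6, 7, 4, 8, 4, 9, 4, 6, 9, 4, 8], [5, 7, 4, 6, 5, 7, 6, 5, 8, 9, 4, 6, 8, 9, 6], [7, 5, 6, 7, 4, 8, 9, 5, 6, 7, 5, 9, 6, 4], [6, 4, 4, 7, 5, 6, 4, 7, 5, 6, 5, 7, 9, 5, 6, 7, 9, 7], [4, 6, 4, 6, 4, 6, 8, 5, 7, 5, 6, 7, 4, 9, 5, 6, 4, 9, 8, 6], [7, 4, 4, 6, 7, 6, 4, 6, 9, 6, 5, 9, 7, 6], [2, 9, 6, 9, 1, 6, 4, 4, 7, 4, 4, 7, 5, 6, 7, 4, 9, 4, 6, 8, 9, 7], [9, 2, 6, 1, 6, 7, 4, 6, 7, 5, 6, 5, 7, 6, 9,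 5, 6, 4, 9, 6, 7], [2, 6, 1, 9, 2, 4, 4, 6, 4, 6, 7, 4, 6, 8, 5, 6, 5, 7, 9, 4, 4, 6, 9, 4, 6]]) (by decide +kernel)) [[0], [1], [2], [3], [4], [5], [6], [7], [8]] (by decide +kernel)

def s2 : List (ℕ × List ℕ) := [(420, [1, 0, 1, 0, 1, 0, 1, 0, 2, 0]), (1102, [1, 0, 1, 0, 2, 0, 2, 0, 1, 0, 2, 0])]

theorem cv2 : Ct.chkCov nets 4 (sing (List.range 4)) f2 (r2_0 ++ s2) 1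
    (orbRun nets f2 [4, 7, 2, 0, 3, 8, 7, 4, 2, 0, 1, 3, 4] (Ct.startM (r2_0 ++ s2))) 0 [4, 7, 2, 0, 3, 8, 7, 4, 2, 0, 1, 3, 4] = true := by decide +kernel

def f3 : List (List ℕ) := [[1, 0, 2, 0, 2, 0, 1, 0, 2, 0, 2, 0, 2, 0, 2, 0, 2, 0, 1, 0, 2, 0, 1, 0, 1, 0, 1, 0, 2, 0, 1, 0, 1, 0, 2, 0, 2, 0, 1, 0, 1, 0, 2, 0, 1, 0, 3, 0, 2, 3, 0, 1, 0, 1, 0, 2, 3, 0, 1, 0, 2], [1, 0, 2, 0, 2, 0, 1, 0, 2, 0, 2, 0, 2, 0, 2, 0, 2, 0, 1, 0, 2, 0, 2, 0, 2, 0, 2, 0, 1, 0, 2, 0, 1, 0, 1, 0, 1, 0, 1, 0, 1, 0, 2, 0, 1, 0, 1, 0, 1, 0, 1, 0, 3, 0, 1, 0, 3, 0, 1, 3, 0, 1, 3, 0, 3], [2, 0, 1, 0, 1, 0, 2, 0, 2, 0, 2, 0, 1, 0, 1, 0, 1, 0, 1, 0, 2, 0, 2, 0, 2, 0, 1, 0, 1, 0, 1, 0, 1, 0, 1, 0,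 2, 0, 1, 0, 2, 0, 2, 0, 2, 0, 2, 0, 1, 0, 1, 0, 2, 0, 1, 0, 2, 0, 3, 0, 1, 0, 2, 3, 0, 1, 3, 0, 2, 0, 1, 3], [0, 1, 0, 2, 0, 2, 0, 2, 0, 2, 0, 2, 0, 2, 0, 2, 0, 1, 0, 1, 0, 1, 0, 1, 0, 1, 0, 2, 0, 2, 0, 2, 0, 1, 0, 2, 0, 2, 0, 2, 0, 1, 0, 1, 0, 2, 0, 2, 0, 2, 0, 2, 0, 2, 0, 1, 0, 2, 0, 3, 0, 1, 3, 0, 1, 0, 2, 0, 1, 0, 1, 0]]

theorem F3 : genW J4L.yK f3 ≤ Ct.Fd J4G.ι (ev (Dce.gD J4G.ι J4L.yK J4G.T 11) (Dce.pw J4D.tab.at (getL J4D.nm 0 3))) :=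
  Ct.genW_le_of_keys J4L.paK (by decide) (Ct.gens_Fd J4G.hyp J4D.steps (gens := [32, 33, 34, 42])
    (fs := [[4, 6, 7, 4, 4, 7, 4, 6, 4, 7, 9, 5, 6, 4, 6], [4, 6, 4, 4, 6, 7, 4, 4, 6, 4, 8, 4, 7, 4, 9, 4, 4, 6, 7, 9, 6, 4], [4, 6, 4, 6, 4, 7, 4, 6, 4, 4, 7, 9, 6, 8, 9, 6, 8], [4, 2, 9, 3, 7, 1, 6, 4, 6, 7, 5, 6, 7, 5, 6, 8, 9, 7, 6, 4, 9]]) (by decide +kernel)) [[0], [1], [2], [3]] (by decide +kernel)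

def s3 : List (ℕ × List ℕ) := [(83, [0, 1, 0, 1, 0, 1, 0, 2, 0, 2, 0, 2, 0])]

theorem cv3 : Ct.chkCov nets 4 (sing (List.range 4)) f3 (r3_0 ++ s3) 1
    (orbRun nets f3 [1, 3, 0, 2, 1, 0, 3, 0, 2, 1, 0, 1, 2, 0] (Ct.startM (r3_0 ++ s3))) 0 [1, 3, 0, 2, 1, 0, 3, 0, 2, 1, 0, 1, 2, 0] = true := by decide +kernel

def f4 : List (List ℕ) := [[1, 0, 1, 0, 2, 0, 2, 0, 2, 0, 2, 0, 1, 0, 1, 0, 1, 0, 1, 0, 1, 0, 1, 0, 2, 0, 1, 0, 2, 0, 2, 0, 2, 0, 2, 0, 1, 0, 2, 0, 1, 0, 2, 0, 2, 0, 1, 0, 2, 3, 0, 2, 0, 2, 3, 0, 1, 0, 1], [1, 0, 2, 0, 1, 0, 2, 0, 1, 0, 1, 0, 2, 0, 2, 0, 1, 0, 1, 0, 1, 0, 2, 0, 2, 0, 1, 0, 2, 0, 2, 0, 2, 0, 1, 0, 1, 0, 2, 0, 2, 0, 1, 3, 0, 1, 0, 2, 0, 2, 0,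 2, 0, 2], [2, 0, 1, 0, 2, 0, 1, 0, 2, 0, 2, 0, 1, 0, 1, 0, 1, 0, 2, 0, 1, 0, 1, 0, 2, 0, 2, 0, 2, 0, 2, 0, 2, 0, 1, 0, 2, 0, 2, 0, 2, 0, 1, 0, 1, 0, 2, 0, 3, 0, 1, 3, 0, 2, 0, 2, 0, 1, 0, 2], [1, 0, 1, 0, 1, 0, 2, 0, 2, 0, 1, 0, 1, 0, 2, 0, 1, 0, 2, 0, 2, 0, 2, 0, 2, 0, 2, 0, 1, 0, 2, 0, 1, 0, 1, 0, 1, 0, 1, 0, 1, 0, 1, 0, 1, 0, 1, 0, 2, 0, 2, 0, 3, 0, 2, 0, 2, 0, 2, 0, 1, 0], [0, 1, 0, 2, 0, 1, 0, 2, 0, 2, 0, 1, 0, 2, 0, 1, 0, 1, 0, 1, 0, 1, 0, 2, 0, 2, 0, 2, 0, 2, 0, 2, 0, 1, 0, 1, 0, 2, 0, 2, 0, 2, 0, 1, 0, 1, 0, 1, 0, 2, 0, 2, 0, 1, 3, 0, 1, 0, 2, 0, 1, 0, 1, 0, 3], [1, 0, 1, 0, 2, 0, 2, 0, 1, 0, 2, 0, 1, 0, 1, 0, 1, 0, 2, 0, 1, 0, 1, 0, 2, 0, 2, 0, 1, 0, 2, 0,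 1, 0, 1, 0, 2, 0, 2, 0, 1, 0, 1, 0, 2, 0, 1, 0, 2, 0, 1, 0, 1, 0, 2, 3, 0, 2, 0, 1, 3, 0, 1, 0, 1, 0, 1, 0, 1], [0, 1, 0, 2, 0, 1, 0, 1, 0, 1, 0, 2, 0, 2, 0, 1, 0, 1, 0, 1, 0, 2, 0, 2, 0, 1, 0, 2, 0, 1, 0, 1, 0, 2, 0, 1, 0, 1, 0, 1, 0, 1, 0, 1, 0, 2, 0, 1, 0, 1, 0, 3, 0, 2, 0, 1, 0, 1, 0, 1, 0, 1, 3, 0]]

theorem F4 : genW J4L.yK f4 ≤ Ct.Fd J4G.ι (ev (Dce.gD J4G.ι J4L.yK J4G.T 11) (Dce.pw J4D.tab.at (getL J4D.nm 0 4))) :=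
  Ct.genW_le_of_keys J4L.paK (by decide) (Ct.gens_Fd J4G.hyp J4D.steps (gens := [49, 50, 51, 52, 53, 55, 57])
    (fs := [[4, 6, 4, 6, 4, 6, 7, 6, 4, 7, 5, 6, 5, 7, 9, 5, 6, 7, 5, 9, 6], [4, 4, 6, 4, 8, 6, 5, 8, 6, 7, 9, 4, 4, 9, 8], [5, 6, 7, 5, 8, 5, 6, 7, 5, 7, 9, 5, 8, 6, 9, 7], [6, 4, 4, 7, 4, 6, 8, 4, 7, 6, 8, 9, 6, 8, 9, 8, 6], [4, 6, 5, 6, 5, 7, 4, 6, 5, 7, 4, 9, 6, 5, 9, 6, 9], [6, 8, 1, 9, 2, 6, 5, 6, 5, 8, 5, 7, 5, 7, 6, 8, 5, 9, 4, 6, 9, 6], [7, 3, 4, 4, 6, 5, 7, 5, 8, 4, 6, 4, 7, 9, 5, 9, 6, 7]]) (by decide +kernel)) [[0], [1], [2], [3], [4], [5], [6]] (by decide +kernel)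

def s4 : List (ℕ × List ℕ) := [(207, [0, 1, 0, 2, 0, 2, 0, 2, 0]), (83, [0, 1, 0, 1, 0, 1, 0, 2, 0, 2, 0, 2, 0])]

theorem cv4 : Ct.chkCov nets 4 (sing (List.range 4)) f4 (r4_0 ++ s4) 1
    (orbRun nets f4 [1, 2, 3, 6, 1, 5, 2, 1, 6, 0, 1, 2, 3, 5, 1] (Ct.startM (r4_0 ++ s4))) 0 [1, 2, 3, 6, 1, 5, 2, 1, 6, 0, 1, 2, 3, 5, 1] = true := by decide +kernel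

def f5 : List (List ℕ) := [[1, 0, 2, 0, 1, 0, 2, 0, 2, 0, 2, 0, 1, 0, 2, 0, 2, 0, 2, 0, 2, 0, 1, 0, 1, 0, 2, 0, 1, 0, 2, 0, 1, 0, 2, 0, 2, 0, 2, 0, 1, 0, 1, 0, 3, 0, 1, 3, 0, 1, 0, 2, 0, 3, 0, 1, 3, 0], [0, 1, 0, 1, 0, 1, 0, 1, 0, 1, 0, 2, 0, 1, 0, 2, 0, 1, 0, 2, 0, 1, 0, 1, 0, 1, 0, 2, 0, 1, 0, 1, 0, 1, 0, 1, 0, 2, 0, 1, 0, 1, 0, 2, 0, 2, 0, 1, 0, 2, 0, 2, 0, 1, 3, 0, 1, 0, 1, 0, 1, 0, 1, 0, 1, 0, 1, 3], [1, 0, 1, 0, 2, 0, 1, 0, 1, 0, 1, 0, 1, 0, 2, 0, 2, 0, 2, 0, 1, 0, 1, 0, 1, 0, 1, 0, 2, 0, 1, 0, 2, 0, 1, 0, 2, 0, 2, 0, 1, 0, 1, 0, 1, 0, 1, 0, 2, 0, 2, 3, 0, 1, 3, 0, 1, 0, 2, 0, 2, 0, 2, 0, 3], [0, 2, 0, 2, 0, 1, 0, 2, 0, 1, 0, 1, 0, 1, 0, 1, 0, 1, 0, 2, 0, 2,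 0, 1, 0, 2, 0, 1, 0, 1, 0, 2, 0, 2, 0, 2, 0, 2, 0, 2, 0, 2, 0, 2, 0, 1, 0, 1, 0, 2, 0, 2, 0, 3, 0, 1, 0, 1, 0, 1, 0, 1, 0, 1, 0, 3], [0, 1, 0, 1, 0, 2, 0, 1, 0, 2, 0, 1, 0, 2, 0, 1, 0, 1, 0, 1, 0, 2, 0, 1, 0, 2, 0, 1, 0, 1, 0, 1, 0, 2, 0, 1, 0, 2, 0, 1, 0, 1, 0, 3, 0, 1, 0, 1, 0, 1, 3, 0], [2, 0, 1, 0, 2, 0, 1, 0, 2, 0, 2, 0, 1, 0, 1, 0, 1, 0, 1, 0, 2, 0, 1, 0, 2, 0, 2, 0, 2, 0, 2, 0, 1, 0, 1, 0, 1, 0, 1, 0, 1, 0, 2, 0, 1, 0, 1, 0, 1, 0, 1, 0, 3, 0, 1, 3, 0, 1, 0, 2, 0, 2, 0, 2, 0, 3], [0, 2, 0, 1, 0, 1, 0, 1, 0, 2, 0, 2, 0, 2, 0, 2, 0, 2, 0, 2, 0, 2, 0, 1, 0, 2, 0, 2, 0, 1, 0, 2, 0, 1, 0, 1, 0, 2, 0, 2, 0, 2, 0, 1, 0, 2, 0, 2, 0, 3, 0, 1, 0, 2, 0, 3, 0, 2, 0, 1],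 [0, 1, 0, 1, 0, 1, 0, 2, 0, 2, 0, 2, 0, 2, 0, 2, 0, 1, 0, 1, 0, 2, 0, 1, 0, 1, 0, 1, 0, 1, 0, 1, 0, 1, 0, 2, 0, 1, 0, 1, 0, 2, 0, 2, 0, 2, 0, 1, 0, 1, 0, 3, 0, 2, 3, 0, 2, 0, 2, 0, 1, 0, 1, 3, 0]]

theorem F5 : genW J4L.yK f5 ≤ Ct.Fd J4G.ι (ev (Dce.gD J4G.ι J4L.yK J4G.T 11) (Dce.pw J4D.tab.at (getL J4D.nm 0 5))) :=
  Ct.genW_le_of_keys J4L.paK (by decide) (Ct.gens_Fd J4G.hyp J4D.steps (gens := [62, 63, 64, 65, 69, 74, 79, 81])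
    (fs := [[5, 6, 7, 6, 9, 6, 8, 9, 6, 4], [5, 6, 4, 4, 7, 5, 6, 7, 4, 4, 8, 9, 6, 8, 9, 6, 4, 6], [6, 5, 8, 6, 4, 4, 7, 9, 6, 5, 7, 5], [6, 4, 6, 5, 7, 6, 5, 6, 5, 8, 4, 9, 5, 6, 4, 8], [9, 2, 6, 1, 4, 6, 5, 6, 5, 7, 6, 4, 4, 8, 5, 8, 9, 5, 6, 7, 6], [5, 6, 0, 2, 0, 1, 6, 4, 6, 5, 7, 4, 4, 7, 6, 5, 6, 9, 6, 5, 7, 5], [5, 2, 9, 5, 6, 1, 5, 6, 4, 4, 6, 7, 4, 7, 5, 8, 4, 4, 6, 9, 4, 6, 9, 4, 8, 4], [8, 9, 0, 1, 8, 2, 6, 4, 4, 8, 4, 7, 4, 6, 4, 8, 9, 5, 6, 4]]) (by decide +kernel)) [[0], [1], [2], [3], [4], [5], [6], [7]] (by decide +kernel)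

def s5 : List (ℕ × List ℕ) := []

theorem cv5 : Ct.chkCov nets 4 (sing (List.range 4)) f5 (r5_0 ++ s5) 1
    (orbRun nets f5 [6, 4, 7, 3, 0, 4, 6, 2, 7, 0, 4, 1, 6, 0] (Ct.startM (r5_0 ++ s5))) 0 [6, 4, 7, 3, 0, 4, 6, 2, 7, 0, 4, 1, 6, 0] = true := by decide +kernel

def f6 : List (List ℕ) := [[1, 0, 2, 0, 1, 0, 1, 0, 1, 0, 1, 0, 1, 0, 1, 0, 1, 0, 2, 0, 1, 0, 1, 0, 1, 0, 1, 0, 1, 0, 1, 0, 2, 0, 1, 0, 1, 0, 1, 0, 1, 0, 2, 0, 2, 0, 2, 0, 1, 0, 2, 0, 3, 0, 1, 3, 0, 1, 0, 2, 3, 0, 2, 0, 3], [2, 0, 2, 0, 2, 0, 2, 0, 2, 0, 2, 0, 1, 0, 2, 0, 2, 0, 1, 0, 2, 0, 1, 0, 2, 0, 2, 0, 1, 0, 2, 0, 1, 0, 2, 0, 1, 0, 1, 0, 2, 0, 1, 0, 1, 3, 0, 1, 3, 0, 1, 3, 0, 1, 3, 0, 1, 0, 3], [0,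 1, 0, 1, 0, 1, 0, 2, 0, 2, 0, 2, 0, 1, 0, 2, 0, 2, 0, 2, 0, 2, 0, 2, 0, 2, 0, 2, 0, 2, 0, 1, 0, 1, 0, 1, 0, 2, 0, 1, 0, 1, 0, 1, 0, 1, 0, 2, 0, 1, 0, 1, 0, 2, 0, 1, 0, 1, 3, 0, 2, 0, 2, 0, 2, 0, 1, 3]]

theorem F6 : genW J4L.yK f6 ≤ Ct.Fd J4G.ι (ev (Dce.gD J4G.ι J4L.yK J4G.T 11) (Dce.pw J4D.tab.at (getL J4D.nm 0 6))) :=
  Ct.genW_le_of_keys J4L.paK (by decide) (Ct.gens_Fd J4G.hyp J4D.steps (gens := [92, 93, 97])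
    (fs := [[4, 4, 6, 4, 7, 4, 6, 8, 5, 7, 6, 9, 6, 4, 6, 7], [6, 4, 6, 4, 7, 5, 8, 5, 6, 9, 6, 9, 7, 4], [9, 4, 3, 0, 1, 5, 8, 4, 6, 4, 7, 4, 8, 9, 6, 5, 8, 9, 6, 7]]) (by decide +kernel)) [[0], [1], [2]] (by decide +kernel)

def s6 : List (ℕ × List ℕ) := []

theorem cv6 : Ct.chkCov nets 4 (sing (List.range 4)) f6 (r6_0 ++ s6) 1
    (orbRun nets f6 [1, 0, 2, 1, 0, 2, 1, 0, 2, 1, 0, 2, 1, 0, 2] (Ct.startM (r6_0 ++ s6))) 0 [1, 0, 2, 1, 0, 2, 1, 0, 2, 1, 0, 2, 1, 0, 2] = true := by decide +kernel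

end Cfsg.Agent.Spor.J4C
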