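import Cfsg.Agent.Spor.Cent4
import Cfsg.Agent.Spor.MatRep

/-! Central extensions inside special linear groups (helper23). -/

namespace Cfsg.Agent.Spor.Ct

theorem Eqs.cover {A U : Type} [Group A] [Group U] [IsSimpleGroup U] {a : ℕ → A} {E : List (List ℕ × List ℕ)}
    (h : Eqs a E) {z : ℕ} {xs : List ℕ} {u : ℕ → U} {rels : List (List ℕ)} (L : Known.Lifts u xs.length rels)
    (hU : Subgroup.center U = ⊥) (h1 : ((z :: xs).all fun x => x == z || E.contains ([x, z], [z, x])) = true)
    (h2 : chkIn (flt (z :: xs) E) [z] (rels.map (renW (sing xs))) = true) {x y : ℕ} (hx : x ∈ z :: xs) (hy : y ∈ z :: xs)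
    (hne : ev a [x, y] ≠ ev a [y, x]) : Nat.card (Subgroup.center (genL a (z :: xs))) = orderOf (a z) ∧
      Nonempty (genL a (z :: xs) ⧸ Subgroup.center (genL a (z :: xs)) ≃* U) := by
  have c : ∀ x ∈ z :: xs, (subG (genL a (z :: xs)) a x : A) = a x := fun x hx => coe_subG (mem_genL _ hx)
  have hN : genL (subG (genL a (z :: xs)) a) [z] ≤ Subgroup.center _ := genL_le fun w hw => by
    rw [List.mem_singleton.1 hw, Subgroup.mem_center_iff]
    exact fun g => Subtype.ext (by
      rw [Subgroup.coe_mul, Subgroup.coe_mul, c z List.mem_cons_self]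
      exact Subgroup.mem_centralizer_singleton_iff.1 (h.comm h1 g.2))
  have : (genL (subG (genL a (z :: xs)) a) [z]).Normal := ⟨fun n hn g => by
    rwa [Subgroup.mem_center_iff.1 (hN hn) g, mul_inv_cancel_right]⟩
  obtain ⟨e⟩ := (h.sub (H := genL a (z :: xs)) le_rfl).quot_lifts (genL (subG (genL a (z :: xs)) a) [z]) (qs := [z]) L
    le_rfl (subG_top rfl) h2 fun e => hne (by
      have := congrArg Subtype.val (Subgroup.mem_center_iff.1 (hN (e.ge (Subgroup.mem_top
        (subG (genL a (z :: xs)) a x)))) (subG (genL a (z :: xs)) a y))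
      rwa [Subgroup.coe_mul, Subgroup.coe_mul, c x hx, c y hy, ← ev_two, ← ev_two] at this)
  have h3 := center_eq hN e hU
  refine ⟨?_, ⟨(QuotientGroup.quotientMulEquivOfEq h3).trans e⟩⟩
  rw [h3, genL_one, Nat.card_zpowers, ← Subgroup.orderOf_coe, c z List.mem_cons_self]

open Matrix.GeneralLinearGroup in
theorem Eqs.det_one {n F U : Type} [Fintype n] [DecidableEq n] [CommRing F] [Group U] [IsSimpleGroup U] {a : ℕ → GL n F}
    {E : List (List ℕ × List ℕ)} (h : Eqs a E) {z : ℕ} {u : ℕ → U} {rels : List (List ℕ)} (L : Known.Lifts u z rels)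
    (hU : Subgroup.center U = ⊥) (hz : det (a z) = 1) (hc : chkIn E [z] rels = true) : ∀ x < z + 1, det (a x) = 1 := by
  obtain ⟨ψ, hψ⟩ := L _ (fun x => det (a x)) fun r hr => (map_ev det a r).symm.trans
    (genL_le (H := MonoidHom.ker det) (fun x hx => List.mem_singleton.1 hx ▸ hz) (h.mem hc r hr))
  intro x hx
  rcases Nat.lt_succ_iff_lt_or_eq.1 hx with hx | rfl
  · rcases IsSimpleGroup.eq_bot_or_eq_top_of_normal ψ.ker inferInstance with e | e
    · refine absurd (hU.symm.trans (top_unique fun b _ => Subgroup.mem_center_iff.2 fun c => ?_)) bot_ne_top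
      exact (MonoidHom.ker_eq_bot_iff ψ).1 e (by rw [map_mul, map_mul, mul_comm])
    · exact (hψ x hx).symm.trans (e.ge (Subgroup.mem_top (u x)))
  · exact hz

/-- Coded matrices satisfying the relators of a simple group up to powers of a scalar matrix lie in `SL`. -/
theorem matRep_SL {U : Type} [Group U] [IsSimpleGroup U] {u : ℕ → U} {z : ℕ} {rels : List (List ℕ)}
    (L : Known.Lifts u z rels) (hU : Subgroup.center U = ⊥) {w m p K : ℕ} {As : List (List ℕ)}
    (ok : okM w m p K As = true) {E : List (List ℕ × List ℕ)} (hE : chkEqM w m p K As E = true)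
    (hl : chkLet (List.range (z + 1)) (E.map (·.1) ++ E.map (·.2)) = true) {c : ZMod p}
    (sc : MM w p K As z = Matrix.diagonal fun _ => c) (hc : c ^ K = 1) (h1 : chkIn E [z] rels = true)
    (h2 : ((List.range (z + 1)).all fun x => E.any fun r => r.1.head? == some x && r.2 == []) = true) :
    ∃ (b : ℕ → Matrix.SpecialLinearGroup (Fin K) (ZMod p)) (Φ : _), MatRep b w m p K As (z + 1) Φ := by
  have R0 := matRep_decP (Equiv.refl (Fin K)) ok (z + 1)
  have e0 := R0.ev_eq hl hE
  have R1 := R0.lift (Units.coeHom _) Units.val_injective fun x hx => by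
    have := List.all_eq_true.1 h2 x (List.mem_range.2 hx)
    simp only [List.any_eq_true, Bool.and_eq_true, beq_iff_eq] at this
    obtain ⟨⟨r, s⟩, hr, e, rfl⟩ := this
    cases r with
    | nil => cases e
    | cons y r =>
      obtain rfl : y = x := Option.some.inj e
      exact IsUnit.of_mul_eq_one_right _ (e0 _ hr)
  have d := Eqs.det_one (R1.ev_eq hl hE) L hU (Units.ext ((congrArg Matrix.det ((R1.hΦ z z.lt_succ_self).trans sc)).trans
    (by rw [Matrix.det_diagonal, Finset.prod_const, Finset.card_fin, hc]; rfl))) h1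
  exact ⟨_, _, R1.lift Matrix.SpecialLinearGroup.toGL Matrix.SpecialLinearGroup.toGL_injective fun x hx =>
    ⟨⟨_, congrArg Units.val (d x hx)⟩, Units.ext rfl⟩⟩

end Cfsg.Agent.Spor.Ct
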