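import Cfsg.Agent.Spor.Dce4

/-! Word calculus for the double coset enumerations (helper23): derived relators (`InvOk.prod`), defined letters
(`InvOk.defs`), `commP_of_rels`, `gen_top`, `ncl_top`. -/

namespace Cfsg.Agent.Spor

open Equiv

variable {G : Type} [Group G] {g : ℕ → G} {nl : ℕ} {iv : List ℕ}

theorem genW_nil_base (g : ℕ → Perm ℕ) : BaseGe (genW g []) 1 [] := baseGe_one _

def invW (iv w : List ℕ) : List ℕ := (w.map fun x => iv.getD x 0).reverse

theorem InvOk.invW (h : InvOk g nl iv) {w : List ℕ} (hw : ∀ x ∈ w, x < nl) : ev g (invW iv w) = (ev g w)⁻¹ := by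
  induction w with
  | nil => simp [Spor.invW]
  | cons x w ih =>
    rw [Spor.invW, List.map_cons, List.reverse_cons, ev_append, ev_one, ← Spor.invW,
      ih fun z hz => hw z (List.mem_cons_of_mem _ hz), ← getL_eq_getD,
      eq_inv_of_mul_eq_one_left (h x (hw x List.mem_cons_self)).2, ev_cons, mul_inv_rev]

/-- A product of conjugates of relators and their inverses. -/
def prodW (iv : List ℕ) (bs : List (List ℕ)) (c : List (List ℕ × ℕ)) : List ℕ :=
  c.flatMap fun p => invW iv p.1 ++ (if p.2 % 2 = 0 then bs.getD (p.2 / 2) [] else invW iv (bs.getD (p.2 / 2) [])) ++ p.1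

theorem InvOk.prod (h : InvOk g nl iv) {bs rels : List (List ℕ)} (hb : ∀ r ∈ bs, ev g r = 1)
    (cs : List (List (List ℕ × ℕ)))
    (hc : (chkLet (List.range nl) (bs ++ rels ++ cs.flatten.map (·.1) ++ cs.map (prodW iv bs)) &&
      (rels.map (Spor.fred iv) == cs.map fun c => Spor.fred iv (prodW iv bs c))) = true) : ∀ r ∈ rels, ev g r = 1 := by
  rw [Bool.and_eq_true, beq_iff_eq] at hc
  have hl := lt_of_chkLet hc.1
  simp only [List.mem_append] at hl
  intro r hr
  obtain ⟨c, h1, h2⟩ := List.mem_map.1 (hc.2 ▸ List.mem_map_of_mem (f := Spor.fred iv) hr)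
  rw [← h.fred (hl r (Or.inl (Or.inl (Or.inr hr)))), ← h2, h.fred (hl _ (Or.inr (List.mem_map_of_mem h1)))]
  have h3 : ∀ p ∈ c, ∀ x ∈ p.1, x < nl := fun p hp =>
    hl _ (Or.inl (Or.inr (List.mem_map_of_mem (List.mem_flatten.2 ⟨c, h1, hp⟩))))
  clear h1 h2
  induction c with
  | nil => rfl
  | cons p c ih =>
    have h4 := getL_prop (p := fun w => ev g w = 1 ∧ ∀ x ∈ w, x < nl) bs [] (p.2 / 2) (by simp)
      fun w hw => ⟨hb w hw, hl w (Or.inl (Or.inl (Or.inl hw)))⟩
    rw [getL_eq_getD] at h4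
    rw [prodW, List.flatMap_cons, ev_append, ← prodW, ih fun q hq => h3 q (List.mem_cons_of_mem _ hq), ev_append,
      ev_append, h.invW (h3 p List.mem_cons_self)]
    split_ifs
    · rw [h4.1]; simp
    · rw [h.invW h4.2, h4.1]; simp

def chkDefs (iv : List ℕ) (rels ren : List (List ℕ)) (nl : ℕ) : List (List ℕ) → List ℕ → Bool
  | [], S => (List.range nl).all fun x => S.contains x || ren.getD x [] == [x]
  | r :: ds, S => rels.contains r && r.tail.all (fun x => S.contains x || ren.getD x [] == [x]) &&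
      fred iv (renW ren r) == [] && r != [] && chkDefs iv rels ren nl ds (r.headD 0 :: S)

theorem InvOk.defs (h : InvOk g nl iv) {rels ren : List (List ℕ)} (hg : ∀ r ∈ rels, ev g r = 1)
    (hl : chkLet (List.range nl) ren = true) (ds : List (List ℕ)) (hc : chkDefs iv rels ren nl ds [] = true) :
    ∀ x < nl, renG g ren x = g x := by
  suffices ∀ S, (∀ x ∈ S, renG g ren x = g x) → chkDefs iv rels ren nl ds S = true → ∀ x < nl, renG g ren x = g x from
    this [] (by simp) hc
  have key : ∀ S : List ℕ, (∀ x ∈ S, renG g ren x = g x) → ∀ x, (S.contains x || ren.getD x [] == [x]) = true →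
      renG g ren x = g x := fun S hS x hx => by
    rw [Bool.or_eq_true, List.contains_iff_mem, beq_iff_eq] at hx
    rcases hx with hx | hx
    · exact hS x hx
    · rw [renG, getL_eq_getD, hx, ev_one]
  clear hc
  induction ds with
  | nil => exact fun S hS hc x hx => key S hS x (List.all_eq_true.1 hc x (List.mem_range.2 hx))
  | cons r ds ih =>
    intro S hS hc
    simp only [chkDefs, Bool.and_eq_true, List.contains_iff_mem, beq_iff_eq, bne_iff_ne] at hc
    obtain ⟨⟨⟨⟨h1, h2⟩, h3⟩, h4⟩, h5⟩ := hc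
    refine ih _ (List.forall_mem_cons.2 ⟨?_, hS⟩) h5
    obtain ⟨x, w, rfl⟩ := List.exists_cons_of_ne_nil h4
    have e1 := h.fred (lt_renW hl (x :: w))
    rw [h3, ← ev_renG, ev_cons, ev_congr (w := w) fun z hz => key S hS z (List.all_eq_true.1 h2 z hz), ev_nil, ← hg _ h1,
      ev_cons, mul_right_inj] at e1
    exact e1.symm

theorem rels_of_defs {ren rels : List (List ℕ)} (hd : ∀ x < nl, renG g ren x = g x) (hg : ∀ r ∈ rels, ev g r = 1)
    (hl : chkLet (List.range nl) rels = true) : ∀ r ∈ rels.map (renW ren), ev g r = 1 := by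
  intro r hr
  obtain ⟨s, hs, rfl⟩ := List.mem_map.1 hr
  rw [← ev_renG, ev_congr fun x hx => hd x (lt_of_chkLet hl s hs x hx), hg s hs]

theorem InvOk.genW_le (h : InvOk g nl iv) {ren ws subs : List (List ℕ)} (hd : ∀ x < nl, renG g ren x = g x)
    (hc : (chkLet (List.range nl) (ws ++ ren) && ws.all fun w => (renW ren w).all fun z =>
      subs.contains [z] || subs.contains [iv.getD z 0]) = true) : genW g ws ≤ genW g subs := by
  simp only [Bool.and_eq_true, List.all_eq_true, Bool.or_eq_true, List.contains_iff_mem] at hc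
  refine Spor.genW_le fun w hw => ?_
  rw [← ev_congr fun x hx => hd x (lt_of_chkLet hc.1 w (List.mem_append_left _ hw) x hx), ev_renG]
  refine ev_mem _ _ fun z hz => ?_
  rcases hc.2 w hw z hz with e | e
  · simpa using mem_genW g e
  · have hz' : z < nl := by
      obtain ⟨x, -, hx⟩ := List.mem_flatMap.1 hz
      rw [← getL_eq_getD] at hx
      exact getL_prop (p := fun w => ∀ x ∈ w, x < nl) ren [] x (by simp)
        (fun w hw => lt_of_chkLet hc.1 w (List.mem_append_right _ hw)) z hx
    have := inv_mem (mem_genW g e)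
    rwa [ev_one, ← getL_eq_getD, eq_inv_of_mul_eq_one_left (h z hz').2, inv_inv] at this

theorem range_eq_genW {K : Type} [Group K] {y : ℕ → K} {ι : K →* G} {ren : List (List ℕ)}
    (top : genL y (List.range ren.length) = ⊤) (h : ∀ x < ren.length, ι (y x) = renG g ren x) :
    ι.range = genW g ren := by
  rw [MonoidHom.range_eq_map, ← top, map_genL', ← genL_renG]
  exact le_antisymm (genL_le fun x hx => h x (List.mem_range.1 hx) ▸ mem_genL _ hx)
    (genL_le fun x hx => h x (List.mem_range.1 hx) ▸ mem_genL (fun x => ι (y x)) hx)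

theorem map_renG {K : Type} [Group K] {y : ℕ → K} {ι : K →* G} {jl ren : List (List ℕ)} {n : ℕ}
    (h : ∀ x < n, ι (y x) = renG g jl x) (hl : chkLet (List.range n) ren = true) (more : List (List ℕ)) :
    ∀ x < ren.length, ι (renG y ren x) = renG g (ren.map (renW jl) ++ more) x := by
  intro x hx
  rw [renG_append _ _ (by simpa using hx), renG, renG, getL_eq_getD, getL_eq_getD, List.getD_eq_getElem _ _ hx,
    List.getD_eq_getElem _ _ (by simpa using hx), List.getElem_map, ← ev_renG, map_ev]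
  exact ev_congr fun z hz => h z (lt_of_chkLet hl _ (List.getElem_mem hx) z hz)

namespace Dce
variable {K : Type} [Group K] {ι : K →* G} {y : ℕ → K} {T : G} {tl : ℕ} {ren : List (List ℕ)}

theorem commP_of_rels (h1 : ∀ x < tl, ι (y x) = renG g ren x) (h2 : T = renG g ren tl) (hi : InvOk g nl iv)
    {ps : List (List ℕ × List ℕ)} (hl : (chkLet (List.range tl) (ps.map (·.1) ++ ps.map (·.2)) &&
      chkLet (List.range nl) ren) = true)
    (hr : ∀ r ∈ ps.map fun p => renW ren (p.1 ++ [tl]) ++ invW iv (renW ren (tl :: p.2)), ev g r = 1) :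
    CommP ι y T (ps.map (·.1)) (ps.map (·.2)) := by
  rw [Bool.and_eq_true] at hl
  have h3 := lt_of_chkLet hl.1
  have h4 := hl.2
  clear hl
  induction ps with
  | nil => exact commP_nil
  | cons p ps ih =>
    simp only [List.mem_append, List.map_cons, List.mem_cons] at h3 hr ih
    refine (ih (fun r h => hr r (Or.inr h)) fun w hw => h3 w (hw.imp Or.inr Or.inr)).cons ?_
    have e1 := h3 _ (Or.inl (Or.inl rfl))
    have e2 := h3 _ (Or.inr (Or.inl rfl))
    have := hr _ (Or.inl rfl)
    rw [ev_append, hi.invW (lt_renW h4 _), inv_mul_eq_one, ← ev_gD_ren h1 h2 (List.forall_mem_cons.2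
      ⟨Nat.lt_succ_self _, fun x hx => (e2 x hx).trans (Nat.lt_succ_self _)⟩), ← ev_gD_ren h1 h2
      (List.forall_mem_append.2 ⟨fun x hx => (e1 x hx).trans (Nat.lt_succ_self _), by simp⟩), ev_append, ev_cons,
      ev_one, gD_t, ev_gD fun x hx => (e1 x hx).ne, ev_gD fun x hx => (e2 x hx).ne] at this
    exact this.symm

theorem rels_gD (h1 : ∀ x < tl, ι (y x) = renG g ren x) (h2 : T = renG g ren tl) {ws : List (List ℕ)}
    (hl : chkLet (List.range (tl + 1)) ws = true) (hr : ∀ r ∈ ws.map (renW ren), ev g r = 1) :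
    ∀ w ∈ ws, ev (gD ι y T tl) w = 1 := fun w hw => by
  rw [ev_gD_ren h1 h2 (lt_of_chkLet hl w hw), hr _ (List.mem_map_of_mem hw)]

theorem invT_of_rel {sts : List ℕ} (h : ∀ w ∈ [tl :: sts], ev (gD ι y T tl) w = 1) :
    ev (gD ι y T tl) sts * T = 1 := by
  have := h _ List.mem_cons_self
  rwa [ev_cons, gD_t] at this

theorem gen_top (h1 : ∀ x < tl, ι (y x) = renG g ren x) (h2 : T = renG g ren tl) (hl : ren.length = tl + 1)
    (top : genW g ren = ⊤) (S : Subgroup G) (hK : ∀ k, ι k ∈ S) (hT : T ∈ S) : S = ⊤ := by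
  rw [eq_top_iff, ← top, ← genL_renG, hl]
  refine genL_le fun x hx => ?_
  rcases Nat.lt_succ_iff_lt_or_eq.1 (List.mem_range.1 hx) with h | rfl
  · exact h1 x h ▸ hK _
  · exact h2 ▸ hT

/-- Replace `tl` by the word `kw`. -/
def substT (tl : ℕ) (kw r : List ℕ) : List ℕ := r.flatMap fun x => if x = tl then kw else [x]

theorem ncl_top (gen : ∀ S : Subgroup G, (∀ k, ι k ∈ S) → T ∈ S → S = ⊤) {kw kw' : List ℕ}
    (hk : ev y (kw' ++ kw) = 1) {rs : List (List ℕ)} (hr : ∀ r ∈ rs, ev (gD ι y T tl) r = 1)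
    (hK : Subgroup.normalClosure {a | ∃ r ∈ rs.map (substT tl kw), ev y r = a} = ⊤) :
    Subgroup.normalClosure {T * ι (ev y kw')} = ⊤ := by
  set M := Subgroup.normalClosure {T * ι (ev y kw')}
  have hw : T * ι (ev y kw') ∈ M := Subgroup.subset_normalClosure rfl
  have e : QuotientGroup.mk' M T = QuotientGroup.mk' M (ι (ev y kw)) := by
    rw [ev_append] at hk
    rw [eq_inv_of_mul_eq_one_left hk, map_inv, map_inv, eq_inv_iff_mul_eq_one, ← map_mul]
    exact (QuotientGroup.eq_one_iff _).2 hw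
  have key : ∀ r, QuotientGroup.mk' M (ι (ev y (substT tl kw r))) = QuotientGroup.mk' M (ev (gD ι y T tl) r) := by
    intro r
    induction r with
    | nil => simp [substT]
    | cons x r ih =>
      rw [substT, List.flatMap_cons, ev_append, ← substT, ev_cons, map_mul, map_mul, map_mul, ih]
      split_ifs with h
      · rw [h, gD_t, e]
      · rw [gD_k h, ev_one]
  have hle : Subgroup.normalClosure {a | ∃ r ∈ rs.map (substT tl kw), ev y r = a} ≤ M.comap ι :=
    Subgroup.normalClosure_le_normal (by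
      rintro _ ⟨_, h, rfl⟩
      obtain ⟨r, h', rfl⟩ := List.mem_map.1 h
      exact (QuotientGroup.eq_one_iff (ι _)).1 ((key r).trans (by rw [hr r h', map_one])))
  have hK' : ∀ k, ι k ∈ M := fun k => hle (hK ▸ Subgroup.mem_top k)
  exact gen M hK' (by simpa using mul_mem hw (inv_mem (hK' (ev y kw'))))

end Dce

theorem ncl_of_simple {K : Type*} [Group K] [IsSimpleGroup K] {y : ℕ → K} {r : List ℕ} {rs : List (List ℕ)}
    (h : ev y r ≠ 1) : Subgroup.normalClosure {a | ∃ s ∈ r :: rs, ev y s = a} = ⊤ :=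
  (IsSimpleGroup.eq_bot_or_eq_top_of_normal _ inferInstance).resolve_left fun e =>
    h (Subgroup.mem_bot.1 (e ▸ Subgroup.subset_normalClosure ⟨r, List.mem_cons_self, rfl⟩))

theorem ncl_of_words {K : Type} [Group K] {y : ℕ → K} (h : InvOk y nl iv) {rs : List (List ℕ)}
    (cs : List (List ℕ × ℕ)) (hl : chkLet (List.range nl) (cs.map (·.1)) = true)
    (top : genW y (cs.map fun c => invW iv c.1 ++ rs.getD c.2 [] ++ c.1) = ⊤) :
    Subgroup.normalClosure {a | ∃ s ∈ rs, ev y s = a} = ⊤ := by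
  rw [eq_top_iff, ← top]
  refine genW_le fun w hw => ?_
  obtain ⟨c, hc, rfl⟩ := List.mem_map.1 hw
  rw [ev_append, ev_append, h.invW (lt_of_chkLet hl _ (List.mem_map_of_mem hc)), ← mul_assoc, ← getL_eq_getD]
  exact Subgroup.Normal.conj_mem inferInstance _ (getL_prop
    (p := fun w => ev y w ∈ Subgroup.normalClosure {a | ∃ s ∈ rs, ev y s = a}) rs [] _ (one_mem _)
    fun w hw => Subgroup.subset_normalClosure ⟨w, hw, rfl⟩) _

end Cfsg.Agent.Spor
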