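import Cfsg.Agent.Spor.Dce7
import Cfsg.Agent.Spor.ThMM0

/-! The 248-dimensional representation of the Thompson group over F3 (generated certificate, helper23). -/

set_option Elab.async false
set_option maxRecDepth 100000
set_option exponentiation.threshold 100000

namespace Cfsg.Agent.Spor.ThM

open Equiv

noncomputable def As : List ℕ := [a0, a1, a2, a3, a4, a5, a6, a7, a8, a9, a10, a11, a12, a13]

theorem ok : D.Ok As := BP.ok_of_chk okD 3 (by decide +kernel)

def iv : List ℕ := [0, 1, 2, 3, 4, 6, 5, 8, 7, 10, 9, 11, 12, 13]

end Cfsg.Agent.Spor.ThM
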