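import Cfsg.Agent.Spor.Dce7
import Cfsg.Agent.Spor.ThMA0

/-! The 248-dimensional representation of the Thompson group over F3 (generated certificate, helper23). -/

set_option Elab.async false
set_option maxRecDepth 100000
set_option exponentiation.threshold 100000

namespace Cfsg.Agent.Spor.ThM

open Equiv

def es0 : List Ex := [(.mul (.lt 0) (.lt 0)),
  (.mul (.lt 1) (.lt 1)),
  (.mul (.lt 2) (.lt 2)),
  (.mul (.lt 3) (.lt 3)),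
  (.mul (.lt 4) (.lt 4)),
  (.mul (.lt 5) (.lt 6)),
  (.mul (.lt 6) (.lt 5)),
  (.mul (.lt 7) (.lt 8)),
  (.mul (.lt 8) (.lt 7)),
  (.mul (.lt 9) (.lt 10)),
  (.mul (.lt 10) (.lt 9)),
  (.mul (.lt 11) (.lt 11)),
  (.mul (.lt 12) (.lt 12)),
  (.mul (.lt 13) (.lt 13)),
  (.mul (.sq (.mul (.lt 0) (.lt 1))) (.mul (.lt 0) (.lt 1)))]

theorem hes0 : D.chkE As es0 = true := by decide +kernel

def es1 : List Ex := [(.sq (.mul (.lt 0) (.lt 4))),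
  (.mul (.sq (.mul (.lt 1) (.lt 2))) (.mul (.lt 1) (.lt 2))),
  (.sq (.mul (.lt 1) (.lt 3))),
  (.sq (.mul (.lt 1) (.lt 4))),
  (.mul (.lt 0) (.sq (.sq (.mul (.lt 3) (.lt 2))))),
  (.sq (.mul (.lt 2) (.lt 4)))]

theorem hes1 : D.chkE As es1 = true := by decide +kernel

def es2 : List Ex := [(.mul (.sq (.mul (.lt 3) (.lt 4))) (.mul (.lt 3) (.lt 4))),
  (.sq (.sq (.sq (.mul (.mul (.lt 1) (.lt 2)) (.mul (.lt 3) (.lt 4)))))),
  (.mul (.sq (.mul (.sq (.lt 5)) (.lt 5))) (.lt 5)),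
  (.mul (.mul (.lt 6) (.lt 0)) (.mul (.lt 5) (.lt 0)))]

theorem hes2 : D.chkE As es2 = true := by decide +kernel

def es3 : List Ex := [(.mul (.mul (.lt 6) (.lt 1)) (.mul (.lt 5) (.lt 1))),
  (.mul (.mul (.lt 6) (.lt 2)) (.mul (.lt 5) (.lt 2))),
  (.sq (.mul (.lt 5) (.lt 3))),
  (.mul (.sq (.mul (.lt 4) (.lt 6))) (.mul (.mul (.lt 6) (.lt 4)) (.mul (.sq (.lt 5)) (.lt 5)))),
  (.mul (.sq (.lt 7)) (.lt 7))]

theorem hes3 : D.chkE As es3 = true := by decide +kernel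

def es4 : List Ex := [(.mul (.mul (.lt 8) (.lt 0)) (.mul (.lt 7) (.lt 0))),
  (.mul (.mul (.lt 8) (.lt 1)) (.mul (.lt 7) (.lt 1))),
  (.mul (.mul (.lt 8) (.lt 2)) (.mul (.lt 7) (.lt 2))),
  (.mul (.mul (.lt 8) (.lt 3)) (.mul (.lt 7) (.lt 3))),
  (.mul (.mul (.lt 8) (.lt 4)) (.mul (.lt 7) (.lt 4)))]

theorem hes4 : D.chkE As es4 = true := by decide +kernel

def es5 : List Ex := [(.mul (.mul (.lt 8) (.lt 5)) (.mul (.lt 7) (.mul (.lt 6) (.lt 6)))),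
  (.mul (.mul (.lt 9) (.lt 9)) (.mul (.lt 2) (.lt 0))),
  (.mul (.mul (.lt 10) (.lt 0)) (.mul (.lt 9) (.lt 0))),
  (.mul (.mul (.lt 10) (.lt 2)) (.mul (.lt 9) (.lt 2))),
  (.mul (.mul (.lt 10) (.lt 4)) (.mul (.lt 9) (.lt 4)))]

theorem hes5 : D.chkE As es5 = true := by decide +kernel

def es6 : List Ex := [(.sq (.mul (.mul (.lt 3) (.lt 4)) (.mul (.lt 10) (.mul (.lt 3) (.lt 9))))),
  (.mul (.mul (.mul (.lt 10) (.lt 1)) (.mul (.lt 2) (.mul (.lt 0) (.lt 1)))) (.mul (.mul (.lt 9) (.mul (.lt 1) (.lt 0))) (.mul (.lt 2) (.mul (.lt 1) (.lt 4)))))]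

theorem hes6 : D.chkE As es6 = true := by decide +kernel

def es7 : List Ex := [(.mul (.mul (.mul (.mul (.lt 3) (.mul (.lt 10) (.lt 3))) (.mul (.lt 1) (.mul (.lt 2) (.lt 0)))) (.mul (.mul (.lt 1) (.mul (.lt 3) (.lt 9))) (.mul (.lt 3) (.mul (.lt 1) (.lt 0))))) (.mul (.mul (.mul (.lt 2) (.mul (.lt 1) (.lt 2))) (.mul (.lt 4) (.mul (.lt 3) (.lt 10)))) (.mul (.mul (.lt 3) (.mul (.lt 1) (.lt 2))) (.mul (.mul (.lt 0) (.lt 1)) (.mul (.lt 4) (.lt 10))))))]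

theorem hes7 : D.chkE As es7 = true := by decide +kernel

def es8 : List Ex := [(.mul (.mul (.lt 10) (.lt 7)) (.mul (.lt 9) (.lt 7))),
  (.mul (.mul (.mul (.lt 4) (.mul (.lt 6) (.lt 6))) (.mul (.lt 10) (.mul (.lt 5) (.lt 5)))) (.mul (.mul (.lt 4) (.mul (.lt 6) (.lt 6))) (.mul (.lt 9) (.mul (.lt 5) (.lt 5)))))]

theorem hes8 : D.chkE As es8 = true := by decide +kernel

def es9 : List Ex := [(.mul (.mul (.lt 0) (.lt 2)) (.mul (.sq (.mul (.lt 6) (.lt 10))) (.mul (.lt 6) (.lt 10)))),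
  (.mul (.mul (.lt 0) (.lt 2)) (.sq (.sq (.mul (.mul (.lt 6) (.lt 10)) (.mul (.lt 5) (.lt 9))))))]

theorem hes9 : D.chkE As es9 = true := by decide +kernel

def es10 : List Ex := [(.mul (.mul (.sq (.mul (.mul (.lt 3) (.mul (.lt 6) (.lt 6))) (.mul (.lt 9) (.mul (.lt 5) (.lt 5))))) (.mul (.mul (.lt 3) (.mul (.lt 6) (.lt 6))) (.mul (.lt 9) (.mul (.lt 5) (.lt 5))))) (.mul (.mul (.mul (.mul (.mul (.lt 3) (.lt 6)) (.mul (.lt 6) (.lt 9))) (.mul (.mul (.lt 4) (.lt 3)) (.mul (.lt 2) (.mul (.lt 3) (.lt 4))))) (.mul (.sq (.lt 5)) (.lt 5))) (.mul (.mul (.mul (.mul (.lt 4) (.mul (.lt 3) (.lt 2))) (.mul (.lt 3) (.mul (.lt 4) (.lt 6)))) (.sq (.mul (.lt 3) (.lt 2)))) (.lt 0))))]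

theorem hes10 : D.chkE As es10 = true := by decide +kernel

def es11 : List Ex := [(.mul (.mul (.mul (.mul (.lt 2) (.lt 3)) (.mul (.lt 2) (.mul (.lt 4) (.lt 3)))) (.mul (.mul (.lt 2) (.mul (.lt 5) (.lt 4))) (.mul (.lt 3) (.mul (.lt 2) (.lt 6))))) (.mul (.mul (.mul (.lt 6) (.mul (.lt 4) (.lt 3))) (.mul (.lt 2) (.mul (.lt 6) (.lt 4)))) (.mul (.mul (.lt 3) (.mul (.lt 6) (.lt 4))) (.mul (.lt 5) (.mul (.lt 5) (.lt 11))))))]

theorem hes11 : D.chkE As es11 = true := by decide +kernel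

def es12 : List Ex := [(.mul (.sq (.mul (.mul (.mul (.lt 2) (.lt 3)) (.mul (.lt 5) (.mul (.lt 4) (.lt 3)))) (.mul (.mul (.lt 2) (.lt 3)) (.mul (.lt 6) (.mul (.lt 4) (.lt 3)))))) (.lt 12))]

theorem hes12 : D.chkE As es12 = true := by decide +kernel

def es13 : List Ex := [(.mul (.mul (.mul (.lt 2) (.lt 6)) (.mul (.sq (.mul (.mul (.lt 4) (.lt 3)) (.mul (.lt 2) (.mul (.lt 3) (.lt 5))))) (.mul (.mul (.lt 4) (.lt 3)) (.mul (.lt 2) (.mul (.lt 3) (.lt 5)))))) (.mul (.mul (.lt 4) (.lt 6)) (.mul (.lt 6) (.mul (.lt 4) (.lt 13)))))]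

theorem hes13 : D.chkE As es13 = true := by decide +kernel

end Cfsg.Agent.Spor.ThM
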