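import Cfsg.Agent.Spor.Dce7
import Cfsg.Agent.Spor.ThMR0

/-! The 248-dimensional representation of the Thompson group over F3 (generated certificate, helper23). -/

set_option Elab.async false
set_option maxRecDepth 100000
set_option exponentiation.threshold 100000

namespace Cfsg.Agent.Spor.ThM

open Equiv

def bs : List (List ℕ) := es0.map Ex.w ++ es1.map Ex.w ++ es2.map Ex.w ++ es3.map Ex.w ++ es4.map Ex.w ++ es5.map Ex.w ++ es6.map Ex.w ++ es7.map Ex.w ++ es8.map Ex.w ++ es9.map Ex.w ++ es10.map Ex.w ++ es11.map Ex.w ++ es12.map Ex.w ++ es13.map Ex.w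

theorem hb : ∀ r ∈ bs, ev (D.MB As) r = 1 :=
  List.forall_mem_append.2 ⟨List.forall_mem_append.2 ⟨List.forall_mem_append.2 ⟨List.forall_mem_append.2 ⟨List.forall_mem_append.2 ⟨List.forall_mem_append.2 ⟨List.forall_mem_append.2 ⟨List.forall_mem_append.2 ⟨List.forall_mem_append.2 ⟨List.forall_mem_append.2 ⟨List.forall_mem_append.2 ⟨List.forall_mem_append.2 ⟨List.forall_mem_append.2 ⟨ok.rels hes0, ok.rels hes1⟩, ok.rels hes2⟩, ok.rels hes3⟩, ok.rels hes4⟩, ok.rels hes5⟩, ok.rels hes6⟩, ok.rels hes7⟩, ok.rels hes8⟩, ok.rels hes9⟩, ok.rels hes10⟩, ok.rels hes11⟩, ok.rels hes12⟩, ok.rels hes13⟩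

theorem hi : InvOk (D.MB As) 14 iv := invOk_of_rels hb (by decide +kernel)

end Cfsg.Agent.Spor.ThM
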