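import Cfsg.Agent.Spor.Dce5
import Cfsg.Agent.Spor.J.Th96
import Cfsg.Agent.Spor.J.Th126
import Cfsg.Agent.Spor.J.ThG

/-! G2(3):2 on 702 points, for the Thompson group (generated certificate, helper23). -/

set_option Elab.async false
set_option maxRecDepth 100000
set_option exponentiation.threshold 100000

namespace Cfsg.Agent.Spor.ThU

open Equiv

/-- The model. -/
noncomputable abbrev G : Type := MG JThG.nets 7

/-- The letters. -/
noncomputable abbrev g : ℕ → G := mg JThG.nets 7

theorem he : g 255 = 1 := mg_255 _ (by decide)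

/-- The permutation representation of degree 702. -/
noncomputable abbrev φ : G →* Perm ℕ := (MG JThG.nets 7).subtype

theorem rep : PermRep g JThG.nets 702 7 φ := mrep JThG.ok _

theorem inj : Function.Injective φ := Subtype.val_injective

theorem hg : ∀ r ∈ JThG.rels, ev g r = 1 := rep.ev_eq_one inj (by decide +kernel) JThG.hP

/-- The point stabiliser. -/
noncomputable abbrev H : Subgroup G := genW g JThG.subs

theorem stab : IsStab φ H 0 :=
  rep.isStab (by decide +kernel) (by decide +kernel) (JThG.mem he hg rep.hφ)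

theorem mapH : H.map φ = genW (PP JThG.nets) JThG.subs := rep.map_genW (by decide +kernel)


theorem trans : Trans φ 702 0 :=
  rep.trans (by decide) ((orbSub_base _ _).run JThG.ok (prog := [5, 1, 3, 5, 0, 4, 2, 3, 1, 5, 2, 4, 1, 3, 5, 0, 2, 4]) (by decide +kernel))

theorem up (G : Type) [Group G] (g : ℕ → G) (_ : g 255 = 1) (hg : ∀ r ∈ JThG.rels, ev g r = 1) :
    CardLe (genW g (sing (List.range 7))) 8491392 :=
  have u0 : CardLe (genW g [[0], [2], [3], [4]]) 96 :=
    (cardLe_genW_nil g).job (JTh96.relIndex_le (renG_255 g (by decide)) (renG_rels (rels_of_sub hg (by decide +kernel))))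
      (by decide +kernel) rfl (by decide)
  have u1 : CardLe (genW g [[0], [1], [2], [3], [4]]) 12096 :=
    (u0).job (JTh126.relIndex_le (renG_255 g (by decide)) (renG_rels (rels_of_sub hg (by decide +kernel))))
      (by decide +kernel) rfl (by decide)
  have u2 : CardLe (genW g [[0], [1], [2], [3], [4], [5], [6]]) 8491392 :=
    (u1).job (JThG.relIndex_le (renG_255 g (by decide)) (renG_rels (rels_of_sub hg (by decide +kernel))))
      (by decide +kernel) rfl (by decide)
  u2

theorem lo2 : BaseGe (genW (PP JThG.nets) [[0, 3, 2, 3, 4, 3, 2, 0, 2, 3, 4, 1, 2, 3], [0, 2, 4, 3, 2, 1, 3, 4, 2, 3, 1, 2]]) 42 [6] :=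
  BaseGe.stepW (L := 10) (n := 42) JThG.ok (genW_nil_base _) [] [0, 1, 0, 1, 0, 1, 0, 1, 1] (by decide +kernel)

theorem lo1 : BaseGe (genW (PP JThG.nets) [[0], [1], [2], [3], [4]]) 12096 [34, 6] :=
  BaseGe.stepW (L := 10) (n := 288) JThG.ok lo2 [[0, 3, 2, 3, 4, 3, 2, 0, 2, 3, 4, 1, 2, 3], [0, 2, 4, 3, 2, 1, 3, 4, 2, 3, 1, 2]] [0, 1, 2, 3, 4, 2, 1, 0, 3, 2, 1, 3, 2, 3, 4] (by decide +kernel)

theorem lo0 : BaseGe (genW (PP JThG.nets) (sing (List.range 7))) 8491392 [0, 34, 6] :=
  BaseGe.stepW (L := 10) (n := 702) JThG.ok lo1 [[0], [1], [2], [3], [4]] [5, 1, 3, 5, 0, 4, 2, 3, 1, 5, 2, 4, 1, 3, 5, 0, 2, 4] (by decide +kernel)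

theorem lo : BaseGe (genL (PP JThG.nets) (List.range 7)) 8491392 [0, 34, 6] := by rw [← genW_sing]; exact lo0

theorem card : Nat.card G = 8491392 := (rep.card_eq (up _ g he hg) lo.cardGe).1

theorem base : ∀ c : G, (∀ b ∈ [0, 34, 6], φ c b = b) → c = 1 := rep.base inj card (by decide) lo

theorem lifts : Known.Lifts g 7 JThG.rels :=
  Known.lifts_of_cardLe rep.top hg (by decide +kernel) (by decide) card fun H _ h he hg => genW_sing h _ ▸ up H h he hg

def iv : List ℕ := [0, 1, 2, 3, 4, 6, 5]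

theorem invOk : InvOk g 7 iv := invOk_of_rels hg (by decide +kernel)

end Cfsg.Agent.Spor.ThU
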