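import Cfsg.Agent.Spor.ThD
import Cfsg.Agent.Spor.ThM
import Cfsg.Agent.Spor.ThU
import Cfsg.Agent.Spor.J.ThKC
import Cfsg.Prelude.Def_Spor_Th

/-! The Thompson group (generated certificate, helper23). -/

set_option Elab.async false
set_option maxRecDepth 100000
set_option exponentiation.threshold 100000

namespace Cfsg.Agent.Spor.ThG

open Equiv

theorem okO : netsOk 17199 ThO.nets = true := netsOk_append ThO.ok0 ThO.ok1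

theorem lw2 : BaseGe (genW (PP ThO.nets) [[9, 14, 11, 12, 9, 14, 13, 14, 10, 12, 14, 11, 10], [10, 11, 9, 12, 14, 12, 13, 11, 9, 11, 9, 12, 9]]) 6 [9] :=
  BaseGe.stepW (L := 15) (n := 6) okO (genW_nil_base _) [] [0, 1, 0] (by decide +kernel)

theorem lw1 : BaseGe (genW (PP ThO.nets) [[9], [10], [11], [12], [13], [14]]) 36864 [30, 9] :=
  BaseGe.stepW (L := 15) (n := 6144) okO lw2 [[0, 5, 2, 3, 0, 5, 4, 5, 1, 3, 5, 2, 1], [1, 2, 0, 3, 5, 3, 4, 2, 0, 2, 0, 3, 0]] [0, 2, 3, 4, 5, 0, 2, 3, 0, 4, 5, 3, 0, 2, 0, 5, 4, 0] (by decide +kernel)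

theorem lw0 : BaseGe (genW (PP ThO.nets) (sing (List.range 15))) 634023936 [0, 30, 9] :=
  BaseGe.stepW (L := 15) (n := 17199) okO lw1 [[9], [10], [11], [12], [13], [14]] [1, 3, 5, 14, 5, 3, 11, 2, 4, 14, 12, 7, 1, 5, 11, 3, 14, 12, 0, 2] (by decide +kernel)

def Rp : List (List ℕ) := [[0], [1], [2], [3], [4], [5], [6], [7], [8], [7], [8], [11], [12], [13], [3, 2, 3, 4, 1, 0, 2, 1, 3, 2, 3], [0, 3, 2, 6, 6, 4, 3, 2, 6, 4, 3, 2, 6, 4, 3, 2, 6, 6, 4, 3, 5, 4], [2, 3, 5, 4, 3, 2, 5, 5, 4, 3, 2, 5, 4, 3, 2, 6, 4, 3, 5, 4, 6], [2, 4, 3, 2, 3, 5, 4, 3, 6, 4, 3, 2, 3, 2, 4, 3, 6, 4, 6, 4], [0, 6, 4, 3, 2, 3, 6, 4, 3, 2, 3, 5, 4, 3, 2, 3, 5, 5, 4, 6, 1, 0, 2, 1, 3, 2, 3], [9]]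

def ts : List (Ex × Ex) := [(.mul (.mul (.lt 0) (.lt 1)) (.lt 0), .mul (.sq (.mul (.mul (.lt 0) (.lt 1)) (.lt 0))) (.mul (.mul (.lt 0) (.lt 1)) (.lt 0))), (.sq (.mul (.sq (.mul (.mul (.lt 0) (.lt 1)) (.lt 0))) (.mul (.mul (.lt 0) (.lt 1)) (.lt 0))), .lt 0), (.sq (.sq (.mul (.mul (.lt 0) (.lt 1)) (.lt 0))), .sq (.sq (.sq (.sq (.mul (.mul (.lt 0) (.lt 1)) (.lt 0))))))]

def vals : List (List (Bool × ℕ)) := [[(true, 1), (true, 1), (true, 1)], [(true, 0), (false, 0), (true, 0)], [(true, 1), (false, 1), (true, 1)], [(false, 1), (true, 1), (true, 1)], [(true, 2), (false, 1), (true, 1)], [(false, 2), (false, 0), (false, 1)], [(false, 1), (false, 1), (false, 1)], [(false, 0), (false, 0), (false, 0)], [(false, 0), (false, 0), (true, 0)], [(false, 2), (false, 1), (false, 1)], [(true, 2), (true,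 1), (true, 1)]]

theorem v0 : some (ThM.D.invB ThM.As [ThM.E] [ThM.E] ts (renW Rp (Dce.pw ThD.tab.at (getL ThD.nm 0 0)))
    (invWd ThM.iv (renW Rp (Dce.pw ThD.tab.at (getL ThD.nm 0 0))))) = vals[0]? := by decide +kernel

theorem v1 : some (ThM.D.invB ThM.As [ThM.E] [ThM.E] ts (renW Rp (Dce.pw ThD.tab.at (getL ThD.nm 0 1)))
    (invWd ThM.iv (renW Rp (Dce.pw ThD.tab.at (getL ThD.nm 0 1))))) = vals[1]? := by decide +kernel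

theorem v2 : some (ThM.D.invB ThM.As [ThM.E] [ThM.E] ts (renW Rp (Dce.pw ThD.tab.at (getL ThD.nm 0 2)))
    (invWd ThM.iv (renW Rp (Dce.pw ThD.tab.at (getL ThD.nm 0 2))))) = vals[2]? := by decide +kernel

theorem v3 : some (ThM.D.invB ThM.As [ThM.E] [ThM.E] ts (renW Rp (Dce.pw ThD.tab.at (getL ThD.nm 0 3)))
    (invWd ThM.iv (renW Rp (Dce.pw ThD.tab.at (getL ThD.nm 0 3))))) = vals[3]? := by decide +kernel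

theorem v4 : some (ThM.D.invB ThM.As [ThM.E] [ThM.E] ts (renW Rp (Dce.pw ThD.tab.at (getL ThD.nm 0 4)))
    (invWd ThM.iv (renW Rp (Dce.pw ThD.tab.at (getL ThD.nm 0 4))))) = vals[4]? := by decide +kernel

theorem v5 : some (ThM.D.invB ThM.As [ThM.E] [ThM.E] ts (renW Rp (Dce.pw ThD.tab.at (getL ThD.nm 0 5)))
    (invWd ThM.iv (renW Rp (Dce.pw ThD.tab.at (getL ThD.nm 0 5))))) = vals[5]? := by decide +kernel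

theorem v6 : some (ThM.D.invB ThM.As [ThM.E] [ThM.E] ts (renW Rp (Dce.pw ThD.tab.at (getL ThD.nm 0 6)))
    (invWd ThM.iv (renW Rp (Dce.pw ThD.tab.at (getL ThD.nm 0 6))))) = vals[6]? := by decide +kernel

theorem v7 : some (ThM.D.invB ThM.As [ThM.E] [ThM.E] ts (renW Rp (Dce.pw ThD.tab.at (getL ThD.nm 0 7)))
    (invWd ThM.iv (renW Rp (Dce.pw ThD.tab.at (getL ThD.nm 0 7))))) = vals[7]? := by decide +kernel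

theorem v8 : some (ThM.D.invB ThM.As [ThM.E] [ThM.E] ts (renW Rp (Dce.pw ThD.tab.at (getL ThD.nm 0 8)))
    (invWd ThM.iv (renW Rp (Dce.pw ThD.tab.at (getL ThD.nm 0 8))))) = vals[8]? := by decide +kernel

theorem v9 : some (ThM.D.invB ThM.As [ThM.E] [ThM.E] ts (renW Rp (Dce.pw ThD.tab.at (getL ThD.nm 0 9)))
    (invWd ThM.iv (renW Rp (Dce.pw ThD.tab.at (getL ThD.nm 0 9))))) = vals[9]? := by decide +kernel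

theorem v10 : some (ThM.D.invB ThM.As [ThM.E] [ThM.E] ts (renW Rp (Dce.pw ThD.tab.at (getL ThD.nm 0 10)))
    (invWd ThM.iv (renW Rp (Dce.pw ThD.tab.at (getL ThD.nm 0 10))))) = vals[10]? := by decide +kernel


def lts : List (Cfsg.Spor.Th.Gen × Bool) := [(.a, true), (.b, true), (.c, true), (.d, true), (.e, true), (.s, true), (.s, false), (.t, true), (.t, false), (.u, true), (.u, false)]

theorem lt : LtOk Cfsg.Spor.Th.edges Cfsg.Spor.Th.extra lts :=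
  ⟨by intro q; cases q <;> decide, by decide +kernel, by decide +kernel⟩

noncomputable abbrev g : ℕ → Cfsg.Spor.Th := letG (RS Cfsg.Spor.Th.edges Cfsg.Spor.Th.extra) lts

def rels : List (List ℕ) := [[0, 0], [1, 1], [2, 2], [3, 3], [4, 4], [5, 6], [6, 5], [7, 8], [8, 7], [9, 10], [10, 9], [0, 1, 0, 1, 0, 1], [0, 4, 0, 4], [1, 2, 1, 2, 1, 2], [1, 3, 1, 3], [1, 4, 1, 4], [0, 3, 2, 3, 2, 3, 2, 3, 2], [2, 4, 2, 4], [3, 4, 3, 4, 3, 4], [1, 2, 3, 4, 1, 2, 3, 4, 1, 2, 3, 4, 1, 2, 3, 4, 1, 2, 3, 4, 1, 2, 3, 4, 1, 2, 3, 4, 1, 2, 3, 4], [5, 5, 5, 5, 5, 5, 5], [6, 0, 5, 0], [6, 1, 5, 1], [6, 2, 5, 2], [5, 3, 5, 3], [4, 6, 4, 6, 6, 4, 5, 5, 5], [7, 7, 7], [8, 0, 7, 0], [8, 1, 7, 1], [8, 2, 7, 2], [8, 3, 7, 3], [8, 4, 7, 4], [8, 5, 7, 6, 6], [9, 9, 2, 0], [10, 0, 9, 0], [10, 2, 9, 2], [10, 4, 9,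 4], [3, 4, 10, 3, 9, 3, 4, 10, 3, 9], [10, 1, 2, 0, 1, 9, 1, 0, 2, 1, 4], [3, 10, 3, 1, 2, 0, 1, 3, 9, 3, 1, 0, 2, 1, 2, 4, 3, 10, 3, 1, 2, 0, 1, 4, 10], [10, 7, 9, 7], [4, 6, 6, 10, 5, 5, 4, 6, 6, 9, 5, 5], [0, 2, 6, 10, 6, 10, 6, 10], [0, 2, 6, 10, 5, 9, 6, 10, 5, 9, 6, 10, 5, 9, 6, 10, 5, 9], [3, 6, 6, 9, 5, 5, 3, 6, 6, 9, 5, 5, 3, 6, 6, 9, 5, 5, 3, 6, 6, 9, 4, 3, 2, 3, 4, 5, 5, 5, 4, 3, 2, 3, 4, 6, 3, 2, 3, 2, 0]]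

theorem hg : ∀ r ∈ rels, ev g r = 1 := lt.rels_of_relsG (by decide +kernel)

def iv : List ℕ := [0, 1, 2, 3, 4, 6, 5, 8, 7, 10, 9]

theorem hi : InvOk g 11 iv := invOk_of_rels hg (by decide +kernel)

theorem hd : ∀ x < 11, renG g (sing (List.range 11)) x = g x := hi.defs hg (by decide +kernel) [] (by decide +kernel)

def jl : List (List ℕ) := sing (List.range 9)

theorem exι : ∃ ι : ThK.G →* Cfsg.Spor.Th, ∀ x < 9, ι (ThK.g x) = renG g jl x :=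
  ThK.lifts _ _ (renG_rels (hi.rels hg (by decide +kernel) (by decide +kernel)))

noncomputable def ι : ThK.G →* Cfsg.Spor.Th := exι.choose

def R : List (List ℕ) := ThA.renK.map (renW jl) ++ [[9]]

noncomputable def T : Cfsg.Spor.Th := renG g R 19

theorem h1 : ∀ x < 19, ι (ThA.y x) = renG g R x := map_renG (ren := ThA.renK) exι.choose_spec (by decide +kernel) _

def jU : List (List ℕ) := [[0], [1], [2], [3], [4], [9], [10]]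

theorem hU : ∀ r ∈ List.map (renW jU) [[3, 2, 3, 5, 3, 2, 3, 1, 2, 3, 0, 1, 2, 3, 4, 3, 2, 3, 1, 2, 0, 1, 6]], ev g r = 1 := by
  obtain ⟨κ, h⟩ := ThU.lifts _ _ (renG_rels (g := g) (ren := jU) (hi.rels hg (by decide +kernel) (by decide +kernel)))
  exact rels_of_hom h (by decide +kernel) (ThU.rep.ev_eq_one ThU.inj (by decide +kernel)
    (ev_eq_one_of_chkId (L := 10) JThG.ok (by decide) (by decide +kernel)))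

theorem hb : ∀ r ∈ rels ++ List.map (renW R) [[0, 2, 0, 2], [4, 5, 5, 5, 4, 6, 6, 6, 5, 5, 4, 6, 6]] ++ List.map (renW jU) [[3, 2, 3, 5, 3, 2, 3, 1, 2, 3, 0, 1, 2, 3, 4, 3, 2, 3, 1, 2, 0, 1, 6]], ev g r = 1 :=
  List.forall_mem_append.2 ⟨List.forall_mem_append.2
    ⟨hg, rels_of_hom h1 (by decide +kernel) (ThA.pa.rels (by decide +kernel))⟩, hU⟩

theorem cp : Dce.CommP ι ThA.y T [[0], [2], [4], [7], [8], [1, 2, 0, 1], [5, 4, 6], [3, 2, 3]] [[0], [2], [4], [8], [7], [4, 1, 2, 0, 1], [4, 6, 4, 5], [1, 0, 2, 1, 3, 2, 3, 4, 3, 2, 1, 0, 3, 2, 1, 3, 2, 3]] :=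
  Dce.commP_of_rels h1 rfl hi (ps := List.zip [[0], [2], [4], [7], [8], [1, 2, 0, 1], [5, 4, 6], [3, 2, 3]] [[0], [2], [4], [8], [7], [4, 1, 2, 0, 1], [4, 6, 4, 5], [1, 0, 2, 1, 3, 2, 3, 4, 3, 2, 1, 0, 3, 2, 1, 3, 2, 3]]) (by decide +kernel) (hi.prod hb
   [[([10], 68)],
    [([10], 70)],
    [([10], 72)],
    [([10], 80)],
    [([8, 10], 81)],
    [([10], 76)],
    [([10, 4, 9, 6, 4, 5, 10, 5, 4, 6], 72), ([0, 2, 10, 5, 4, 6, 4, 9, 6, 4, 5, 10, 5, 4, 6], 66), ([9, 5, 4, 6, 4, 9, 6, 4, 5, 10, 5, 4, 6], 84), ([4, 5, 5, 9, 6, 4, 10, 6, 10, 4, 6, 4, 9, 6, 4, 5, 10, 5, 4, 6], 40), ([9, 5, 5, 5, 5, 5, 4, 5, 5, 9, 6, 4, 10, 6, 10, 4, 6, 4, 9, 6, 4, 5, 10, 5, 4, 6], 85), ([0, 2, 10, 5, 5, 5, 5, 5, 4, 5, 5, 9, 6, 4, 10, 6, 10, 4, 6, 4, 9, 6, 4, 5, 10, 5, 4, 6], 67), ([0, 2, 9, 5, 2, 0, 6, 9,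 6, 9, 6, 6, 10, 6, 9, 5, 5, 5, 4, 5, 5, 9, 6, 4, 5, 10, 5, 5, 5, 5, 5, 4, 5, 5, 9, 6, 4, 10, 6, 10, 4, 6, 4, 9, 6, 4, 5, 10, 5, 4, 6], 66), ([9, 9, 9, 5, 2, 0, 6, 9, 6, 9, 6, 6, 10, 6, 9, 5, 5, 5, 4, 5, 5, 9, 6, 4, 5, 10, 5, 5, 5, 5, 5, 4, 5, 5, 9, 6, 4, 10, 6, 10, 4, 6, 4, 9, 6, 4, 5, 10, 5, 4, 6], 84), ([6, 9, 9, 5, 2, 0, 6, 9, 6, 9, 6, 6, 10, 6, 9, 5, 5, 5, 4, 5, 5, 9, 6, 4, 5, 10, 5, 5, 5, 5, 5, 4, 5, 5, 9, 6, 4, 10, 6, 10, 4, 6, 4, 9, 6, 4, 5, 10, 5, 4, 6], 85), ([0, 2, 10, 5, 9, 5, 2, 0, 6, 9, 6, 9, 6, 6, 10, 6, 9, 5, 5, 5, 4, 5, 5, 9, 6, 4, 5, 10, 5, 5, 5, 5, 5, 4, 5, 5, 9, 6, 4, 10, 6, 10, 4, 6, 4, 9, 6, 4, 5, 10, 5, 4, 6], 66), ([9, 5, 9, 5, 2, 0, 6, 9, 6, 9, 6, 6, 10, 6, 9, 5, 5, 5, 4, 5, 5, 9, 6, 4, 5, 10, 5, 5, 5, 5, 5, 4, 5, 5, 9, 6, 4, 10, 6, 10, 4, 6, 4, 9, 6, 4, 5, 10,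 5, 4, 6], 84), ([0, 6, 9, 6, 9, 6, 6, 10, 6, 9, 5, 5, 5, 4, 5, 5, 9, 6, 4, 5, 10, 5, 5, 5, 5, 5, 4, 5, 5, 9, 6, 4, 10, 6, 10, 4, 6, 4, 9, 6, 4, 5, 10, 5, 4, 6], 91), ([0, 2, 6, 9, 6, 9, 6, 6, 10, 6, 9, 5, 5, 5, 4, 5, 5, 9, 6, 4, 5, 10, 5, 5, 5, 5, 5, 4, 5, 5, 9, 6, 4, 10, 6, 10, 4, 6, 4, 9, 6, 4, 5, 10, 5, 4, 6], 66), ([0, 2, 10, 5, 9, 5, 9, 6, 9, 6, 9, 6, 6, 10, 6, 9, 5, 5, 5, 4, 5, 5, 9, 6, 4, 5, 10, 5, 5, 5, 5, 5, 4, 5, 5, 9, 6, 4, 10, 6, 10, 4, 6, 4, 9, 6, 4, 5, 10, 5, 4, 6], 66), ([9, 5, 9, 5, 9, 6, 9, 6, 9, 6, 6, 10, 6, 9, 5, 5, 5, 4, 5, 5, 9, 6, 4, 5, 10, 5, 5, 5, 5, 5, 4, 5, 5, 9, 6, 4, 10, 6, 10, 4, 6, 4, 9, 6, 4, 5, 10, 5, 4, 6], 84), ([9, 5, 9, 5, 9, 6, 9, 6, 4, 9, 6, 6, 10, 6, 9, 5, 5, 5, 4, 5, 5, 9, 6, 4, 5, 10, 5, 5, 5, 5, 5, 4, 5, 5, 9, 6, 4, 10, 6, 10, 4, 6, 4, 9, 6, 4,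 5, 10, 5, 4, 6], 85), ([0, 2, 10, 5, 9, 5, 9, 6, 9, 6, 4, 9, 6, 6, 10, 6, 9, 5, 5, 5, 4, 5, 5, 9, 6, 4, 5, 10, 5, 5, 5, 5, 5, 4, 5, 5, 9, 6, 4, 10, 6, 10, 4, 6, 4, 9, 6, 4, 5, 10, 5, 4, 6], 67), ([0, 2, 6, 9, 6, 4, 9, 6, 6, 10, 6, 9, 5, 5, 5, 4, 5, 5, 9, 6, 4, 5, 10, 5, 5, 5, 5, 5, 4, 5, 5, 9, 6, 4, 10, 6, 10, 4, 6, 4, 9, 6, 4, 5, 10, 5, 4, 6], 67), ([0, 6, 9, 6, 4, 9, 6, 6, 10, 6, 9, 5, 5, 5, 4, 5, 5, 9, 6, 4, 5, 10, 5, 5, 5, 5, 5, 4, 5, 5, 9, 6, 4, 10, 6, 10, 4, 6, 4, 9, 6, 4, 5, 10, 5, 4, 6], 90), ([9, 5, 9, 5, 2, 0, 6, 9, 6, 4, 9, 6, 6, 10, 6, 9, 5, 5, 5, 4, 5, 5, 9, 6, 4, 5, 10, 5, 5, 5, 5, 5, 4, 5, 5, 9, 6, 4, 10, 6, 10, 4, 6, 4, 9, 6, 4, 5, 10, 5, 4, 6], 85), ([0, 2, 10, 5, 9, 5, 2, 0, 6, 9, 6, 4, 9, 6, 6, 10, 6, 9, 5, 5, 5, 4, 5, 5, 9, 6, 4, 5, 10, 5, 5, 5, 5, 5, 4, 5, 5, 9, 6,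 4, 10, 6, 10, 4, 6, 4, 9, 6, 4, 5, 10, 5, 4, 6], 67), ([6, 9, 9, 5, 2, 0, 6, 9, 6, 4, 9, 6, 6, 10, 6, 9, 5, 5, 5, 4, 5, 5, 9, 6, 4, 5, 10, 5, 5, 5, 5, 5, 4, 5, 5, 9, 6, 4, 10, 6, 10, 4, 6, 4, 9, 6, 4, 5, 10, 5, 4, 6], 84), ([9, 9, 9, 5, 2, 0, 6, 9, 6, 4, 9, 6, 6, 10, 6, 9, 5, 5, 5, 4, 5, 5, 9, 6, 4, 5, 10, 5, 5, 5, 5, 5, 4, 5, 5, 9, 6, 4, 10, 6, 10, 4, 6, 4, 9, 6, 4, 5, 10, 5, 4, 6], 85), ([0, 2, 9, 5, 2, 0, 6, 9, 6, 4, 9, 6, 6, 10, 6, 9, 5, 5, 5, 4, 5, 5, 9, 6, 4, 5, 10, 5, 5, 5, 5, 5, 4, 5, 5, 9, 6, 4, 10, 6, 10, 4, 6, 4, 9, 6, 4, 5, 10, 5, 4, 6], 67), ([4, 6, 6, 10, 5, 5, 4, 6, 6, 6, 9, 5, 5, 5, 4, 5, 5, 9, 6, 4, 5, 10, 5, 5, 5, 5, 5, 4, 5, 5, 9, 6, 4, 10, 6, 10, 4, 6, 4, 9, 6, 4, 5, 10, 5, 4, 6], 82), ([10, 4, 9, 6, 6, 10, 5, 5, 4, 6, 6, 6, 9, 5, 5, 5, 4, 5, 5, 9, 6, 4, 5, 10, 5,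 5, 5, 5, 5, 4, 5, 5, 9, 6, 4, 10, 6, 10, 4, 6, 4, 9, 6, 4, 5, 10, 5, 4, 6], 72), ([4, 6, 4, 6, 6, 4, 5, 5, 5, 5, 5, 9, 6, 4, 5, 10, 5, 5, 5, 5, 5, 4, 5, 5, 9, 6, 4, 10, 6, 10, 4, 6, 4, 9, 6, 4, 5, 10, 5, 4, 6], 50), ([4, 6, 6, 10, 5, 5, 4, 6, 6, 9, 4, 5, 5, 5, 5, 5, 9, 6, 4, 5, 10, 5, 5, 5, 5, 5, 4, 5, 5, 9, 6, 4, 10, 6, 10, 4, 6, 4, 9, 6, 4, 5, 10, 5, 4, 6], 82), ([6, 6, 6, 4, 9, 4, 5, 5, 5, 5, 5, 9, 6, 4, 5, 10, 5, 5, 5, 5, 5, 4, 5, 5, 9, 6, 4, 10, 6, 10, 4, 6, 4, 9, 6, 4, 5, 10, 5, 4, 6], 51), ([4, 5, 5, 5, 5, 5, 9, 6, 4, 5, 10, 5, 5, 5, 5, 5, 4, 5, 5, 9, 6, 4, 10, 6, 10, 4, 6, 4, 9, 6, 4, 5, 10, 5, 4, 6], 72), ([5, 5, 9, 6, 4, 5, 10, 5, 5, 5, 5, 5, 4, 5, 5, 9, 6, 4, 10, 6, 10, 4, 6, 4, 9, 6, 4, 5, 10, 5, 4, 6], 41), ([4, 6, 4, 9, 6, 4, 5, 10, 5, 4, 6], 51)],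
    [([], 94)]] (by decide +kernel))

theorem comm : ∀ x, 0 < Dce.tb ThD.sgc x → T * ι (ThA.y x) = ι (ThA.y (Dce.sgm ThD.sgc x)) * T :=
  cp.comm ThA.pa (ws := [[], [], [], [], [], [], [], [], [], [3], [4], [0, 2, 5, 6, 3, 7, 6, 4, 7, 2, 5, 6], [0, 5, 7, 2, 5, 6, 7, 5], [0, 4, 5, 7, 5, 6, 3, 7, 5], [7, 2, 5, 7], [], [], [], [], [], [], [], [], [], [], [], [], [], [], [], [], [], [], [], [], [], [], [], [], [], [], [], [], [], [], [], [], [], [], [], [], [], [], [], [], [], [], [], [], [], [], [], []]) (by decide +kernel)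

theorem hr : ∀ w ∈ ThD.rels.map (Dce.flatT 19), ev (Dce.gD ι ThA.y T 19) w = 1 :=
  Dce.rels_gD h1 rfl (by decide +kernel) (hi.prod hb [[([9, 9], 66)],
    [([9, 5, 0, 2, 10, 5, 0, 2, 10, 5], 66), ([9, 5, 0, 2, 10, 5], 66), ([9, 5], 66), ([0, 2], 84)],
    [([9, 9], 66), ([9, 9, 2, 0, 3, 1, 2, 0, 1, 4, 9], 66), ([9, 9, 2, 0, 3, 1, 2, 0, 1, 3, 9, 3, 1, 0, 2, 1, 2, 4, 3, 9, 2, 0, 3, 1, 2, 0, 1, 4, 9], 66), ([3, 9, 2, 0, 3, 1, 2, 0, 1, 3, 9, 3, 1, 0, 2, 1, 2, 4, 3, 9, 2, 0, 3, 1, 2, 0, 1, 4, 9], 78)],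
    [([9, 4, 1, 0, 2, 1, 3, 0, 2, 10, 3, 4, 2, 1, 2, 0, 1, 3, 10, 3, 1, 0, 2, 1, 3, 0, 2], 66), ([9, 3, 4, 2, 1, 2, 0, 1, 3, 10, 3, 1, 0, 2, 1, 3, 0, 2], 66), ([9, 9], 66), ([3, 9], 78)],
    [([9, 4, 1, 0, 2, 1, 3, 0, 2], 66), ([9, 9], 66), ([9, 9, 2, 0, 3, 1, 2, 0, 1, 3, 9, 3, 1, 0, 2, 1, 2, 4, 3, 9], 66), ([3, 9, 2, 0, 3, 1, 2, 0, 1, 3, 9, 3, 1, 0, 2, 1, 2, 4, 3, 9], 78)],
    [([3, 6, 6, 9], 88)],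
    [([3, 6, 6, 9, 5, 5, 3, 6, 6, 9], 88)],
    [([9, 4, 3, 10, 3, 0, 2], 66), ([9, 9], 66), ([3, 4, 9], 74)],
    [([9, 5, 0, 2, 10, 5, 0, 2], 66), ([9, 5, 0, 2], 66), ([9, 9], 66), ([0, 2, 6, 9], 84)],
    [([9, 9], 66), ([9, 9, 2, 0, 5, 9, 6, 9], 66), ([9, 9, 2, 0, 5, 9, 6, 9, 2, 0, 5, 9, 6, 9], 66), ([9, 9, 2, 0, 5, 9, 6, 9, 2, 0, 5, 9, 6, 9, 2, 0, 5, 9, 6, 9], 66), ([0, 2, 6, 9, 2, 0, 5, 9, 6, 9, 2, 0, 5, 9, 6, 9, 2, 0, 5, 9, 6, 9], 86)],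
    [([9, 5], 66), ([9, 9, 2, 0, 5, 9], 66), ([9, 9, 2, 0, 5, 9, 6, 9, 2, 0, 5, 9], 66), ([9, 9, 2, 0, 5, 9, 6, 9, 2, 0, 5, 9, 6, 9, 2, 0, 5, 9], 66), ([0, 2, 6, 9, 2, 0, 5, 9, 6, 9, 2, 0, 5, 9, 6, 9, 2, 0, 5, 9], 86)],
    [([3, 6, 6, 9, 5, 5, 3, 6, 6, 9, 5, 5, 3, 6, 6, 9], 88)],
    [([3, 6, 6, 9, 5, 5, 3, 6, 6, 9, 5, 5, 3, 6, 6, 9, 5, 5, 3, 6, 6, 9], 88)],
    [([9, 4, 3, 10, 3, 0, 2], 66), ([9, 9], 66), ([3, 4, 9], 74)],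
    [([9, 4, 1, 0, 2, 1, 3, 0, 2, 10, 3, 4, 2, 1, 2, 0, 1, 3], 66), ([9, 3, 4, 2, 1, 2, 0, 1, 3], 66), ([9, 9, 2, 0, 3, 1, 2, 0, 1, 3, 9], 66), ([3, 9, 2, 0, 3, 1, 2, 0, 1, 3, 9], 78)],
    [([9, 4, 3, 10, 3, 0, 2, 10, 4, 3], 66), ([9, 4, 3], 66), ([], 74)],
    [([9, 4, 3, 10, 3, 0, 2, 10, 4, 3], 66), ([9, 4, 3], 66), ([], 74)],
    [([9, 5, 10, 6, 0, 2, 10, 5], 66), ([9, 5], 66), ([9, 9, 2, 0, 5, 9], 66), ([9, 9, 2, 0, 5, 9, 6, 9, 2, 0, 5, 9], 66), ([0, 2, 6, 9, 2, 0, 5, 9, 6, 9, 2, 0, 5, 9], 86)],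
    [([9, 5, 10, 6, 0, 2, 10, 5, 10, 6, 0, 2, 10, 5], 66), ([9, 5, 10, 6, 0, 2, 10, 5], 66), ([9, 5], 66), ([9, 9, 2, 0, 5, 9], 66), ([0, 2, 6, 9, 2, 0, 5, 9], 86)],
    [([9, 5, 10, 6, 0, 2, 10, 5, 10, 6, 0, 2], 66), ([9, 5, 10, 6, 0, 2], 66), ([9, 9], 66), ([9, 9, 2, 0, 5, 9, 6, 9], 66), ([0, 2, 6, 9, 2, 0, 5, 9, 6, 9], 86)],
    [([9, 5, 10, 6, 0, 2], 66), ([9, 9], 66), ([9, 9, 2, 0, 5, 9, 6, 9], 66), ([9, 9, 2, 0, 5, 9, 6, 9, 2, 0, 5, 9, 6, 9], 66), ([0, 2, 6, 9, 2, 0, 5, 9, 6, 9, 2, 0, 5, 9, 6, 9], 86)],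
    [([9, 5, 10, 6, 0, 2, 10, 5, 10, 6, 0, 2, 10, 5, 10, 6, 0, 2, 10, 5, 2, 0], 66), ([9, 5, 10, 6, 0, 2, 10, 5, 10, 6, 0, 2, 10, 5, 2, 0], 66), ([9, 5, 10, 6, 0, 2, 10, 5, 2, 0], 66), ([9, 5, 2, 0], 66), ([], 86)],
    [([9], 66)]] (by decide +kernel))

theorem hyp : Dce.Hyp ι ThA.y T ThK.φ 819 ThA.act [0, 1, 50, 26] 19 ThD.ivc ThD.sgc [19, 2, 0] ThD.rels :=
  ⟨ThA.pa, by decide, Dce.hyp_inv ThA.pa (by decide +kernel),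
    Dce.invT_of_rel (Dce.rels_gD h1 rfl (by decide +kernel) (hi.prod hb [[([], 66)]] (by decide +kernel))), comm,
    Dce.hyp_rel (by decide +kernel) hr⟩

noncomputable def ψ : ThK.G →* Perm ℕ := ThO.ex.choose

theorem rψ : PermRep ThA.y ThO.nets 17199 15 ψ := ThO.ex.choose_spec.congr fun _ hx => renG_append _ _ hx

theorem stabC : IsStab ψ (genW ThA.y (sing [9, 10, 11, 12, 13, 14])) 0 :=
  rψ.stab_le (rψ.trans (by decide) ThO.otr) (fun c hc => fix_of_chkClosed rψ.ok (ws := sing [9, 10, 11, 12, 13, 14]) (by decide +kernel)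
    ((rψ.map_genW (by decide +kernel)).le (Subgroup.mem_map_of_mem ψ hc))) (m := 36864) ThK.card (by decide)
    (CardGe.of_map ψ (by rw [rψ.map_genW (by decide +kernel)]; exact lw1.cardGe))

theorem injψ : Function.Injective ψ :=
  (rψ.card_eq (cardLe_of_card ThK.card (by decide) _) (by rw [← genW_sing]; exact lw0.cardGe)).2

instance finK : Finite ThK.G := Nat.finite_of_card_ne_zero (by rw [ThK.card]; decide)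

theorem cert : Dce.Cert ι ThA.y T 19 ThD.subs ThD.tab.at ψ 17199 0 ThD.sz.length ThD.nm ThD.sz :=
  hyp.cert ThD.steps rψ (by decide) (by decide)
    (fun k hk => Dce.hC_of_comm comm (xs := [9, 10, 11, 12, 13, 14]) (by decide +kernel) ((genW_sing _ _).le ((stabC k).2 hk)))
    (by decide) rfl (by decide) ThD.tree ThD.rows

theorem gen : ∀ S : Subgroup Cfsg.Spor.Th, (∀ k, ι k ∈ S) → T ∈ S → S = ⊤ :=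
  Dce.gen_top h1 rfl (by decide +kernel) (eq_top_iff.2 (lt.genL_top.ge.trans ((genW_sing g _).ge.trans
    (hi.genW_le hd (by decide +kernel)))))

theorem exρ : ∃ ρ, BRep ThM.D ThM.As 14 ThM.iv g 11 (sing (List.range 11)) ρ :=
  lt.bRep (rels := rels) (by decide +kernel) ThM.ok ThM.hi (by decide +kernel)
    (ThM.hi.rels ThM.hb (by decide +kernel) (by decide +kernel))

noncomputable def ρ := exρ.choose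

theorem rρ : BRep ThM.D ThM.As 14 ThM.iv g 11 (sing (List.range 11)) ρ := exρ.choose_spec

theorem rρ' : BRep ThM.D ThM.As 14 ThM.iv (Dce.gD ι ThA.y T 19) (19 + 1) Rp ρ :=
  rρ.ren2 (gD_ren h1 rfl) (by decide +kernel) (ThM.hi.rels ThM.hb (by decide +kernel) (by decide +kernel))

theorem rng : ι.range = genW g jl := range_eq_genW ThK.rep.top exι.choose_spec

theorem cE (k : ThK.G) : ∀ E ∈ [ThM.E].map ThM.D.bM, Commute (ρ (ι k) : Matrix _ _ _) E :=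
  rρ.commL (mc := 3) (by decide +kernel) (ws := jl) (by decide +kernel) (by decide +kernel) (rng ▸ ⟨k, rfl⟩)

theorem main : ι.range.index = 143127000 ∧ Function.Injective ρ ∧ Function.Injective ι ∧
    Nat.card ι.range = 634023936 ∧ Nat.card Cfsg.Spor.Th = 634023936 * 143127000 ∧ IsCoatom ι.range ∧
    ∀ N : Subgroup Cfsg.Spor.Th, N.Normal → N ≤ ι.range → N = ⊥ :=
  (cert.main' gen (by decide) ρ (invT ZMod.val _ _ ts) (fun k a k' => invT_mul _ _ (cE k) (cE k') a)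
    (rρ'.sep' (mc := 3) (by decide +kernel) ts (fun i => Dce.pw ThD.tab.at (getL ThD.nm 0 i)) (vals := vals)
      (by decide +kernel) (fun i (hi : i < 11) => by interval_cases i; exacts [v0, v1, v2, v3, v4, v5, v6, v7, v8, v9, v10]) (by decide))
    (by decide +kernel) rfl (fun k hk => injψ (hk.trans ψ.map_one.symm)) (by decide) (by decide) ThK.card
    (by decide +kernel)).2

theorem pw : (T * ι (ev ThA.y [4, 1, 5, 3, 0])) ^ 19 = 1 := by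
  have := rρ'.rels main.2.1 (rels := [powW ([4, 1, 5, 3, 0] ++ [19]) 19]) (by decide +kernel)
    (ThM.hi.rels (ThM.ok.rels (es := [(.mul (.sq (.mul (.sq (.sq (.sq (.mul (.mul (.lt 4) (.mul (.lt 1) (.lt 5))) (.mul (.lt 3) (.mul (.lt 0) (.lt 9))))))) (.mul (.mul (.lt 4) (.mul (.lt 1) (.lt 5))) (.mul (.lt 3) (.mul (.lt 0) (.lt 9)))))) (.mul (.mul (.lt 4) (.mul (.lt 1) (.lt 5))) (.mul (.lt 3) (.mul (.lt 0) (.lt 9)))))]) (by decide +kernel)) (by decide +kernel) (by decide +kernel)) _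
    List.mem_cons_self
  rwa [ev_powW, ev_append, ev_one, Dce.gD_t, Dce.ev_gD (by decide)] at this

theorem ncl : Subgroup.normalClosure {ev ThK.g [7, 0, 3, 6, 1, 4, 7, 0, 3, 6, 1, 4, 2, 0]} = ⊤ :=
  normalClosure_eq_top ThK.rep.top (genW_le_of_seeds (JThKC.seedsOk (quoG_255 ThK.he _)
    (rels_of_sub (quoG_rels ThK.hg _) (by decide +kernel)) (subs_basePt _ _)) (by decide +kernel))

theorem simple : IsSimpleGroup Cfsg.Spor.Th :=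
  Dce.simple_of_coatom main.2.2.2.2.2.1 main.2.2.2.2.2.2 pw (by rw [main.2.2.2.1]; decide +kernel)
    (Dce.ncl_top gen (kw := [0, 3, 6, 1, 4]) (ThA.pa.rels (ws := [_]) (by decide +kernel) _ List.mem_cons_self) (rs := [[7, 19, 7, 19, 2, 0]])
      (Dce.rels_gD h1 rfl (by decide +kernel) (hi.prod hb [[([9, 9, 2, 0], 66), ([9, 2, 0], 80)]] (by decide +kernel))) (ncl_of_one ncl))

theorem rng' : ι.range = genW g [[0], [1], [2], [3], [4], [5], [7]] :=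
  rng.trans (le_antisymm (hi.genW_le hd (by decide +kernel)) (genW_mono _ (by decide)))

end Cfsg.Agent.Spor.ThG
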