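import Cfsg.Agent.Spor.ThL
import Cfsg.Agent.Spor.J.ThSC

/-! 3D4(2) is simple (generated certificate, helper23). -/

set_option Elab.async false
set_option maxRecDepth 100000
set_option exponentiation.threshold 100000

namespace Cfsg.Agent.Spor.ThS

open Equiv

open ThL (G g he φ rep inj hg H stab mapH card)



theorem otr : OrbSub (genW (PP JThL.nets) (sing (List.range 7))) 0 (ivl 0 819) :=
  (orbSub_base _ _).run JThL.ok (prog := [1, 0, 2, 3, 1, 2, 4, 1, 5, 3, 4, 0, 5, 3, 2, 1, 3, 4, 0, 5, 5, 2, 1]) (by decide +kernel)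

theorem trans : Trans φ 819 0 := ThL.rep.trans (by decide) otr

theorem index : H.index = 819 := ThL.rep.index_eq stab trans

noncomputable def A0 : ℕ := (nat_lit 0x80000000000000f000000007c00000f00060440)

theorem o0 : OrbSub (genW (PP JThL.nets) JThL.subs) 6 A0 :=
  (orbSub_base _ _).run JThL.ok (prog := [2, 1, 3, 4, 2, 3, 2]) (by decide +kernel)

theorem cl0 : chkClosed JThL.nets JThL.subs A0 = true := by decide +kernel

theorem pop0 : chkPop 10 A0 18 = true := by decide +kernel

theorem orb0 : IsOrb (H.map φ) (6, A0, 18) := by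
  rw [mapH]; exact isOrb_of_chk JThL.ok o0 (by decide +kernel) cl0 pop0

noncomputable def A1 : ℕ := (nat_lit 0x801c0000011003c0000000000fe00000bfff00000009bfc003fff0000000000000bfffc00017ffffc000000002ffff81fff100000000017ffffc00fffe0000003ffe3fde0000000fffe1ff00007fbf7c0003fefc01ff0f007fc078380f03081882000)

theorem o1 : OrbSub (genW (PP JThL.nets) JThL.subs) 13 A1 :=
  (orbSub_base _ _).run JThL.ok (prog := [0, 2, 3, 1, 2, 4, 2, 3, 1, 2, 4, 2, 3, 1, 2]) (by decide +kernel)

theorem cl1 : chkClosed JThL.nets JThL.subs A1 = true := by decide +kernel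

theorem pop1 : chkPop 10 A1 288 = true := by decide +kernel

theorem orb1 : IsOrb (H.map φ) (13, A1, 288) := by
  rw [mapH]; exact isOrb_of_chk JThL.ok o1 (by decide +kernel) cl1 pop1

noncomputable def A2 : ℕ := (nat_lit 0x7fffffff7fe3fffffeeffc3ffffffffff01fffff4000fffffff6403ffc000fffffffffffff40003fffe800003ffffffffd00007e000efffffffffe800003ff0001ffffffc001c021fffffff0001e00ffff804003fffc0103fe0000ff803f8007f0fc07e71dbbe)

theorem o2 : OrbSub (genW (PP JThL.nets) JThL.subs) 1 A2 :=
  (orbSub_base _ _).run JThL.ok (prog := [0, 1, 2, 1, 3, 4, 2, 3, 1, 2, 4, 3, 4, 2, 1, 3, 2, 4, 3, 1, 2, 4, 1]) (by decide +kernel)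

theorem cl2 : chkClosed JThL.nets JThL.subs A2 = true := by decide +kernel

theorem pop2 : chkPop 10 A2 512 = true := by decide +kernel

theorem orb2 : IsOrb (H.map φ) (1, A2, 512) := by
  rw [mapH]; exact isOrb_of_chk JThL.ok o2 (by decide +kernel) cl2 pop2

theorem coatom : IsCoatom H :=
  ThL.rep.isCoatom stab trans (by decide) (orbs := [(6, A0, 18), (13, A1, 288), (1, A2, 512)])
    (by simp only [List.forall_mem_cons, List.not_mem_nil, IsEmpty.forall_iff, implies_true, and_true]
        exact ⟨orb0, orb1, orb2⟩) (by decide +kernel) (ns := [18, 288, 512]) rfl (by decide +kernel)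

theorem pw : ev g [1, 2, 4, 3, 5, 0] ^ 13 = 1 := by
  rw [← ev_powW]
  exact ThL.rep.ev_eq_one inj (ws := [powW [1, 2, 4, 3, 5, 0] 13]) (by decide +kernel)
    (ev_eq_one_of_chkId (L := 10) JThL.ok (by decide) (by decide +kernel)) _ List.mem_cons_self

theorem cardH : Nat.card H = 258048 := card_of_index index card (by decide) (by decide)

theorem ncl : Subgroup.normalClosure {ev g [1, 2, 4, 3, 5, 0]} = ⊤ :=
  normalClosure_eq_top ThL.rep.top (genW_le_of_seeds (JThSC.seedsOk (quoG_255 he _)
    (rels_of_sub (quoG_rels hg _) (by decide +kernel)) (subs_basePt _ _)) (by decide +kernel))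

theorem simple : IsSimpleGroup G :=
  ThL.rep.isSimpleGroup stab trans inj coatom pw (by rw [cardH]; decide +kernel) ncl

end Cfsg.Agent.Spor.ThS
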