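import Cfsg.Agent.Spor.MdO73
import Cfsg.Agent.Spor.MatRep
import Cfsg.Agent.S0292

/-! The model of O7(3) is `POmega` (helper23). -/

set_option Elab.async false
set_option maxRecDepth 100000
set_option exponentiation.threshold 100000

namespace Cfsg.Agent.Spor.EqO73

open Equiv

def As : List (List ℕ) := [[2, 512, 565149010296832, 565148993585152, 8589934592, 564049498734592, 283674033651712],
  [562958560198912, 562958560198657, 131072, 562958543421697, 281475010396674, 283678328619522, 4328653314],
  [2, 282583095050496, 565153305329920, 565153288421632, 282578800083456, 2199023255552, 283678328488192],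
  [2, 282583111958784, 565153288421632, 565153271709952, 282578816991744, 281483600331264, 1108135248384],
  [564058071891968, 564058071892481, 283678328487938, 564058055114753, 8589934592, 562958560264193, 2203351842818],
  [2, 565157583454464, 565157583389184, 565157566677504, 565153288487424, 281479305363712, 1103840280832],
  [283678311842304, 564058088603650, 283678311776769, 564058071826690, 283674016875009, 282578800214529, 282583111893250],
  [2, 8606842880, 131072, 33554432, 33620480, 2207630098688, 562954282009088]]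

def eI : Unit ⊕ (Fin 3 ⊕ Fin 3) ≃ Fin 7 where
  toFun := Sum.elim (fun _ => 0) (Sum.elim (fun i => ⟨i + 1, by omega⟩) fun i => ⟨i + 4, by omega⟩)
  invFun := ![.inl (), .inr (.inl 0), .inr (.inl 1), .inr (.inl 2), .inr (.inr 0), .inr (.inr 1), .inr (.inr 2)]
  left_inv := by decide
  right_inv := by decide

theorem mr : MatRep (decP 8 3 eI As) 8 255 3 7 As 8 (Matrix.reindexRingEquiv (ZMod 3) eI).toMonoidHom :=
  matRep_decP eI (by decide +kernel) 8

def S : Matrix (Unit ⊕ (Fin 3 ⊕ Fin 3)) (Unit ⊕ (Fin 3 ⊕ Fin 3)) (ZMod 3) :=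
  Matrix.fromBlocks 1 0 0 (Matrix.fromBlocks 0 (Matrix.scalar _ 2) (Matrix.scalar _ 2) 0)

theorem hS (v : Unit ⊕ (Fin 3 ⊕ Fin 3) → ZMod 3) : Cfsg.quadFormOdd 3 (ZMod 3) v = v ⬝ᵥ Matrix.mulVec S v := by
  have h : (4 : ZMod 3) = 1 := rfl
  simp [Cfsg.quadFormOdd, S, dotProduct, Matrix.mulVec, Fin.sum_univ_three, Matrix.diagonal_apply]
  linear_combination (-(v (.inr (.inl 0)) * v (.inr (.inr 0)) + v (.inr (.inl 1)) * v (.inr (.inr 1)) +
    v (.inr (.inl 2)) * v (.inr (.inr 2)))) * h

theorem hA : ∀ x < 8, Matrix.transpose (decP 8 3 eI As x) * S * decP 8 3 eI As x = S := by decide +kernel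

theorem equiv : Nonempty (MdO73.G ≃* Cfsg.POmega (ZMod 3) (Cfsg.quadFormOdd 3 (ZMod 3))) := by
  have hu := mr.isUnit JO73.rels (by decide +kernel) (by decide +kernel) (by decide +kernel)
  have m2 := mr.lift ((Units.coeHom _).comp (Cfsg.isometryGroup (ZMod 3) (Cfsg.quadFormOdd 3 (ZMod 3))).subtype)
    (Units.val_injective.comp Subtype.val_injective) fun x hx => by
      obtain ⟨c, hc⟩ := hu x hx
      exact ⟨⟨c, fun u _ => by rw [hc]; exact mem_preserving_of_quad S hS (hA x hx) u⟩, hc⟩
  obtain ⟨ρ, h1, -⟩ := MdO73.model.inj (liftG_255 _ _ (by decide))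
    (m2.ev_eq_one (by decide +kernel) (by decide +kernel)) (w := [0]) (by decide)
    (m2.ne (s := []) (by decide) 0 0 (by decide +kernel))
  have := MdO73.simple
  have hc := center_eq_bot_of_card MdO73.card (by decide) (by norm_num)
  have h2 := S0292.result (F := ZMod 3) (q := 3) (by simp) (by decide) 3 le_rfl
  refine equiv_of_inj_card _ (inj_quot_center hc (ρ.codRestrict _ fun a => range_le_commutator hc ρ ⟨a, rfl⟩)
    fun a b h => h1 (congrArg Subtype.val h)) MdO73.card ?_ (by decide)
  simp only [Finset.prod_range_succ, Finset.prod_range_zero] at h2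
  omega

end Cfsg.Agent.Spor.EqO73
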