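import Cfsg.Agent.Spor.Model
import Cfsg.Agent.Spor.Mat
import Mathlib.Algebra.Order.Ring.GeomSum

/-! Fast kernel arithmetic for large matrices over `ZMod p` (helper23). A `K × K` matrix is ONE number with `w`-bit
digits (column after column, `bM`); `mulB` multiplies with `K` big multiplications and a parallel reduction;
`Ex` are straight-line expressions, `chkE`/`rels_of_chkE` verify relators, `trJ` computes the invariants
`tr ((E a E E a⁻¹ E) ^ m)`. -/

namespace Cfsg.Agent.Spor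

open Matrix

theorem testBit_dg (w v k b : ℕ) : (dg w v k).testBit b = (decide (b < w) && v.testBit (w * k + b)) := by
  rw [dg, Nat.testBit_mod_two_pow, Nat.testBit_shiftRight]

theorem dg_lt (w v k : ℕ) : dg w v k < 2 ^ w := Nat.mod_lt _ (Nat.two_pow_pos w)

theorem dg_land (w x y k : ℕ) : dg w (Nat.land x y) k = dg w x k &&& dg w y k := by
  apply Nat.eq_of_testBit_eq; intro b
  rw [testBit_dg, Nat.land_eq, Nat.testBit_and, Nat.testBit_and, testBit_dg, testBit_dg]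
  cases decide (b < w) <;> simp

theorem dg_shr (w x j k : ℕ) : dg w (Nat.shiftRight x (w * j)) k = dg w x (j + k) := by
  rw [dg, dg, Nat.shiftRight_eq, ← Nat.shiftRight_add, Nat.mul_add]

theorem dg_shr_and {w s : ℕ} (x k : ℕ) (hs : s ≤ w) : dg w (Nat.shiftRight x s) k &&& (2 ^ (w - s) - 1) = dg w x k >>> s := by
  apply Nat.eq_of_testBit_eq; intro b
  rw [Nat.testBit_and, Nat.testBit_two_pow_sub_one, Nat.testBit_shiftRight, testBit_dg, testBit_dg, Nat.shiftRight_eq,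
    Nat.testBit_shiftRight, show s + (w * k + b) = w * k + (s + b) by ring]
  by_cases h : s + b < w
  · simp [h, show b < w by omega, show b < w - s by omega]
  · simp [h, show ¬ b < w - s by omega]

theorem dg_dg (w K x l i : ℕ) : dg w (dg (w * K) x l) i = if i < K then dg w x (l * K + i) else 0 := by
  apply Nat.eq_of_testBit_eq; intro b
  rw [testBit_dg, testBit_dg]
  split_ifs with h
  · rw [testBit_dg, show w * K * l + (w * i + b) = w * (l * K + i) + b by ring]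
    by_cases hb : b < w
    · have : w * i + b < w * K := by nlinarith
      simp [this]
    · simp [hb]
  · have : ¬ w * i + b < w * K := by
      have := Nat.mul_le_mul_left w (not_lt.1 h); omega
    simp [this]

theorem lt_of_dg {w v K : ℕ} (hw : 0 < w) (h : ∀ k, K ≤ k → dg w v k = 0) : v < 2 ^ (w * K) := by
  refine Nat.lt_pow_two_of_testBit _ fun b hb => ?_
  have h1 := congrArg (·.testBit (b % w)) (h (b / w) ((Nat.le_div_iff_mul_le hw).2 (by rwa [Nat.mul_comm])))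
  simp only [testBit_dg, Nat.div_add_mod, Nat.mod_lt b hw, decide_true, Bool.true_and, Nat.zero_testBit] at h1
  exact h1

theorem dg_small {w v : ℕ} (h : v < 2 ^ w) (k : ℕ) : dg w v k = if k = 0 then v else 0 := by
  cases k with
  | zero => rw [dg_zero, Nat.mod_eq_of_lt h, if_pos rfl]
  | succ k => rw [dg_succ, Nat.div_eq_of_lt h, dg_zero_left, if_neg k.succ_ne_zero]

/-- `n` digits one. -/
def rep (w n : ℕ) : ℕ := Nat.div (Nat.pred (Nat.shiftLeft 1 (Nat.mul w n))) (Nat.pred (Nat.shiftLeft 1 w))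

theorem dg_rep {w : ℕ} (hw : 0 < w) (n k : ℕ) : dg w (rep w n) k = if k < n then 1 else 0 := by
  have h2 : 2 ≤ 2 ^ w := Nat.le_self_pow hw.ne' 2
  have e : rep w n = ∑ i ∈ Finset.range n, (2 ^ w) ^ i := by
    rw [Nat.geomSum_eq h2, ← pow_mul, ← Nat.one_shiftLeft, ← Nat.one_shiftLeft]; rfl
  rw [e]; clear e
  induction n generalizing k with
  | zero => simp [dg_zero_left]
  | succ n ih =>
    rw [Finset.sum_range_succ', pow_zero, Finset.sum_congr rfl fun i _ => pow_succ' _ i, ← Finset.mul_sum]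
    cases k with
    | zero => rw [dg_zero, Nat.mul_add_mod, Nat.mod_eq_of_lt h2, if_pos n.succ_pos]
    | succ k =>
      rw [dg_succ, Nat.add_comm, Nat.add_mul_div_left _ _ (Nat.two_pow_pos w), Nat.div_eq_of_lt h2, Nat.zero_add, ih]
      simp

theorem dg_mul_rep {w m : ℕ} (hw : 0 < w) (hm : m < 2 ^ w) (n k : ℕ) :
    dg w (Nat.mul m (rep w n)) k = if k < n then m else 0 := by
  rw [Nat.mul_eq, dg_mul fun k => by rw [dg_rep hw]; split_ifs <;> simp [hm], dg_rep hw]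
  split_ifs <;> simp

/-- A step of the parallel reduction. -/
structure RdS where
  m1 : ℕ
  r : ℕ
  m : ℕ
  s : ℕ
  m3 : ℕ

def RdS.sc (t : RdS) (x : ℕ) : ℕ :=
  Nat.land (Nat.add (Nat.land x t.m1) (Nat.mul t.r (Nat.shiftRight (Nat.mul t.m x) t.s))) t.m3

noncomputable def RdS.ok (t : RdS) (w x : ℕ) : Bool :=
  andB (Nat.blt (Nat.mul t.m x) (Nat.shiftLeft 1 w))
    (Nat.blt (Nat.add (Nat.land x t.m1) (Nat.mul t.r (Nat.shiftRight (Nat.mul t.m x) t.s))) (Nat.shiftLeft 1 w))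

noncomputable def RdS.ok0 (t : RdS) (w : ℕ) : Bool :=
  andB (Nat.blt t.m1 (Nat.shiftLeft 1 w)) (andB (Nat.blt t.m3 (Nat.shiftLeft 1 w)) (Nat.ble t.s w))

def RdS.par (t : RdS) (w n V : ℕ) : ℕ :=
  Nat.land (Nat.add (Nat.land V (Nat.mul t.m1 (rep w n))) (Nat.mul t.r (Nat.land (Nat.shiftRight (Nat.mul t.m V) t.s)
    (Nat.mul (Nat.pred (Nat.shiftLeft 1 (Nat.sub w t.s))) (rep w n))))) (Nat.mul t.m3 (rep w n))

theorem blt_shl {a w : ℕ} (h : Nat.blt a (Nat.shiftLeft 1 w) = true) : a < 2 ^ w := by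
  rw [← Nat.one_shiftLeft]; exact Nat.blt_eq ▸ h

theorem RdS.dg_par (t : RdS) {w n V : ℕ} (hw : 0 < w) (h0 : t.ok0 w = true) (h : ∀ k, t.ok w (dg w V k) = true)
    (hz : ∀ k, n ≤ k → dg w V k = 0) (k : ℕ) : dg w (t.par w n V) k = t.sc (dg w V k) := by
  simp only [RdS.ok0, RdS.ok, andB_eq_true] at h0 h
  have hs : t.s ≤ w := Nat.le_of_ble_eq_true h0.2.2
  have e1 : ∀ k, dg w (Nat.land V (Nat.mul t.m1 (rep w n))) k = Nat.land (dg w V k) t.m1 := fun k => by
    rw [dg_land, dg_mul_rep hw (blt_shl h0.1)]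
    split_ifs with hk
    · rfl
    · rw [hz k (not_lt.1 hk)]; simp
  have e2 : ∀ k, dg w (Nat.land (Nat.shiftRight (Nat.mul t.m V) t.s)
      (Nat.mul (Nat.pred (Nat.shiftLeft 1 (Nat.sub w t.s))) (rep w n))) k =
      if k < n then Nat.shiftRight (Nat.mul t.m (dg w V k)) t.s else 0 := fun k => by
    have e : Nat.pred (Nat.shiftLeft 1 (Nat.sub w t.s)) = 2 ^ (w - t.s) - 1 := by rw [← Nat.one_shiftLeft]; rfl
    rw [dg_land, e, dg_mul_rep hw (lt_of_lt_of_le (Nat.sub_lt (Nat.two_pow_pos _) Nat.one_pos)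
      (Nat.pow_le_pow_right (by norm_num) (Nat.sub_le _ _)))]
    split_ifs
    · rw [dg_shr_and _ _ hs, Nat.mul_eq, dg_mul fun k => blt_shl (h k).1]; rfl
    · simp
  have e3 : ∀ k, (if k < n then Nat.shiftRight (Nat.mul t.m (dg w V k)) t.s else 0) =
      Nat.shiftRight (Nat.mul t.m (dg w V k)) t.s := fun k => by
    split_ifs with hk
    · rfl
    · rw [hz k (not_lt.1 hk)]; simp
  simp only [e3] at e2
  have e4 := fun k => dg_mul (c := t.r) (fun k => by
    rw [e2]; exact lt_of_le_of_lt (Nat.le_add_left _ _) (blt_shl (h k).2)) k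
  rw [RdS.par, dg_land, Nat.add_eq, @Nat.mul_eq t.r, dg_add fun k => by rw [e1, e4, e2]; exact blt_shl (h k).2, e1, e4, e2,
    dg_mul_rep hw (blt_shl h0.2.1)]
  split_ifs with hk
  · rfl
  · rw [hz k (not_lt.1 hk)]; simp [RdS.sc]

noncomputable def chkR (w : ℕ) (ts : List RdS) (z : ℕ) : ℕ → Bool :=
  List.rec (motive := fun _ => ℕ → Bool) (fun x => Nat.beq x z)
    (fun t _ ih x => andB (t.ok w x) (seqL (t.sc x) ih)) ts

noncomputable def redB (w n : ℕ) (ts : List RdS) : ℕ → ℕ :=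
  List.rec (motive := fun _ => ℕ → ℕ) (fun V => V) (fun t _ ih V => seq (t.par w n V) ih) ts

theorem dg_redB {w n : ℕ} (hw : 0 < w) {ts : List RdS} (h0 : allL ts (fun t => t.ok0 w) = true) {V : ℕ} {f : ℕ → ℕ}
    (h : ∀ k, chkR w ts (f k) (dg w V k) = true) (hz : ∀ k, n ≤ k → dg w V k = 0) (k : ℕ) :
    dg w (redB w n ts V) k = f k := by
  induction ts generalizing V with
  | nil => exact Nat.eq_of_beq_eq_true (h k)
  | cons t ts ih =>
    have h1 : andB (t.ok0 w) (allL ts fun t => t.ok0 w) = true := h0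
    have h2 : ∀ k, andB (t.ok w (dg w V k)) (seqL (t.sc (dg w V k)) (chkR w ts (f k))) = true := h
    simp only [andB_eq_true, seqL_eq] at h1 h2
    have h3 := t.dg_par hw h1.1 (fun k => (h2 k).1) hz
    refine (congrArg (dg w · k) (seq_eq _ (redB w n ts))).trans
      (ih h1.2 (fun k => by rw [h3]; exact (h2 k).2) fun k hk => ?_)
    rw [h3, hz k hk]; simp [RdS.sc]

/-- The parameters: digit width, prime, size, reduction. -/
structure BP where
  w : ℕ
  p : ℕ
  K : ℕ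
  ts : List RdS

namespace BP
variable (D : BP)

def X : ℕ := Nat.mul D.K (Nat.mul (Nat.pred D.p) (Nat.pred D.p))

noncomputable def ok : Bool :=
  andB (andB (Nat.blt 0 D.w) (andB (Nat.blt 1 D.p) (Nat.blt D.X (Nat.shiftLeft 1 D.w))))
    (andB (allL D.ts fun t => t.ok0 D.w) (allN (Nat.succ D.X) fun x => chkR D.w D.ts (Nat.mod x D.p) x))

noncomputable def acc (cm rm n : ℕ) : ℕ → ℕ → ℕ → ℕ :=
  Nat.rec (motive := fun _ => ℕ → ℕ → ℕ → ℕ) (fun _ _ s => s)
    (fun _ ih A Y s => seq (Nat.add s (Nat.mul (Nat.land A cm) (Nat.land Y rm))) fun s' =>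
      seq (Nat.shiftRight A (Nat.mul D.w D.K)) fun A' => seq (Nat.shiftRight Y D.w) fun Y' => ih A' Y' s') n

noncomputable def red (V : ℕ) : ℕ := redB D.w (Nat.mul D.K D.K) D.ts V

/-- The product. -/
noncomputable def mulB (A Y : ℕ) : ℕ :=
  seq (D.acc (Nat.pred (Nat.shiftLeft 1 (Nat.mul D.w D.K)))
    (Nat.mul (Nat.pred (Nat.shiftLeft 1 D.w)) (rep (Nat.mul D.w D.K) D.K)) D.K A Y 0) D.red

/-- The matrix coded by `V`. -/
def bM (V : ℕ) : Matrix (Fin D.K) (Fin D.K) (ZMod D.p) := Matrix.of fun i l => (dg D.w V (l * D.K + i) : ℕ)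

def Good (V : ℕ) : Prop := ∀ k, dg D.w V k ≤ D.p - 1 ∧ (D.K * D.K ≤ k → dg D.w V k = 0)

/-- The projection onto the first `r` coordinates. -/
def idB (r : ℕ) : ℕ := rep (Nat.mul D.w (Nat.succ D.K)) r

noncomputable def okV (mc V : ℕ) : Bool :=
  andB (Nat.ble mc D.X) (andB (Nat.beq (Nat.land V (Nat.mul mc (rep D.w (Nat.mul D.K D.K)))) V) (Nat.beq (D.red V) V))

/-- Spread `c`-bit digits. -/
noncomputable def spread (c L V : ℕ) : ℕ :=
  Nat.rec (motive := fun _ => ℕ → ℕ) (fun V => V) (fun t ih V =>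
    seq (Nat.mul (Nat.pred (Nat.shiftLeft 1 (Nat.shiftLeft c t)))
      (rep (Nat.shiftLeft D.w (Nat.succ t)) (Nat.succ (Nat.shiftRight (Nat.mul D.K D.K) (Nat.succ t))))) fun m =>
      seq (Nat.lor (Nat.land V m) (Nat.shiftLeft (Nat.land (Nat.shiftRight V (Nat.shiftLeft c t)) m)
        (Nat.shiftLeft D.w t))) ih) L V

variable {D} (h : D.ok = true)
include h

theorem ok_spec : 0 < D.w ∧ 1 < D.p ∧ D.K * ((D.p - 1) * (D.p - 1)) < 2 ^ D.w ∧ ∀ V,
    (∀ k, dg D.w V k ≤ D.K * ((D.p - 1) * (D.p - 1)) ∧ (D.K * D.K ≤ k → dg D.w V k = 0)) →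
      D.Good (D.red V) ∧ ∀ k, dg D.w (D.red V) k = dg D.w V k % D.p := by
  simp only [ok, andB_eq_true] at h
  have hw : 0 < D.w := Nat.blt_eq ▸ h.1.1
  have hp : 1 < D.p := Nat.blt_eq ▸ h.1.2.1
  refine ⟨hw, hp, blt_shl h.1.2.2, fun V hV => ?_⟩
  have e := dg_redB (n := D.K * D.K) hw h.2.1 (f := fun k => dg D.w V k % D.p)
    (fun k => allN_spec h.2.2 _ (Nat.lt_succ_of_le (hV k).1)) fun k => (hV k).2
  exact ⟨fun k => ⟨(e k).trans_le (Nat.le_sub_one_of_lt (Nat.mod_lt _ (by omega))),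
    fun hk => (e k).trans (by rw [(hV k).2 hk]; rfl)⟩, e⟩

theorem good_of_okV {mc V : ℕ} (hv : D.okV mc V = true) : D.Good V := by
  obtain ⟨hw, -, hX, H⟩ := ok_spec h
  simp only [okV, andB_eq_true] at hv
  have h1 : mc ≤ D.K * ((D.p - 1) * (D.p - 1)) := Nat.le_of_ble_eq_true hv.1
  rw [← Nat.eq_of_beq_eq_true hv.2.2]
  refine (H V fun k => ?_).1
  rw [← Nat.eq_of_beq_eq_true hv.2.1, dg_land, dg_mul_rep hw (h1.trans_lt hX)]
  split_ifs with hk
  · exact ⟨Nat.and_le_right.trans h1, fun hk' => absurd hk (not_lt.2 hk')⟩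
  · simp

theorem dg_outer {A Y : ℕ} (hA : ∀ k, dg D.w A k ≤ D.p - 1) (hY : ∀ k, dg D.w Y k ≤ D.p - 1) (hK : 0 < D.K) (k : ℕ) :
    dg D.w (Nat.mul (Nat.land A (Nat.pred (Nat.shiftLeft 1 (Nat.mul D.w D.K))))
      (Nat.land Y (Nat.mul (Nat.pred (Nat.shiftLeft 1 D.w)) (rep (Nat.mul D.w D.K) D.K)))) k =
      if k / D.K < D.K then dg D.w A (k % D.K) * dg D.w Y (k / D.K * D.K) else 0 := by
  obtain ⟨hw, hp, hX, -⟩ := ok_spec h
  have hb : (D.p - 1) * (D.p - 1) < 2 ^ D.w := lt_of_le_of_lt (Nat.le_mul_of_pos_left _ hK) hX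
  have e1 : Nat.land A (Nat.pred (Nat.shiftLeft 1 (Nat.mul D.w D.K))) = dg (D.w * D.K) A 0 := by
    rw [dg_zero, ← Nat.and_two_pow_sub_one_eq_mod, ← Nat.one_shiftLeft]; rfl
  have e2 : Nat.pred (Nat.shiftLeft 1 D.w) = 2 ^ D.w - 1 := by rw [← Nat.one_shiftLeft]; rfl
  have hle : 2 ^ D.w ≤ 2 ^ (D.w * D.K) := Nat.pow_le_pow_right (by norm_num) (Nat.le_mul_of_pos_right _ hK)
  have e3 : ∀ l, dg (D.w * D.K) (Nat.land Y (Nat.mul (2 ^ D.w - 1) (rep (Nat.mul D.w D.K) D.K))) l =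
      if l < D.K then dg D.w Y (l * D.K) else 0 := fun l => by
    rw [dg_land, @Nat.mul_eq D.w, dg_mul_rep (Nat.mul_pos hw hK)
      (lt_of_lt_of_le (Nat.sub_lt (Nat.two_pow_pos _) Nat.one_pos) hle)]
    split_ifs
    · rw [Nat.and_two_pow_sub_one_eq_mod, ← dg_zero, dg_dg, if_pos hK, Nat.add_zero]
    · simp
  have e4 : ∀ c ≤ D.p - 1, ∀ i, dg D.w (c * dg (D.w * D.K) A 0) i = if i < D.K then c * dg D.w A i else 0 :=
    fun c hc i => by
      rw [dg_mul fun i => by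
        rw [dg_dg]; split_ifs
        · exact lt_of_le_of_lt (Nat.mul_le_mul hc (hA _)) hb
        · simp, dg_dg]
      split_ifs <;> simp
  have e5 : ∀ l, (if l < D.K then dg D.w Y (l * D.K) else 0) ≤ D.p - 1 := fun l => by
    split_ifs; exacts [hY _, Nat.zero_le _]
  have e6 := dg_dg D.w D.K (Nat.mul (dg (D.w * D.K) A 0)
    (Nat.land Y (Nat.mul (2 ^ D.w - 1) (rep (Nat.mul D.w D.K) D.K)))) (k / D.K) (k % D.K)
  rw [if_pos (Nat.mod_lt _ hK), Nat.div_add_mod', @Nat.mul_eq (dg _ _ _), dg_mul fun l => by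
    rw [e3, Nat.mul_comm]
    exact lt_of_dg hw fun i hi => by rw [e4 _ (e5 l), if_neg (not_lt.2 hi)], e3, Nat.mul_comm, e4 _ (e5 _),
    if_pos (Nat.mod_lt _ hK)] at e6
  rw [e1, e2, @Nat.mul_eq (dg _ _ _), ← e6]
  split_ifs <;> simp [Nat.mul_comm]

theorem dg_acc (hK : 0 < D.K) (n : ℕ) {A Y s b : ℕ} (hA : ∀ k, dg D.w A k ≤ D.p - 1) (hY : ∀ k, dg D.w Y k ≤ D.p - 1)
    (hs : ∀ k, dg D.w s k ≤ b) (hb : b + n * ((D.p - 1) * (D.p - 1)) < 2 ^ D.w) (k : ℕ) :
    dg D.w (D.acc (Nat.pred (Nat.shiftLeft 1 (Nat.mul D.w D.K)))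
      (Nat.mul (Nat.pred (Nat.shiftLeft 1 D.w)) (rep (Nat.mul D.w D.K) D.K)) n A Y s) k =
      dg D.w s k + ∑ j ∈ Finset.range n,
        if k / D.K < D.K then dg D.w A (j * D.K + k % D.K) * dg D.w Y (k / D.K * D.K + j) else 0 := by
  induction n generalizing A Y s b with
  | zero => rfl
  | succ n ih =>
    have e : ∀ cm rm, D.acc cm rm (n + 1) A Y s = D.acc cm rm n (Nat.shiftRight A (D.w * D.K))
        (Nat.shiftRight Y (D.w * 1)) (s + Nat.mul (Nat.land A cm) (Nat.land Y rm)) := fun cm rm => by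
      rw [Nat.mul_one]
      exact (seq_eq _ fun s' => seq (Nat.shiftRight A (Nat.mul D.w D.K)) fun A' =>
        seq (Nat.shiftRight Y D.w) fun Y' => D.acc cm rm n A' Y' s').trans ((seq_eq _ _).trans (seq_eq _ _))
    have h1 : ∀ k, (if k / D.K < D.K then dg D.w A (k % D.K) * dg D.w Y (k / D.K * D.K) else 0) ≤
        (D.p - 1) * (D.p - 1) := fun k => by
      split_ifs; exacts [Nat.mul_le_mul (hA _) (hY _), Nat.zero_le _]
    rw [Nat.succ_mul] at hb
    have h2 := dg_add (w := D.w) (x := s) fun k => by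
      rw [dg_outer h hA hY hK]; have := hs k; have := h1 k; omega
    rw [e, ih (b := b + (D.p - 1) * (D.p - 1)) (fun k => by rw [dg_shr]; exact hA _) (fun k => by rw [dg_shr]; exact hY _)
      (fun k => by rw [h2, dg_outer h hA hY hK]; exact Nat.add_le_add (hs k) (h1 k)) (by omega), h2,
      dg_outer h hA hY hK, Finset.sum_range_succ', Nat.zero_mul, Nat.zero_add, Nat.add_zero, Nat.add_assoc,
      Nat.add_comm (ite _ _ _)]
    congr 2
    refine Finset.sum_congr rfl fun j _ => ?_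
    rw [dg_shr, dg_shr]
    congr 3 <;> ring

theorem mulB_spec {A Y : ℕ} (hA : D.Good A) (hY : D.Good Y) :
    D.Good (D.mulB A Y) ∧ D.bM (D.mulB A Y) = D.bM A * D.bM Y := by
  obtain ⟨hw, hp, hX, H⟩ := ok_spec h
  rcases Nat.eq_zero_or_pos D.K with hK | hK
  · refine ⟨?_, by ext i; exact absurd i.2 (by omega)⟩
    rw [mulB, seq_eq]
    refine (H _ fun k => ?_).1
    rw [hK]; exact ⟨(dg_zero_left _ _).le.trans (Nat.zero_le _), fun _ => dg_zero_left _ _⟩
  have e := dg_acc h hK D.K (s := 0) (b := 0) (fun k => (hA k).1) (fun k => (hY k).1)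
    (fun k => (dg_zero_left _ _).le) (by omega)
  simp only [dg_zero_left, Nat.zero_add] at e
  rw [mulB, seq_eq]
  obtain ⟨h1, h2⟩ := H _ fun k => by
    rw [e]
    refine ⟨(Finset.sum_le_card_nsmul _ _ ((D.p - 1) * (D.p - 1)) fun j _ => ?_).trans (by simp), fun hk => ?_⟩
    · split_ifs; exacts [Nat.mul_le_mul (hA _).1 (hY _).1, Nat.zero_le _]
    · exact Finset.sum_eq_zero fun j _ => if_neg (not_lt.2 ((Nat.le_div_iff_mul_le hK).2 hk))
  refine ⟨h1, ?_⟩
  ext i l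
  have e1 : (l * D.K + i) / D.K = l := by
    rw [Nat.add_comm, Nat.add_mul_div_right _ _ hK, Nat.div_eq_of_lt i.2, Nat.zero_add]
  have e2 : (l * D.K + i) % D.K = i := by rw [Nat.add_comm, Nat.add_mul_mod_self_right, Nat.mod_eq_of_lt i.2]
  rw [bM, Matrix.of_apply, h2, ZMod.natCast_mod, e, e1, e2, Matrix.mul_apply, Finset.sum_range, Nat.cast_sum]
  refine Finset.sum_congr rfl fun j _ => ?_
  rw [if_pos l.2, Nat.cast_mul]; rfl

theorem bM_idB : D.bM (D.idB D.K) = 1 := by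
  obtain ⟨hw, -, -, -⟩ := ok_spec h
  ext i l
  have e := dg_dg D.w (D.K + 1) (D.idB D.K) ((l * D.K + i) / (D.K + 1)) ((l * D.K + i) % (D.K + 1))
  rw [if_pos (Nat.mod_lt _ D.K.succ_pos), Nat.div_add_mod'] at e
  rw [bM, Matrix.of_apply, ← e, idB, Nat.mul_eq, dg_rep (Nat.mul_pos hw D.K.succ_pos),
    if_pos (Nat.div_lt_of_lt_mul (by have := l.2; have := i.2; nlinarith)), dg_small (Nat.one_lt_two_pow hw.ne'),
    Matrix.one_apply]
  have : ((l : ℕ) * D.K + i) % (D.K + 1) = 0 ↔ i = l := by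
    rw [← Nat.dvd_iff_mod_eq_zero, ← Int.natCast_dvd_natCast, Fin.ext_iff]
    push_cast
    rw [show ((l : ℕ) : ℤ) * D.K + (i : ℕ) = (D.K + 1) * (l : ℕ) + ((i : ℕ) - (l : ℕ)) by ring, dvd_add_right (dvd_mul_right _ _)]
    have := l.2; have := i.2
    refine ⟨fun h => ?_, fun h => by simp [h]⟩
    have := Int.eq_zero_of_abs_lt_dvd h (abs_lt.2 ⟨by omega, by omega⟩)
    omega
  simp only [this]; split_ifs <;> simp

end BP

/-- Straight-line expressions. -/
inductive Ex : Type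
  | lt (x : ℕ) : Ex
  | mul (a b : Ex) : Ex
  | sq (a : Ex) : Ex

def Ex.w : Ex → List ℕ
  | .lt x => [x]
  | .mul a b => a.w ++ b.w
  | .sq a => a.w ++ a.w

namespace BP
variable (D : BP)

noncomputable def MB (As : List ℕ) (x : ℕ) : Matrix (Fin D.K) (Fin D.K) (ZMod D.p) := D.bM (getL As 0 x)

noncomputable def evE (As : List ℕ) (e : Ex) : ℕ :=
  Ex.rec (motive := fun _ => ℕ) (fun x => getL As 0 x) (fun _ _ a b => seq a fun u => seq b fun v => D.mulB v u)
    (fun _ a => seq a fun u => D.mulB u u) e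

noncomputable def chkE (As : List ℕ) (es : List Ex) : Bool := allL es fun e => Nat.beq (D.evE As e) (D.idB D.K)

/-- Apply a word to a (thin) matrix. -/
noncomputable def appB (As w : List ℕ) : ℕ → ℕ :=
  List.rec (motive := fun _ => ℕ → ℕ) (fun Y => Y) (fun x _ ih Y => seq (D.mulB (getL As 0 x) Y) ih) w

noncomputable def trB (V : ℕ) : ℕ :=
  Nat.rec (motive := fun _ => ℕ) 0 (fun l ih => Nat.add ih
    (Nat.land (Nat.shiftRight V (Nat.mul D.w (Nat.add (Nat.mul l D.K) l))) (Nat.pred (Nat.shiftLeft 1 D.w)))) D.K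

/-- The traces of `Z * Y`, `Z ^ 2 * Y`, …. -/
noncomputable def trP (Z n : ℕ) : ℕ → List ℕ :=
  Nat.rec (motive := fun _ => ℕ → List ℕ) (fun _ => [])
    (fun _ ih Y => seq (D.mulB Z Y) fun Y' => Nat.mod (D.trB Y') D.p :: ih Y') n

noncomputable def trJ (As : List ℕ) (E n : ℕ) (u v : List ℕ) : List ℕ :=
  seq (D.mulB (D.mulB E (D.appB As u E)) (D.mulB E (D.appB As v E))) fun Z => D.trP Z n E

/-- The data are correct. -/
structure Ok (As : List ℕ) : Prop where
  ok : D.ok = true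
  good : ∀ x, D.Good (getL As 0 x)

variable {D} {As : List ℕ}

theorem good_zero : D.Good 0 := fun _ => by rw [dg_zero_left]; exact ⟨Nat.zero_le _, fun _ => rfl⟩

theorem ok_of_chk (h : D.ok = true) (mc : ℕ) (h' : allL As (D.okV mc) = true) : D.Ok As :=
  ⟨h, fun x => getL_prop As 0 x good_zero fun a ha => good_of_okV h (allL_spec h' a ha)⟩

namespace Ok
variable (h : D.Ok As)
include h

theorem evE (e : Ex) : D.Good (D.evE As e) ∧ D.bM (D.evE As e) = ev (D.MB As) e.w := by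
  induction e with
  | lt x => exact ⟨h.good x, (one_mul _).symm⟩
  | mul a b iha ihb =>
    have e : D.evE As (.mul a b) = D.mulB (D.evE As b) (D.evE As a) :=
      (seq_eq _ fun u => seq (D.evE As b) fun v => D.mulB v u).trans (seq_eq _ _)
    have := mulB_spec h.ok ihb.1 iha.1
    rw [e, Ex.w, ev_append, ← iha.2, ← ihb.2]; exact this
  | sq a iha =>
    have e : D.evE As (.sq a) = D.mulB (D.evE As a) (D.evE As a) := seq_eq _ fun u => D.mulB u u
    have := mulB_spec h.ok iha.1 iha.1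
    rw [e, Ex.w, ev_append, ← iha.2]; exact this

theorem rels {es : List Ex} (hc : D.chkE As es = true) : ∀ r ∈ es.map Ex.w, ev (D.MB As) r = 1 := by
  intro r hr
  obtain ⟨e, he, rfl⟩ := List.mem_map.1 hr
  rw [← (h.evE e).2, Nat.eq_of_beq_eq_true (allL_spec hc e he), bM_idB h.ok]

theorem eq {a b : Ex} (hc : Nat.beq (D.evE As a) (D.evE As b) = true) : ev (D.MB As) a.w = ev (D.MB As) b.w := by
  rw [← (h.evE a).2, ← (h.evE b).2, Nat.eq_of_beq_eq_true hc]

theorem appB (w : List ℕ) {Y : ℕ} (hY : D.Good Y) :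
    D.Good (D.appB As w Y) ∧ D.bM (D.appB As w Y) = ev (D.MB As) w * D.bM Y := by
  induction w generalizing Y with
  | nil => exact ⟨hY, (one_mul _).symm⟩
  | cons x w ih =>
    have e : D.appB As (x :: w) Y = D.appB As w (D.mulB (getL As 0 x) Y) := seq_eq _ _
    have h1 := mulB_spec h.ok (h.good x) hY
    have h2 := ih h1.1
    rw [h1.2, ← mul_assoc] at h2
    rw [e]; exact h2

omit h in
theorem trB (V : ℕ) : (D.trB V : ZMod D.p) = (D.bM V).trace := by
  have e : ∀ n, (Nat.rec (motive := fun _ => ℕ) 0 (fun l ih => Nat.add ih (Nat.land (Nat.shiftRight V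
      (Nat.mul D.w (Nat.add (Nat.mul l D.K) l))) (Nat.pred (Nat.shiftLeft 1 D.w)))) n : ℕ) =
      ∑ l ∈ Finset.range n, dg D.w V (l * D.K + l) := fun n => by
    induction n with
    | zero => rfl
    | succ n ih =>
      rw [Finset.sum_range_succ, ← ih, dg, ← Nat.and_two_pow_sub_one_eq_mod, ← Nat.one_shiftLeft]; rfl
  rw [BP.trB, e, Finset.sum_range, Nat.cast_sum]; rfl

theorem trP {Z Y : ℕ} (hZ : D.Good Z) (hY : D.Good Y) (n : ℕ) :
    D.trP Z n Y = (List.range n).map fun i => (D.bM Z ^ (i + 1) * D.bM Y).trace.val := by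
  induction n generalizing Y with
  | zero => rfl
  | succ n ih =>
    have e : D.trP Z (n + 1) Y = Nat.mod (D.trB (D.mulB Z Y)) D.p :: D.trP Z n (D.mulB Z Y) :=
      seq_eq _ fun Y' => Nat.mod (D.trB Y') D.p :: D.trP Z n Y'
    have h1 := mulB_spec h.ok hZ hY
    rw [e, ih h1.1, List.range_succ_eq_map, List.map_cons, List.map_map, h1.2, zero_add, pow_one, ← h1.2, ← trB,
      ZMod.val_natCast, h1.2]
    refine congrArg₂ _ rfl (List.map_congr_left fun i _ => ?_)
    rw [← mul_assoc, ← pow_succ]; rfl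

end Ok

end BP

/-- The invariant of the double cosets of the centraliser of `E`. -/
noncomputable def invJ {n R : Type} [Fintype n] [DecidableEq n] [CommRing R] {α : Type} (f : R → α)
    (E : Matrix n n R) (m : ℕ) (a : (Matrix n n R)ˣ) : List α :=
  (List.range m).map fun i => f (((E * (a * E) * (E * ((a⁻¹ : (Matrix n n R)ˣ) * E))) ^ (i + 1) * E).trace)

theorem invJ_mul {n R : Type} [Fintype n] [DecidableEq n] [CommRing R] {α : Type} (f : R → α) {E : Matrix n n R}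
    (m : ℕ) {k k' : (Matrix n n R)ˣ} (hk : Commute (k : Matrix n n R) E) (hk' : Commute (k' : Matrix n n R) E)
    (a : (Matrix n n R)ˣ) : invJ f E m (k * a * k') = invJ f E m a := by
  refine List.map_congr_left fun i _ => congrArg f ?_
  have e : E * (((k * a * k' : (Matrix n n R)ˣ) : Matrix n n R) * E) * (E * (((k * a * k')⁻¹ : (Matrix n n R)ˣ) * E)) =
      k * (E * (a * E) * (E * ((a⁻¹ : (Matrix n n R)ˣ) * E))) * (k⁻¹ : (Matrix n n R)ˣ) := by
    simp only [_root_.mul_inv_rev, Units.val_mul, mul_assoc]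
    rw [← hk.left_comm, hk'.left_comm, hk'.left_comm, Units.mul_inv_cancel_left, hk.units_inv_left.eq]
  rw [e, Units.conj_pow, mul_assoc, hk.units_inv_left.eq, ← mul_assoc, mul_assoc (k : Matrix n n R), trace_units_conj]

theorem BP.Ok.trJ {D : BP} {As : List ℕ} (h : D.Ok As) {E : ℕ} (hE : D.Good E) (m : ℕ) {u v : List ℕ}
    {a : (Matrix (Fin D.K) (Fin D.K) (ZMod D.p))ˣ} (hu : (a : Matrix _ _ _) = ev (D.MB As) u)
    (hv : ((a⁻¹ : (Matrix (Fin D.K) (Fin D.K) (ZMod D.p))ˣ) : Matrix _ _ _) = ev (D.MB As) v) :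
    D.trJ As E m u v = invJ ZMod.val (D.bM E) m a := by
  have h1 := BP.mulB_spec h.ok hE (h.appB u hE).1
  have h2 := BP.mulB_spec h.ok hE (h.appB v hE).1
  have h3 := BP.mulB_spec h.ok h1.1 h2.1
  rw [BP.trJ, seq_eq, h.trP h3.1 hE, h3.2, h1.2, h2.2, (h.appB u hE).2, (h.appB v hE).2, ← hu, ← hv]; rfl

end Cfsg.Agent.Spor
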