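import Cfsg.Agent.Spor.Cent3

/-! Class representatives and central quotients for centraliser computations (helper23). -/

namespace Cfsg.Agent.Spor.Ct

open Equiv

section
variable {G K : Type} [Group G] [Group K] {ι : K →* G} {d : G} {M : Subgroup G} {y : ℕ → K} {N : ℕ}
  {φ : K →* Perm ℕ} {B : List ℕ} {act : ℕ → ℕ → ℕ} (h : PtAct φ N B y act) (hB : ∀ b ∈ B, b < N)

theorem genW_le_sing {ws : List (List ℕ)} {xs : List ℕ} (hc : (ws.all (sub xs)) = true) :
    genW y ws ≤ genW y (sing xs) :=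
  genW_le fun w hw => (genW_sing _ _).ge (ev_mem_sub (List.all_eq_true.1 hc w hw))

include h hB

theorem eq_keys {u v : List ℕ} (hc : (keyW act B u == keyW act B v) = true) : ev y u = ev y v :=
  eq_of_key h ((List.map_congr_left fun b hb => h.run _ b (hB b hb)).trans (beq_iff_eq.1 hc))

theorem good_keys {fs : List (List ℕ)} {r u tw : List ℕ}
    (g : Good ι d (ev y tw) M ((ev y u)⁻¹ * ev y tw * ev y u))
    (hc : (keyW act B (renW fs r ++ u) == keyW act B (u ++ tw)) = true) : Good ι d (ev y tw) M (ev (renG y fs) r) := by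
  have e := eq_keys h hB hc
  rw [ev_append, ev_append, ← eq_inv_mul_iff_mul_eq, ← mul_assoc] at e
  rwa [ev_renG, e]

theorem good_nc_keys {fs : List (List ℕ)} {r s : List ℕ} {t : K} (g : ∀ a ∈ (⊤ : Subgroup K), a⁻¹ * t * a ≠ ev y s)
    (hc : (keyW act B (renW fs r) == keyW act B s) = true) : Good ι d t M (ev (renG y fs) r) := by
  rw [ev_renG, eq_keys h hB hc]; exact good_of_nc0 g

theorem nc_keys {S : Subgroup K} {s u tw : List ℕ} (g : ∀ a ∈ S, a⁻¹ * ev y tw * a ≠ ev y s)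
    (hc : (keyW act B (u ++ s) == keyW act B (tw ++ u)) = true) :
    ∀ a ∈ S, a⁻¹ * ev y tw * a ≠ ev y u * ev y tw * (ev y u)⁻¹ := by
  have e := eq_keys h hB hc
  rw [ev_append, ev_append, ← eq_mul_inv_iff_mul_eq] at e
  exact e ▸ g

theorem hr_comm {xs tw : List ℕ} {reps : List (ℕ × List ℕ)} {S : Subgroup K} (hS : ∀ a ∈ S, a * ev y tw = ev y tw * a)
    (hc : (reps.all fun r => sub xs r.2 && !(keyW act B (tw ++ r.2) == keyW act B (r.2 ++ tw))) = true) :
    ∀ r ∈ reps, ev y r.2 ∈ genW y (sing xs) ∧ ∀ a ∈ S, a⁻¹ * ev y tw * a ≠ ev y r.2 * ev y tw * (ev y r.2)⁻¹ := by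
  intro r hr
  have := List.all_eq_true.1 hc r hr
  rw [Bool.and_eq_true, Bool.not_eq_true'] at this
  exact ⟨(genW_sing _ _).ge (ev_mem_sub this.1), nc_of_comm hS (ncomm_of_keys h hB this.2)⟩

end

/-- The centre of a centraliser. -/
theorem cent_quot {G U : Type} [Group G] [Group U] {Y : ℕ → G} {z x k : ℕ} (hU : Subgroup.center U = ⊥)
    (hx : genL Y [x] ≤ Subgroup.centralizer {Y z}) (h1 : Y x ≠ 1) (hk : Y x ^ k = 1) (hc : k.Coprime (orderOf (Y z)))
    (q : ∀ [(genL (subG (Subgroup.centralizer {Y z}) Y) [z]).Normal], genL (subG (Subgroup.centralizer {Y z}) Y) [z] ≠ ⊤ →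
      Nonempty (Subgroup.centralizer {Y z} ⧸ genL (subG (Subgroup.centralizer {Y z}) Y) [z] ≃* U)) :
    Nat.card (Subgroup.center (Subgroup.centralizer {Y z})) = orderOf (Y z) ∧
      Nonempty (Subgroup.centralizer {Y z} ⧸ Subgroup.center (Subgroup.centralizer {Y z}) ≃* U) := by
  have h := center_cent (Y := Y) z
  have : (genL (subG (Subgroup.centralizer {Y z}) Y) [z]).Normal := ⟨fun n hn g => by
    rwa [Subgroup.mem_center_iff.1 (h hn) g, mul_inv_cancel_right]⟩
  have c : Nat.card (genL (subG (Subgroup.centralizer {Y z}) Y) [z]) = orderOf (Y z) := by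
    rw [genL_one, Nat.card_zpowers, ← Subgroup.orderOf_coe, coe_subG (Subgroup.mem_centralizer_singleton_iff.2 rfl)]
  have hx' := hx (mem_genL _ List.mem_cons_self)
  obtain ⟨e⟩ := q (ne_top_of_card c (x := subG _ Y x) (Subtype.ext (by rw [Subgroup.coe_pow, coe_subG hx', hk]; rfl))
    (subG_ne hx' h1) hc)
  have h2 := center_eq h e hU
  exact ⟨h2 ▸ c, ⟨(QuotientGroup.quotientMulEquivOfEq h2).trans e⟩⟩

theorem nonsplit' {A U : Type} [Group A] [Group U] (h : Nat.card (Subgroup.center A) = 2 ∧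
    Nonempty (A ⧸ Subgroup.center A ≃* U)) (hL : ∀ L : Subgroup A, L.index ≠ 2) : Cfsg.IsNonsplitDoubleCover A U :=
  ⟨h.1, h.2, fun L hL' => hL L (by rw [hL'.index_eq_card, h.1])⟩

end Cfsg.Agent.Spor.Ct
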