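import Cfsg.Agent.Spor.Dce8

/-! Central extensions of simple groups with a certified presentation (helper23). -/

namespace Cfsg.Agent.Spor

theorem ev_map_succ {A : Type*} [Group A] (g : ℕ → A) (r : List ℕ) :
    ev g (r.map (· + 1)) = ev (fun x => g (x + 1)) r := by
  induction r with
  | nil => rfl
  | cons x r ih => rw [List.map_cons, ev_cons, ev_cons, ih]

theorem ev_replicate_zero {A : Type*} [Group A] {g : ℕ → A} (h0 : g 0 = 1) (e : ℕ) (r : List ℕ) :
    ev g (List.replicate e 0 ++ r) = ev g r := by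
  induction e with
  | zero => rfl
  | succ e ih => rw [List.replicate_succ, List.cons_append, ev_cons, ih, h0, mul_one]

theorem lifts_surj_quot {U A : Type} [Group U] [Group A] {u : ℕ → U} {nl : ℕ} {rels : List (List ℕ)}
    (M : Known.Lifts u nl rels) {g : ℕ → A} (top : genL g (List.range (nl + 1)) = ⊤) {rz : List (List ℕ)}
    (hz : ∀ r ∈ rz, ev g r = 1) (k : ℕ)
    (h : (rels.all fun r => (List.range k).any fun e => rz.contains (List.replicate e 0 ++ r.map (· + 1))) = true) :
    ∃ ψ : U →* A ⧸ Subgroup.normalClosure {ev g [0]}, Function.Surjective ψ := by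
  rw [List.all_eq_true] at h
  have h0 : quoG g [0] 0 = 1 := (ev_one _ 0).symm.trans (quoG_rels hz [0] [0] List.mem_cons_self)
  obtain ⟨ρ, h2⟩ := M _ (fun x => quoG g [0] (x + 1)) fun r hr => by
    obtain ⟨e, -, h1⟩ := List.any_eq_true.1 (h r hr)
    rw [← ev_map_succ, ← ev_replicate_zero h0 e]
    exact quoG_rels hz [0] _ (List.mem_cons_of_mem _ (List.contains_iff_mem.1 h1))
  refine ⟨ρ, MonoidHom.range_eq_top.1 (top_unique ?_)⟩
  rw [← quoG_top top [0]]
  refine genL_le fun x hx => ?_
  rcases x with _ | x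
  · rw [h0]; exact one_mem _
  · exact ⟨u x, h2 x (by simpa using hx)⟩

theorem ncl_eq_zpowers {A : Type*} [Group A] {z : A} (hz : z ∈ Subgroup.center A) :
    Subgroup.normalClosure {z} = Subgroup.zpowers z := by
  have hn : (Subgroup.zpowers z).Normal := ⟨fun n hn a => by
    rw [Subgroup.mem_center_iff.1 (Subgroup.zpowers_le.2 hz hn) a]; simpa using hn⟩
  exact le_antisymm (Subgroup.normalClosure_le_normal (by simp))
    (Subgroup.zpowers_le.2 (Subgroup.subset_normalClosure rfl))

theorem card_of_surj_quot {U A : Type*} [Group U] [Group A] [IsSimpleGroup U] {z : A} (hz : z ∈ Subgroup.center A)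
    (ψ : U →* A ⧸ Subgroup.normalClosure {z}) (hψ : Function.Surjective ψ) {a b : A} (hab : a * b ≠ b * a) :
    Nat.card A = orderOf z * Nat.card U := by
  have hi : Function.Injective ψ := by
    rw [← MonoidHom.ker_eq_bot_iff]
    rcases IsSimpleGroup.eq_bot_or_eq_top_of_normal ψ.ker inferInstance with e | e
    · exact e
    · obtain ⟨x, hx⟩ := hψ (b : A ⧸ Subgroup.normalClosure {z})
      have h1 : ψ x = 1 := (show x ∈ ψ.ker from e ▸ trivial)
      rw [h1, eq_comm, QuotientGroup.eq_one_iff, ncl_eq_zpowers hz] at hx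
      exact absurd (Subgroup.mem_center_iff.1 (Subgroup.zpowers_le.2 hz hx) a) hab
  rw [← (Subgroup.normalClosure {z}).card_mul_index, Nat.card_congr (Equiv.ofBijective ψ ⟨hi, hψ⟩), Subgroup.index]
  congr 1
  rw [ncl_eq_zpowers hz, Nat.card_zpowers]

theorem index_two_cover {K N U V : Type*} [Group K] [Group N] [Group U] [Group V] (A : Subgroup K)
    (h : Cfsg.IsNonsplitDoubleCover A U) {n : ℕ} (hA : Nat.card A = n) (hK : Nat.card K = 2 * n) (h0 : n ≠ 0)
    (e : K ≃* N) (e' : U ≃* V) :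
    ∃ L : Subgroup N, L.Normal ∧ L.index = 2 ∧ Cfsg.IsNonsplitDoubleCover L V := by
  have h1 := A.index_mul_card
  rw [hA, hK] at h1
  have h2 : (A.map (e : K →* N)).index = 2 :=
    (Subgroup.index_map_equiv A e).trans (Nat.eq_of_mul_eq_mul_right (Nat.pos_of_ne_zero h0) h1)
  exact ⟨_, Subgroup.normal_of_index_eq_two h2, h2, nonsplit_congr h (e.subgroupMap A) e'⟩

theorem PtAct.central {G : Type*} [Group G] {φ : G →* Equiv.Perm ℕ} {N : ℕ} {B : List ℕ} {y : ℕ → G}
    {act : ℕ → ℕ → ℕ} (h : PtAct φ N B y act) {ren : List (List ℕ)}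
    (hc : allL (List.range ren.length) (fun x => allL B fun b =>
      Nat.beq (runA (renA act ren) [0, x] b) (runA (renA act ren) [x, 0] b)) = true) :
    ev (sG y ren) [0] ∈ Subgroup.center (genW y ren) := by
  refine mem_center_of_letters (sG_top y ren) fun x hx => ?_
  rw [mul_inv_eq_iff_eq_mul, ev_one]
  have := (h.ren ren).eq (allL_spec hc x (List.mem_range.2 hx))
  rw [ev_two, ev_two] at this
  exact Subtype.ext (by rw [Subgroup.coe_mul, Subgroup.coe_mul, coe_sG, coe_sG, this])

theorem PtAct.sG_rels {G : Type*} [Group G] {φ : G →* Equiv.Perm ℕ} {N : ℕ} {B : List ℕ} {y : ℕ → G}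
    {act : ℕ → ℕ → ℕ} (h : PtAct φ N B y act) {ren rz : List (List ℕ)}
    (hc : allL rz (fun w => allL B fun b => Nat.beq (runA (renA act ren) w b) b) = true) :
    ∀ r ∈ rz, ev (sG y ren) r = 1 := fun r hr =>
  Subtype.ext ((coe_ev_sG y ren r).trans ((ev_renG y ren r).symm.trans ((h.ren ren).rels hc r hr)))

theorem PtAct.sG_ne {G : Type*} [Group G] {φ : G →* Equiv.Perm ℕ} {N : ℕ} {B : List ℕ} {y : ℕ → G}
    {act : ℕ → ℕ → ℕ} (h : PtAct φ N B y act) {ren : List (List ℕ)} {u v : List ℕ} (p : ℕ) (hp : p < N)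
    (hc : Nat.beq (runA (renA act ren) u p) (runA (renA act ren) v p) = false) :
    ev (sG y ren) u ≠ ev (sG y ren) v := by
  intro e
  have e1 := congrArg Subtype.val e
  rw [coe_ev_sG, coe_ev_sG, ← ev_renG, ← ev_renG] at e1
  rw [← (h.ren ren).run u p hp, ← (h.ren ren).run v p hp, e1, Nat.beq_refl] at hc
  exact Bool.noConfusion hc

/-- The subgroup generated by the words `ren` is a central extension of `U` by the first word, of prime order `k`. -/
theorem PtAct.cover {G U : Type} [Group G] [Group U] [IsSimpleGroup U] {φ : G →* Equiv.Perm ℕ} {N : ℕ} {B : List ℕ}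
    {y : ℕ → G} {act : ℕ → ℕ → ℕ} (h : PtAct φ N B y act) {u : ℕ → U} {nl : ℕ} {rels : List (List ℕ)}
    (M : Known.Lifts u nl rels) {ren rz : List (List ℕ)} (hl : ren.length = nl + 1) {k : ℕ} [Fact k.Prime]
    (hz : ∀ r ∈ rz, ev (sG y ren) r = 1) (hk : List.replicate k 0 ∈ rz)
    (h1 : (rels.all fun r => (List.range k).any fun e => rz.contains (List.replicate e 0 ++ r.map (· + 1))) = true)
    (hc : allL (List.range ren.length) (fun x => allL B fun b =>
      Nat.beq (runA (renA act ren) [0, x] b) (runA (renA act ren) [x, 0] b)) = true)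
    (p q a b : ℕ) (hp : p < N) (hq : q < N)
    (h2 : Nat.beq (runA (renA act ren) [0] p) (runA (renA act ren) [] p) = false)
    (h3 : Nat.beq (runA (renA act ren) [a, b] q) (runA (renA act ren) [b, a] q) = false) :
    Nat.card (genW y ren) = k * Nat.card U ∧ orderOf (ev (sG y ren) [0]) = k ∧
      ∃ ψ : U →* genW y ren ⧸ Subgroup.normalClosure {ev (sG y ren) [0]}, Function.Surjective ψ := by
  obtain ⟨ψ, hψ⟩ := lifts_surj_quot M (hl ▸ sG_top y ren) hz k h1
  have e : ∀ n, ev (sG y ren) (List.replicate n 0) = ev (sG y ren) [0] ^ n := by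
    intro n
    induction n with
    | zero => rw [pow_zero]; rfl
    | succ n ih => rw [List.replicate_succ, ev_cons, ih, pow_succ, ev_one]
  have ho : orderOf (ev (sG y ren) [0]) = k := orderOf_eq_prime (e k ▸ hz _ hk) (h.sG_ne p hp h2)
  have h4 := h.sG_ne q hq h3
  rw [ev_two, ev_two] at h4
  exact ⟨ho ▸ card_of_surj_quot (h.central hc) ψ hψ h4, ho, ψ, hψ⟩

theorem PtAct.cover2 {G U : Type} [Group G] [Group U] [IsSimpleGroup U] {φ : G →* Equiv.Perm ℕ} {N : ℕ} {B : List ℕ}
    {y : ℕ → G} {act : ℕ → ℕ → ℕ} (h : PtAct φ N B y act) {u : ℕ → U} {nl n : ℕ} {rels : List (List ℕ)}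
    (M : Known.Lifts u nl rels) (hU : Nat.card U = n) (h0 : n ≠ 0) (hn : ¬ n.Prime)
    {ren rz : List (List ℕ)} (hl : ren.length = nl + 1)
    (hz : allL rz (fun w => allL B fun b => Nat.beq (runA (renA act ren) w b) b) = true) (hk : [0, 0] ∈ rz)
    (h1 : (rels.all fun r => (List.range 2).any fun e => rz.contains (List.replicate e 0 ++ r.map (· + 1))) = true)
    (hc : allL (List.range ren.length) (fun x => allL B fun b =>
      Nat.beq (runA (renA act ren) [0, x] b) (runA (renA act ren) [x, 0] b)) = true)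
    (p q a b : ℕ) (hp : p < N) (hq : q < N)
    (h2 : Nat.beq (runA (renA act ren) [0] p) (runA (renA act ren) [] p) = false)
    (h3 : Nat.beq (runA (renA act ren) [a, b] q) (runA (renA act ren) [b, a] q) = false)
    (h4 : chkLet (List.range ren.length) rz = true)
    (h5 : allB ren.length (fun l => l.all (! ·) || rz.any (parity l)) = true) :
    Nat.card (genW y ren) = 2 * n ∧ Cfsg.IsNonsplitDoubleCover (genW y ren) U := by
  obtain ⟨c1, c2, ψ, hψ⟩ := h.cover M hl (k := 2) (h.sG_rels hz) hk h1 hc p q a b hp hq h2 h3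
  refine ⟨hU ▸ c1, nonsplit_of_quot (h.central hc) ?_ (center_eq_bot_of_card hU h0 hn) c1 (hU ▸ h0) ψ hψ
    (index_ne_two (sG_top y ren) (h.sG_rels hz) h4 h5)⟩
  rw [← pow_two, ← c2, pow_orderOf_eq_one]

end Cfsg.Agent.Spor
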