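import Cfsg.Agent.Spor.Embed
import Cfsg.Agent.Spor.Pw

/-! Double coset enumeration certificates (helper23). `G` is generated by the image of a finite group `K`
(given by a model with pointwise tables) and one element `T` (the letter `tl`). A table of facts `(d, e, w)` stands
for `ev w • P d = P e`; `chkD` checks a fact: a definition, a subgroup word, or a closed walk along earlier facts which
is, up to elements of `K` moved across `T`, a relator. -/

namespace Cfsg.Agent.Spor

open Equiv

/-- Leaf `j` of a tree. -/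
noncomputable def BT.at (t : BT) (j : ℕ) : ℕ :=
  BT.rec (motive := fun _ => ℕ → ℕ) (fun n _ => n)
    (fun _ _ ihl ihr i => iteB (Nat.beq (Nat.land i 1) 0) (seqL (Nat.shiftRight i 1) ihl)
      (seqL (Nat.shiftRight i 1) ihr)) t j

namespace Dce

theorem iteB_eq {β : Type} (c : Bool) (a b : β) : iteB c a b = if c = true then a else b := by
  cases c <;> rfl

/-- 6-bit table. -/
def tb (c x : ℕ) : ℕ := Nat.land (Nat.shiftRight c (Nat.mul 6 x)) 63
def fD (r : ℕ) : ℕ := Nat.land r 65535
def fE (r : ℕ) : ℕ := Nat.land (Nat.shiftRight r 16) 65535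
def fW (r : ℕ) : ℕ := Nat.shiftRight r 32

noncomputable def decN (n : ℕ) (acc : List ℕ) (c : ℕ) : List ℕ :=
  Nat.rec (motive := fun _ => ℕ → List ℕ) (fun _ => acc)
    (fun _ ih c => iteB (Nat.beq c 0) acc
      (seqL (Nat.pred (Nat.land c 63)) fun x => x :: seqL (Nat.shiftRight c 6) ih)) n c

/-- The word with the code `c` (6 bits per letter), followed by `acc`. -/
noncomputable def decF (c : ℕ) (acc : List ℕ) : List ℕ := decN 256 acc c

theorem decN_succ (n : ℕ) (acc : List ℕ) (c : ℕ) : decN (n + 1) acc c =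
    if Nat.beq c 0 = true then acc else Nat.pred (Nat.land c 63) :: decN n acc (Nat.shiftRight c 6) := by
  rw [← iteB_eq, ← seqL_eq (Nat.shiftRight c 6) (decN n acc),
    ← seqL_eq (Nat.pred (Nat.land c 63)) fun x => x :: seqL (Nat.shiftRight c 6) (decN n acc)]
  rfl

theorem decN_eq (n : ℕ) (acc : List ℕ) (c : ℕ) : decN n acc c = decN n [] c ++ acc := by
  induction n generalizing c with
  | zero => rfl
  | succ n ih => rw [decN_succ, decN_succ]; split_ifs; rfl; rw [ih]; rfl

theorem decF_eq (c : ℕ) (acc : List ℕ) : decF c acc = decF c [] ++ acc := decN_eq _ _ _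

noncomputable def decM (tl ivc : ℕ) (sts : List ℕ) (n c : ℕ) (acc : List ℕ) : List ℕ :=
  Nat.rec (motive := fun _ => ℕ → List ℕ → List ℕ) (fun _ acc => acc)
    (fun _ ih c acc => iteB (Nat.beq c 0) acc
      (seqL (Nat.pred (Nat.land c 63)) fun x => seqL (Nat.shiftRight c 6) fun c' =>
        iteB (Nat.beq x tl) (ih c' (appL sts acc)) (seqL (tb ivc x) fun z => ih c' (z :: acc)))) n c acc

/-- The inverse of the word with the code `c`, followed by `acc`. -/
noncomputable def decI (tl ivc : ℕ) (sts : List ℕ) (c : ℕ) (acc : List ℕ) : List ℕ := decM tl ivc sts 256 c acc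

theorem decM_succ (tl ivc : ℕ) (sts : List ℕ) (n c : ℕ) (acc : List ℕ) : decM tl ivc sts (n + 1) c acc =
    if Nat.beq c 0 = true then acc else if Nat.beq (Nat.pred (Nat.land c 63)) tl = true then
      decM tl ivc sts n (Nat.shiftRight c 6) (sts ++ acc)
    else decM tl ivc sts n (Nat.shiftRight c 6) (tb ivc (Nat.pred (Nat.land c 63)) :: acc) := by
  have e : decM tl ivc sts (n + 1) c acc = iteB (Nat.beq c 0) acc
      (seqL (Nat.pred (Nat.land c 63)) fun x => seqL (Nat.shiftRight c 6) fun c' =>
        iteB (Nat.beq x tl) (decM tl ivc sts n c' (appL sts acc))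
          (seqL (tb ivc x) fun z => decM tl ivc sts n c' (z :: acc))) := rfl
  rw [e]; simp only [seqL_eq, iteB_eq, appL_eq]

/-- Equality of lists. -/
noncomputable def eqL (l : List ℕ) : List ℕ → Bool :=
  List.rec (motive := fun _ => List ℕ → Bool) nilB
    (fun a _ ih m => List.rec false (fun b t _ => andB (Nat.beq a b) (ih t)) m) l

theorem eqL_spec {l m : List ℕ} (h : eqL l m = true) : l = m := by
  induction l generalizing m with
  | nil => exact (nilB_spec h).symm
  | cons a t ih =>
    cases m with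
    | nil => exact absurd h (by simp [eqL])
    | cons b u =>
      have h' : andB (Nat.beq a b) (eqL t u) = true := h
      rw [andB_eq_true] at h'
      rw [Nat.eq_of_beq_eq_true h'.1, ih h'.2]

/-- Map `f` over a list of points, strictly. -/
noncomputable def stepL (f : ℕ → ℕ) (st : List ℕ) : (List ℕ → Bool) → Bool :=
  List.rec (motive := fun _ => (List ℕ → Bool) → Bool) (fun k => k [])
    (fun p _ ih k => seqL (f p) fun q => ih fun t => k (q :: t)) st

theorem stepL_eq (f : ℕ → ℕ) (st : List ℕ) (k : List ℕ → Bool) : stepL f st k = k (st.map f) := by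
  induction st generalizing k with
  | nil => rfl
  | cons p t ih => exact (seqL_eq (f p) fun q => stepL f t fun u => k (q :: u)).trans (ih _)

/-- Apply a word to a list of points. -/
noncomputable def runL (act : ℕ → ℕ → ℕ) (k : List ℕ → Bool) (w : List ℕ) : List ℕ → Bool :=
  List.rec (motive := fun _ => List ℕ → Bool) k (fun x _ ih st => stepL (act x) st ih) w

theorem runL_eq (act : ℕ → ℕ → ℕ) (k : List ℕ → Bool) (w st : List ℕ) :
    runL act k w st = k (st.map (runA act w)) := by
  induction w generalizing st with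
  | nil => exact congrArg k (List.map_id' st).symm
  | cons x w ih =>
    refine (stepL_eq _ _ _).trans ((ih _).trans (congrArg k ?_))
    rw [List.map_map]
    exact List.map_congr_left fun p _ => (seqL_eq (act x p) (runA act w)).symm

/-- The letter `x` moved across `T`. -/
def sgm (sgc x : ℕ) : ℕ := Nat.pred (tb sgc x)

noncomputable def mapS (sgc : ℕ) (w acc : List ℕ) : List ℕ :=
  List.rec acc (fun x _ ih => seqL (sgm sgc x) fun z => z :: ih) w

theorem mapS_eq (sgc : ℕ) (w acc : List ℕ) : mapS sgc w acc = w.map (sgm sgc) ++ acc := by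
  induction w with
  | nil => rfl
  | cons x w ih =>
    exact (seqL_eq (sgm sgc x) fun z => z :: mapS sgc w acc).trans (congrArg (sgm sgc x :: ·) ih)

/-- All letters can be moved across `T`. -/
noncomputable def inC (sgc : ℕ) (w : List ℕ) : Bool := allL w fun x => Nat.blt 0 (tb sgc x)

/-- The streaming check of `k₁ t k₂ t … kₘ t` against the relator `h₁ t h₂ t … hₘ t`. -/
noncomputable def go (act : ℕ → ℕ → ℕ) (B : List ℕ) (tl sgc cw cm c1 : ℕ) (W : List ℕ) :
    List ℕ → List (List ℕ) → ℕ → ℕ → Bool :=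
  List.rec (motive := fun _ => List ℕ → List (List ℕ) → ℕ → ℕ → Bool)
    (fun st hs c _ => andB (eqL st B) (andB (List.rec true (fun _ _ _ => false) hs) (Nat.beq c c1)))
    (fun x _ ih st hs c cc => iteB (Nat.beq x tl)
      (List.rec false (fun h hs' _ => seqL (Nat.land cc cm) fun c' => andB (inC sgc (decF c' []))
        (runL act (fun s1 => runL act (fun s2 => andB (eqL s1 s2) (seqL (Nat.shiftRight cc cw) (ih B hs' c')))
          (mapS sgc (decF c []) h) B) (decF c' []) st)) hs)
      (stepL (act x) st fun st' => ih st' hs c cc)) W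

/-- The part of a word up to the first `tl`, and the rest. -/
noncomputable def pre (tl : ℕ) (W : List ℕ) : List ℕ :=
  List.rec [] (fun x _ ih => iteB (Nat.beq x tl) [x] (x :: ih)) W

noncomputable def post (tl : ℕ) (W : List ℕ) : List ℕ :=
  List.rec [] (fun x t ih => iteB (Nat.beq x tl) t ih) W

theorem pre_post (tl : ℕ) (W : List ℕ) : pre tl W ++ post tl W = W := by
  induction W with
  | nil => rfl
  | cons x t ih =>
    show iteB (Nat.beq x tl) [x] (x :: pre tl t) ++ iteB (Nat.beq x tl) t (post tl t) = x :: t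
    cases Nat.beq x tl
    · exact congrArg _ ih
    · rfl

/-- The walk along `cnt` facts `< j` (16-bit references) leads from `p` to `e`. -/
noncomputable def endD (tab : ℕ → ℕ) (j e cnt : ℕ) : ℕ → ℕ → Bool :=
  Nat.rec (motive := fun _ => ℕ → ℕ → Bool) (fun p _ => Nat.beq p e)
    (fun _ ih p refs => seqL (Nat.shiftRight (Nat.land refs 65535) 1) fun j' => andB (Nat.blt j' j)
      (seqL (tab j') fun r => iteB (Nat.beq (Nat.land refs 1) 0)
        (andB (Nat.beq (fD r) p) (seqL (fE r) fun q => seqL (Nat.shiftRight refs 16) (ih q)))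
        (andB (Nat.beq (fE r) p) (seqL (fD r) fun q => seqL (Nat.shiftRight refs 16) (ih q))))) cnt

/-- The word of the walk, followed by `acc`. -/
noncomputable def pathW (tab : ℕ → ℕ) (tl ivc : ℕ) (sts acc : List ℕ) (cnt : ℕ) : ℕ → List ℕ :=
  Nat.rec (motive := fun _ => ℕ → List ℕ) (fun _ => acc)
    (fun _ ih refs => seqL (Nat.shiftRight (Nat.land refs 65535) 1) fun j' => seqL (fW (tab j')) fun w =>
      iteB (Nat.beq (Nat.land refs 1) 0) (decF w (seqL (Nat.shiftRight refs 16) ih))
        (decI tl ivc sts w (seqL (Nat.shiftRight refs 16) ih))) cnt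

/-- Check fact `j` with the code `s`: bits 0-1 kind, 2-11 index, 12-21 count, references, words moved. -/
noncomputable def chkD (tab : ℕ → ℕ) (act : ℕ → ℕ → ℕ) (B : List ℕ) (tl ivc sgc cw cm : ℕ) (sts : List ℕ)
    (rels : List (List (List ℕ))) (subs : List (List ℕ)) (j s : ℕ) : Bool :=
  seqL (tab j) fun r => iteB (Nat.beq (Nat.land s 3) 0) (andB (Nat.beq (fE r) (Nat.succ j)) (Nat.ble (fD r) j))
    (iteB (Nat.beq (Nat.land s 3) 1)
      (andB (andB (Nat.beq (fD r) 0) (Nat.beq (fE r) 0)) (eqL (decF (fW r) []) (getL subs [] (Nat.shiftRight s 2))))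
      (seqL (Nat.land (Nat.shiftRight s 12) 1023) fun cnt => seqL (Nat.shiftRight s 22) fun refs =>
        andB (endD tab j (fE r) cnt (fD r) refs)
          (seqL (Nat.shiftRight refs (Nat.mul 16 cnt)) fun cc => seqL (Nat.land cc cm) fun c1 =>
            (fun W => go act B tl sgc cw cm c1 (appL (post tl W) (pre tl W)) B
              (getL rels [] (Nat.land (Nat.shiftRight s 2) 1023)) c1 (Nat.shiftRight cc cw))
              (pathW tab tl ivc sts (decI tl ivc sts (fW r) []) cnt refs))))

/-- Check the facts from `j` on. -/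
noncomputable def chkDs (f : ℕ → ℕ → Bool) (steps : List ℕ) (n1 : ℕ) : ℕ → Bool :=
  List.rec (motive := fun _ => ℕ → Bool) (fun j => Nat.beq j n1)
    (fun s _ ih j => andB (f j s) (seqL (Nat.succ j) ih)) steps

/-- All facts below `n` have been checked. -/
def Steps (f : ℕ → ℕ → Bool) (n : ℕ) : Prop := ∀ j < n, ∃ s, f j s = true

theorem steps_zero (f : ℕ → ℕ → Bool) : Steps f 0 := fun _ h => absurd h (Nat.not_lt_zero _)

theorem Steps.more {f : ℕ → ℕ → Bool} {n0 n1 : ℕ} (h : Steps f n0) {steps : List ℕ}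
    (hc : chkDs f steps n1 n0 = true) : Steps f n1 := by
  induction steps generalizing n0 with
  | nil => rwa [← Nat.eq_of_beq_eq_true hc]
  | cons s t ih =>
    have h' : andB (f n0 s) (seqL (Nat.succ n0) (chkDs f t n1)) = true := hc
    rw [andB_eq_true, seqL_eq] at h'
    refine ih (fun j hj => ?_) h'.2
    rcases Nat.lt_succ_iff_lt_or_eq.1 hj with hj | rfl
    · exact h j hj
    · exact ⟨s, h'.1⟩

/-- The word leading to the point `n`. -/
noncomputable def pwF (tab : ℕ → ℕ) (fuel : ℕ) : ℕ → List ℕ :=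
  Nat.rec (motive := fun _ => ℕ → List ℕ) (fun _ => [])
    (fun _ ih n => iteB (Nat.blt (fD (tab (Nat.pred n))) n)
      (appL (seqL (fD (tab (Nat.pred n))) ih) (decF (fW (tab (Nat.pred n))) [])) []) fuel

theorem pwF_succ (tab : ℕ → ℕ) (f n : ℕ) : pwF tab (f + 1) n =
    if fD (tab (Nat.pred n)) < n then pwF tab f (fD (tab (Nat.pred n))) ++ decF (fW (tab (Nat.pred n))) [] else [] := by
  have e : pwF tab (f + 1) n = iteB (Nat.blt (fD (tab (Nat.pred n))) n)
    (appL (seqL (fD (tab (Nat.pred n))) (pwF tab f)) (decF (fW (tab (Nat.pred n))) [])) [] := rfl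
  simp only [e, seqL_eq, appL_eq, iteB_eq, Nat.blt_eq]

theorem pwF_fuel (tab : ℕ → ℕ) {f f' n : ℕ} (h : n < f) (h' : n < f') : pwF tab f n = pwF tab f' n := by
  induction f generalizing f' n with
  | zero => omega
  | succ f ih =>
    obtain ⟨f', rfl⟩ : ∃ m, f' = m + 1 := ⟨f' - 1, by omega⟩
    rw [pwF_succ, pwF_succ]
    split_ifs with e
    · rw [ih (f' := f') (by omega) (by omega)]
    · rfl

noncomputable def pw (tab : ℕ → ℕ) (n : ℕ) : List ℕ := pwF tab (Nat.succ n) n

theorem pw_zero (tab : ℕ → ℕ) : pw tab 0 = [] := by rw [pw, pwF_succ, if_neg (Nat.not_lt_zero _)]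

theorem pw_succ (tab : ℕ → ℕ) {j : ℕ} (h : fD (tab j) ≤ j) :
    pw tab (j + 1) = pw tab (fD (tab j)) ++ decF (fW (tab j)) [] := by
  rw [pw, pwF_succ, Nat.pred_succ, if_pos (Nat.lt_succ_of_le h), pw,
    pwF_fuel tab (Nat.lt_succ_of_le h) (Nat.lt_succ_self _)]

variable {G K X : Type*} [Group G] [Group K] [MulAction G X]

/-- The letters. -/
noncomputable def gD (ι : K →* G) (y : ℕ → K) (T : G) (tl x : ℕ) : G := if x = tl then T else ι (y x)

/-- The value of `h₁ t h₂ t …`. -/
def relE (ι : K →* G) (y : ℕ → K) (T : G) : List (List ℕ) → G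
  | [] => 1
  | h :: hs => relE ι y T hs * T * ι (ev y h)

/-- The hypotheses on the group. -/
structure Hyp (ι : K →* G) (y : ℕ → K) (T : G) (φ : K →* Perm ℕ) (N : ℕ) (act : ℕ → ℕ → ℕ) (B : List ℕ)
    (tl ivc sgc : ℕ) (sts : List ℕ) (rels : List (List (List ℕ))) : Prop where
  pa : PtAct φ N B y act
  hB : ∀ b ∈ B, b < N
  inv : ∀ x < 63, x ≠ tl → tb ivc x ≠ tl ∧ y (tb ivc x) * y x = 1
  invT : ev (gD ι y T tl) sts * T = 1
  comm : ∀ x, 0 < tb sgc x → T * ι (y x) = ι (y (sgm sgc x)) * T
  rel : ∀ r ∈ rels, relE ι y T r = 1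

variable {ι : K →* G} {y : ℕ → K} {T : G} {φ : K →* Perm ℕ} {N : ℕ} {act : ℕ → ℕ → ℕ} {B : List ℕ}
  {tl ivc sgc cw cm : ℕ} {sts : List ℕ} {rels : List (List (List ℕ))} {subs : List (List ℕ)} {tab : ℕ → ℕ}

theorem gD_t : gD ι y T tl tl = T := if_pos rfl

theorem gD_k {x : ℕ} (h : x ≠ tl) : gD ι y T tl x = ι (y x) := if_neg h

theorem ev_gD {w : List ℕ} (h : ∀ x ∈ w, x ≠ tl) : ev (gD ι y T tl) w = ι (ev y w) := by
  rw [map_ev]; exact ev_congr fun x hx => gD_k (h x hx)

theorem ne_of_beq {a b : ℕ} (h : ¬ Nat.beq a b = true) : a ≠ b := fun e => h (e ▸ Nat.beq_refl a)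

namespace Hyp
variable (H : Hyp ι y T φ N act B tl ivc sgc sts rels)
include H

theorem ev_decI (c : ℕ) (acc : List ℕ) :
    ev (gD ι y T tl) (decI tl ivc sts c acc) = ev (gD ι y T tl) acc * (ev (gD ι y T tl) (decF c []))⁻¹ := by
  unfold decI decF
  generalize 256 = n
  induction n generalizing c acc with
  | zero => exact (mul_one _).symm.trans (congrArg _ inv_one.symm)
  | succ n ih =>
    rw [decM_succ, decN_succ]
    split_ifs with h1 h2
    · simp
    · rw [ih, ev_append, ev_cons, Nat.eq_of_beq_eq_true h2, gD_t, eq_inv_of_mul_eq_one_left H.invT]; group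
    · have h3 : Nat.pred (Nat.land c 63) < 63 := by
        have : Nat.land c 63 ≤ 63 := Nat.and_le_right
        rw [Nat.pred_eq_sub_one]; omega
      obtain ⟨h4, h5⟩ := H.inv _ h3 (ne_of_beq h2)
      rw [ih, ev_cons, ev_cons, gD_k h4, gD_k (ne_of_beq h2), eq_inv_of_mul_eq_one_left h5, map_inv]; group

theorem map_run (a : K) (w : List ℕ) : (B.map (φ a)).map (runA act w) = B.map (φ (ev y w * a)) := by
  rw [List.map_map]
  refine List.map_congr_left fun b hb => ?_
  rw [map_mul, Perm.mul_apply, H.pa.run w _ (H.pa.lt a b (H.hB b hb))]; rfl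

theorem eq_of_map {a a' : K} (h : B.map (φ a) = B.map (φ a')) : a = a' := by
  rw [← inv_mul_eq_one]
  refine H.pa.ext _ fun b hb _ => ?_
  rw [map_mul, map_inv, Perm.mul_apply, Perm.inv_eq_iff_eq]
  exact (List.map_inj_left.1 h b hb).symm

theorem comm_w {w : List ℕ} (h : inC sgc w = true) : T * ι (ev y w) = ι (ev y (w.map (sgm sgc))) * T := by
  have h' := allL_spec h
  clear h
  induction w with
  | nil => simp
  | cons x w ih =>
    rw [List.map_cons, ev_cons, ev_cons, map_mul, map_mul, ← mul_assoc, ih fun z hz => h' z (List.mem_cons_of_mem _ hz),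
      mul_assoc, H.comm x (Nat.blt_eq ▸ h' x List.mem_cons_self), mul_assoc]

theorem go_sound {c1 : ℕ} (W : List ℕ) {a : K} {hs : List (List ℕ)} {c cc : ℕ}
    (h : go act B tl sgc cw cm c1 W (B.map (φ a)) hs c cc = true) :
    relE ι y T hs * ι (ev y ((decF c []).map (sgm sgc))) =
      ι (ev y ((decF c1 []).map (sgm sgc))) * ev (gD ι y T tl) W * ι a := by
  have hB : B = B.map (φ 1) := by rw [map_one]; exact (List.map_id' B).symm
  induction W generalizing a hs c cc with
  | nil =>
    have h' : andB (eqL (B.map (φ a)) B) (andB (List.rec true (fun _ _ _ => false) hs) (Nat.beq c c1)) = true := h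
    rw [andB_eq_true, andB_eq_true] at h'
    obtain rfl : a = 1 := H.eq_of_map ((eqL_spec h'.1).trans hB)
    cases hs with
    | nil => rw [Nat.eq_of_beq_eq_true h'.2.2]; simp [relE]
    | cons _ _ => exact absurd h'.2.1 Bool.false_ne_true
  | cons x W ih =>
    cases e : Nat.beq x tl with
    | false =>
      have h' : go act B tl sgc cw cm c1 (x :: W) (B.map (φ a)) hs c cc =
          stepL (act x) (B.map (φ a)) fun st' => go act B tl sgc cw cm c1 W st' hs c cc := by
        rw [← iteB_false _ (stepL _ _ _), ← e]; rfl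
      have e1 : (B.map (φ a)).map (act x) = B.map (φ (y x * a)) := by
        have := H.map_run a [x]
        rw [ev_one] at this
        rw [← this]; exact List.map_congr_left fun p _ => (seqL_eq (act x p) fun a => a).symm
      rw [h', stepL_eq, e1] at h
      rw [ih h, ev_cons, gD_k (ne_of_beq (by simp [e])), map_mul]; group
    | true =>
      cases hs with
      | nil =>
        have h' : go act B tl sgc cw cm c1 (x :: W) (B.map (φ a)) [] c cc = false := by
          rw [← iteB_true false (stepL (act x) (B.map (φ a)) fun st' => go act B tl sgc cw cm c1 W st' [] c cc), ← e]; rfl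
        rw [h'] at h; exact absurd h Bool.false_ne_true
      | cons h0 hs =>
        have h' : go act B tl sgc cw cm c1 (x :: W) (B.map (φ a)) (h0 :: hs) c cc =
            seqL (Nat.land cc cm) fun c' => andB (inC sgc (decF c' []))
              (runL act (fun s1 => runL act (fun s2 => andB (eqL s1 s2)
                (seqL (Nat.shiftRight cc cw) (go act B tl sgc cw cm c1 W B hs c')))
                (mapS sgc (decF c []) h0) B) (decF c' []) (B.map (φ a))) := by
          rw [← iteB_true (seqL _ _)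
            (stepL (act x) (B.map (φ a)) fun st' => go act B tl sgc cw cm c1 W st' (h0 :: hs) c cc), ← e]; rfl
        rw [h', seqL_eq, andB_eq_true, runL_eq, runL_eq, andB_eq_true, seqL_eq, H.map_run, mapS_eq] at h
        obtain ⟨h1, h2, h3⟩ := h
        have h4 := eqL_spec h2
        have h5 := H.eq_of_map (h4.trans ((congrArg _ hB).trans (H.map_run 1 _)))
        have h6 := ih (a := 1) (by rw [← hB]; exact h3)
        have h7 := H.comm_w h1
        rw [ev_append, mul_one] at h5
        rw [map_one, mul_one] at h6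
        rw [relE, ev_cons, Nat.eq_of_beq_eq_true e, gD_t, mul_assoc, ← map_mul, ← h5, map_mul, ← mul_assoc,
          mul_assoc _ T, h7, ← mul_assoc, h6]
        group

end Hyp

/-- The point `n`. -/
noncomputable def P (g : ℕ → G) (x0 : X) (tab : ℕ → ℕ) (n : ℕ) : X := ev g (pw tab n) • x0

/-- Fact `j`. -/
def Fa (g : ℕ → G) (x0 : X) (tab : ℕ → ℕ) (j : ℕ) : Prop :=
  ev g (decF (fW (tab j)) []) • P g x0 tab (fD (tab j)) = P g x0 tab (fE (tab j))

theorem P_zero (g : ℕ → G) (x0 : X) (tab : ℕ → ℕ) : P g x0 tab 0 = x0 := by rw [P, pw_zero, ev_nil, one_smul]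

theorem Hyp.path (H : Hyp ι y T φ N act B tl ivc sgc sts rels) {x0 : X} {j e : ℕ}
    (hj : ∀ i < j, Fa (gD ι y T tl) x0 tab i) (acc : List ℕ) {cnt p refs : ℕ} (h : endD tab j e cnt p refs = true) :
    ev (gD ι y T tl) (pathW tab tl ivc sts acc cnt refs) • P (gD ι y T tl) x0 tab p =
      ev (gD ι y T tl) acc • P (gD ι y T tl) x0 tab e := by
  induction cnt generalizing p refs with
  | zero => rw [Nat.eq_of_beq_eq_true h]; rfl
  | succ cnt ih =>
    have e1 : endD tab j e (cnt + 1) p refs = seqL (Nat.shiftRight (Nat.land refs 65535) 1) fun j' =>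
      andB (Nat.blt j' j) (seqL (tab j') fun r => iteB (Nat.beq (Nat.land refs 1) 0)
        (andB (Nat.beq (fD r) p) (seqL (fE r) fun q => seqL (Nat.shiftRight refs 16) (endD tab j e cnt q)))
        (andB (Nat.beq (fE r) p) (seqL (fD r) fun q => seqL (Nat.shiftRight refs 16) (endD tab j e cnt q)))) := rfl
    have e2 : pathW tab tl ivc sts acc (cnt + 1) refs = seqL (Nat.shiftRight (Nat.land refs 65535) 1) fun j' =>
      seqL (fW (tab j')) fun w => iteB (Nat.beq (Nat.land refs 1) 0)
        (decF w (seqL (Nat.shiftRight refs 16) (pathW tab tl ivc sts acc cnt)))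
        (decI tl ivc sts w (seqL (Nat.shiftRight refs 16) (pathW tab tl ivc sts acc cnt))) := rfl
    rw [e1] at h
    rw [e2]
    simp only [seqL_eq, andB_eq_true, iteB_eq] at h ⊢
    have hf := hj _ (Nat.blt_eq ▸ h.1)
    have h2 := h.2
    split_ifs at h2 ⊢
    · rw [andB_eq_true] at h2
      rw [decF_eq, ev_append, mul_smul, ← Nat.eq_of_beq_eq_true h2.1, hf, ih h2.2]
    · rw [andB_eq_true] at h2
      rw [H.ev_decI, mul_smul, ← Nat.eq_of_beq_eq_true h2.1, ← hf, inv_smul_smul, ih h2.2]

theorem Hyp.step (H : Hyp ι y T φ N act B tl ivc sgc sts rels) {x0 : X}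
    (hs : ∀ w ∈ subs, ev (gD ι y T tl) w • x0 = x0) {j s : ℕ} (hj : ∀ i < j, Fa (gD ι y T tl) x0 tab i)
    (h : chkD tab act B tl ivc sgc cw cm sts rels subs j s = true) : Fa (gD ι y T tl) x0 tab j := by
  simp only [chkD, seqL_eq, iteB_eq] at h
  unfold Fa
  split_ifs at h
  · rw [andB_eq_true] at h
    rw [Nat.eq_of_beq_eq_true h.1, P, P, pw_succ tab (Nat.le_of_ble_eq_true h.2), ev_append, mul_smul]
  · rw [andB_eq_true, andB_eq_true] at h
    rw [Nat.eq_of_beq_eq_true h.1.1, Nat.eq_of_beq_eq_true h.1.2, eqL_spec h.2, P_zero]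
    exact getL_prop (p := fun w => ev (gD ι y T tl) w • x0 = x0) subs [] _ (one_smul _ _) hs
  · rw [andB_eq_true] at h
    have h1 := H.path hj (decI tl ivc sts (fW (tab j)) []) h.1
    have hB : B = B.map (φ 1) := by rw [map_one]; exact (List.map_id' B).symm
    have h2 := h.2
    generalize pathW tab tl ivc sts _ _ _ = W at h1 h2
    have h3 := H.go_sound (cw := cw) (cm := cm) (a := 1) _ (by rw [← hB]; exact h2)
    rw [getL_prop (p := fun r => relE ι y T r = 1) rels [] _ rfl H.rel, one_mul, map_one, mul_one,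
      left_eq_mul, appL_eq] at h3
    have h4 := ev_rot h3
    rw [pre_post] at h4
    rw [h4, one_smul, H.ev_decI, ev_nil, one_mul] at h1
    rw [h1, smul_inv_smul]

theorem Hyp.facts (H : Hyp ι y T φ N act B tl ivc sgc sts rels) {x0 : X}
    (hs : ∀ w ∈ subs, ev (gD ι y T tl) w • x0 = x0) {n : ℕ}
    (h : Steps (chkD tab act B tl ivc sgc cw cm sts rels subs) n) : ∀ j < n, Fa (gD ι y T tl) x0 tab j := by
  intro j
  induction j using Nat.strong_induction_on with
  | _ j ih =>
    intro hj
    obtain ⟨s, hs'⟩ := h j hj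
    exact H.step hs (fun i hi => ih i hi (hi.trans hj)) hs'

end Dce

end Cfsg.Agent.Spor
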