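import Cfsg.Agent.Spor.Dce

/-! Double coset enumeration (helper23): closure and counting. The orbits `O i` of `K` on the points `P (nm i)` cover
`G ⧸ H`; their lengths follow from counting the edges given by `T` (`Cert.orbs`, `Cert.main`). -/

namespace Cfsg.Agent.Spor.Dce

open Equiv

def eF (c : ℕ) : ℕ := Nat.land c 65535
def eO (c : ℕ) : ℕ := Nat.land (Nat.shiftRight c 16) 65535
def eJ (c : ℕ) : ℕ := Nat.shiftRight c 32

/-- Exactly one letter `tl`. -/
noncomputable def oneT (tl : ℕ) (W : List ℕ) : Bool :=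
  List.rec false (fun x t ih => iteB (Nat.beq x tl) (allL t fun z => iteB (Nat.beq z tl) false true) ih) W

/-- The part before `tl`, without the final letters that move across `T`. -/
noncomputable def strip (tl sgc : ℕ) (W : List ℕ) : List ℕ :=
  List.rec [] (fun x _ ih => iteB (Nat.beq x tl) []
    (iteB (andB (nilB ih) (Nat.blt 0 (tb sgc x))) [] (x :: ih))) W

noncomputable def chkEnt (tab : ℕ → ℕ) (nets : List Net) (tl sgc nl n β : ℕ) (nm : List ℕ) (i c : ℕ) : Bool :=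
  seqL (eF c) fun f => andB (Nat.blt f n) (seqL (tab f) fun r => andB (Nat.beq (fD r) (getL nm 0 i))
    (andB (Nat.beq (fE r) (getL nm 0 (eJ c))) ((fun W => andB (oneT tl W)
      ((fun u => andB (allL u fun x => Nat.blt x nl) (chkPt nets u (eO c) β)) (strip tl sgc W))) (decF (fW r) []))))

noncomputable def chkGen (tab : ℕ → ℕ) (nl n p f : ℕ) : Bool :=
  andB (Nat.blt f n) (seqL (tab f) fun r => andB (Nat.beq (fD r) p) (andB (Nat.beq (fE r) p)
    (allL (decF (fW r) []) fun x => Nat.blt x nl)))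

noncomputable def start (j : ℕ) (ents : List ℕ) : ℕ → ℕ :=
  List.rec (motive := fun _ => ℕ → ℕ) (fun A => A)
    (fun c _ ih A => iteB (Nat.beq (eJ c) j) (seqL (Nat.lor A (Nat.shiftLeft 1 (eO c))) ih) (ih A)) ents

noncomputable def genWs (tab : ℕ → ℕ) (gens : List ℕ) : List (List ℕ) :=
  List.rec [] (fun f _ ih => decF (fW (tab f)) [] :: ih) gens

noncomputable def rowA (tab : ℕ → ℕ) (nets : List Net) (gens ents : List ℕ) (progs : List (List ℕ)) (j : ℕ) : ℕ :=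
  orbRun nets (genWs tab gens) (getL progs [] j) (start j ents 0)

noncomputable def orN (f : ℕ → ℕ) (n : ℕ) : ℕ := Nat.rec 0 (fun j ih => Nat.lor (f j) ih) n

noncomputable def chkRow (A : ℕ → ℕ) (L M nd : ℕ) (cnt : List ℕ) : Bool :=
  andB (Nat.beq (orN A nd) (ivl 0 M))
    (allN nd fun j => iteB (Nat.beq (getL cnt 0 j) 0) true (chkPop L (A j) (getL cnt 0 j)))

/-- The certificate of row `i`. -/
def Row (tab : ℕ → ℕ) (nets : List Net) (tl sgc nl n β M nd : ℕ) (nm : List ℕ) (cnts : List (List ℕ)) (i : ℕ) :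
    Prop :=
  ∃ gens ents progs L, allL gens (chkGen tab nl n (getL nm 0 i)) = true ∧
    (∀ c ∈ ents, chkEnt tab nets tl sgc nl n β nm i c = true) ∧
    chkRow (rowA tab nets gens ents progs) L M nd (getL cnts [] i) = true

noncomputable def chkTree (cnts : List (List ℕ)) (sz par : List ℕ) (nd : ℕ) : Bool :=
  andB (Nat.beq (getL sz 0 0) 1) (allN nd fun i => iteB (Nat.beq i 0) true
    (andB (Nat.blt (getL par 0 i) i) (andB (Nat.blt 0 (getL (getL cnts [] (getL par 0 i)) 0 i))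
      (andB (Nat.blt 0 (getL (getL cnts [] i) 0 (getL par 0 i)))
        (Nat.beq (Nat.mul (getL sz 0 (getL par 0 i)) (getL (getL cnts [] (getL par 0 i)) 0 i))
          (Nat.mul (getL sz 0 i) (getL (getL cnts [] i) 0 (getL par 0 i))))))))

theorem blt_spec {a b : ℕ} (h : Nat.blt a b = true) : a < b := Nat.blt_eq ▸ h

theorem start_spec {j : ℕ} {ents : List ℕ} {A p : ℕ} (h : p ∈ bset (start j ents A)) :
    p ∈ bset A ∨ ∃ c ∈ ents, eJ c = j ∧ eO c = p := by
  induction ents generalizing A with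
  | nil => exact Or.inl h
  | cons c t ih =>
    have e : start j (c :: t) A = iteB (Nat.beq (eJ c) j)
      (seqL (Nat.lor A (Nat.shiftLeft 1 (eO c))) (start j t)) (start j t A) := rfl
    rw [e, iteB_eq, seqL_eq] at h
    split_ifs at h with h1
    · rcases ih h with h | ⟨c', h2, h3⟩
      · have h' : (A ||| Nat.shiftLeft 1 (eO c)).testBit p = true := h
        rw [Nat.testBit_or, Bool.or_eq_true] at h'
        exact h'.imp id fun h' => ⟨c, List.mem_cons_self, Nat.eq_of_beq_eq_true h1, (testBit_one_shiftLeft h').symm⟩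
      · exact Or.inr ⟨c', List.mem_cons_of_mem _ h2, h3⟩
    · exact (ih h).imp id fun ⟨c', h2, h3⟩ => ⟨c', List.mem_cons_of_mem _ h2, h3⟩

theorem orbRun_ind {nets : List Net} {M : ℕ} (hok : netsOk M nets = true) {ws : List (List ℕ)} {Q : ℕ → Prop}
    (hQ : ∀ w ∈ ws, ∀ p, Q p → Q (ev (PP nets) w p)) (prog : List ℕ) {A : ℕ} (h : ∀ p ∈ bset A, Q p) :
    ∀ p ∈ bset (orbRun nets ws prog A), Q p := by
  induction prog generalizing A with
  | nil => exact h
  | cons i t ih =>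
    have e : orbRun nets ws (i :: t) A = orbRun nets ws t (Nat.lor A (appW nets (getL ws [] i) A)) := seq_eq _ _
    rw [e]
    refine ih fun j hj => ?_
    have hj' : (A ||| appW nets (getL ws [] i) A).testBit j = true := hj
    rw [Nat.testBit_or, Bool.or_eq_true, appW_testBit' hok] at hj'
    rcases hj' with hj' | hj'
    · exact h j hj'
    · have := getL_prop (p := fun w => ∀ p, Q p → Q (ev (PP nets) w p)) ws [] i (fun _ h => h) hQ _ (h _ hj')
      rwa [Perm.coe_inv, Equiv.apply_symm_apply] at this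

theorem orN_spec {f : ℕ → ℕ} {n p : ℕ} (h : p ∈ bset (orN f n)) : ∃ j < n, p ∈ bset (f j) := by
  induction n with
  | zero => exact absurd h (by simp [bset, orN])
  | succ n ih =>
    have h' : (f n ||| orN f n).testBit p = true := h
    rw [Nat.testBit_or, Bool.or_eq_true] at h'
    rcases h' with h' | h'
    · exact ⟨n, Nat.lt_succ_self n, h'⟩
    · obtain ⟨j, h1, h2⟩ := ih h'
      exact ⟨j, Nat.lt_succ_of_lt h1, h2⟩

theorem mem_genWs {tab : ℕ → ℕ} {gens w : List ℕ} (h : w ∈ genWs tab gens) : ∃ f ∈ gens, w = decF (fW (tab f)) [] := by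
  induction gens with
  | nil => cases h
  | cons f t ih =>
    rcases List.mem_cons.1 (show w ∈ decF (fW (tab f)) [] :: genWs tab t from h) with h | h
    · exact ⟨f, List.mem_cons_self, h⟩
    · obtain ⟨f', h1, h2⟩ := ih h
      exact ⟨f', List.mem_cons_of_mem _ h1, h2⟩

theorem card_fib {K Y : Type*} [Group K] (θ : K →* Perm Y) (y0 : Y) {Z : Set Y} (hZ : ∀ z ∈ Z, ∃ k, θ k y0 = z) :
    {k | θ k y0 ∈ Z}.ncard = {k | θ k y0 = y0}.ncard * Z.ncard := by
  let _ : MulAction K Y := MulAction.compHom Y θ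
  have h := QuotientGroup.card_preimage_mk (MulAction.stabilizer K y0) (MulAction.ofQuotientStabilizer K y0 ⁻¹' Z)
  rw [Nat.card_coe_set_eq, Nat.card_coe_set_eq, Set.ncard_preimage_of_injective_subset_range
    (MulAction.injective_ofQuotientStabilizer K y0) fun z hz => by
      obtain ⟨k, hk⟩ := hZ z hz; exact ⟨k, hk⟩] at h
  exact h

variable {G K X : Type*} [Group G] [Group K] [MulAction G X]

/-- The orbit of `K`. -/
def O (ι : K →* G) (p : X) : Set X := Set.range fun k : K => ι k • p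

theorem O_self (ι : K →* G) (p : X) : p ∈ O ι p := ⟨1, by simp⟩

theorem O_smul {ι : K →* G} {p q : X} (h : q ∈ O ι p) (k : K) : ι k • q ∈ O ι p := by
  obtain ⟨k', rfl⟩ := h; exact ⟨k * k', by simp [mul_smul]⟩

theorem O_of_smul {ι : K →* G} {p q : X} {k : K} (h : ι k • q ∈ O ι p) : q ∈ O ι p := by
  simpa [smul_smul, ← map_mul] using O_smul h k⁻¹

/-- The orbits of `K` on `X`. -/
structure Orbs (ι : K →* G) (p : ℕ → X) (nd : ℕ) (sz : List ℕ) : Prop where
  fin : Finite K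
  cover : ∀ x, ∃ i < nd, x ∈ O ι (p i)
  dis : ∀ i < nd, ∀ j < nd, ∀ x, x ∈ O ι (p i) → x ∈ O ι (p j) → i = j
  size : ∀ i < nd, (O ι (p i)).ncard = getL sz 0 i

open Classical in
theorem Orbs.ncard {ι : K →* G} {p : ℕ → X} {nd : ℕ} {sz : List ℕ} (h : Orbs ι p nd sz) {Z : Set X}
    (hZ : ∀ k, ∀ x ∈ Z, ι k • x ∈ Z) : Z.ncard = ∑ i ∈ Finset.range nd, if p i ∈ Z then getL sz 0 i else 0 := by
  have := h.fin
  have key : ∀ n ≤ nd, {x ∈ Z | ∃ i < n, x ∈ O ι (p i)}.Finite ∧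
      {x ∈ Z | ∃ i < n, x ∈ O ι (p i)}.ncard = ∑ i ∈ Finset.range n, if p i ∈ Z then getL sz 0 i else 0 := by
    intro n hn
    induction n with
    | zero => simp
    | succ n ih =>
      obtain ⟨h1, h2⟩ := ih (by omega)
      have e : {x ∈ Z | ∃ i < n + 1, x ∈ O ι (p i)} = {x ∈ Z | ∃ i < n, x ∈ O ι (p i)} ∪ Z ∩ O ι (p n) := by
        ext x
        simp only [Set.mem_ofPred_eq, Set.mem_union, Set.mem_inter_iff, Nat.lt_succ_iff_lt_or_eq, or_and_right,
          exists_or, exists_eq_left, and_or_left]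
      have h3 : (Z ∩ O ι (p n)).Finite := (Set.finite_range _).inter_of_right _
      rw [e, Finset.sum_range_succ, Set.ncard_union_eq (Set.disjoint_left.2 fun x hx h6 => by
        obtain ⟨_, i, h4, h5⟩ := hx
        have := h.dis i (by omega) n (by omega) x h5 h6.2; omega) h1 h3, h2]
      refine ⟨h1.union h3, congrArg _ ?_⟩
      split_ifs with h4
      · rw [Set.inter_eq_right.2 (by rintro _ ⟨k, rfl⟩; exact hZ k _ h4), h.size n hn]
      · rw [Set.ncard_eq_zero h3, Set.eq_empty_iff_forall_notMem]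
        rintro _ ⟨h5, k, rfl⟩
        exact h4 (by simpa [smul_smul, ← map_mul] using hZ k⁻¹ _ h5)
  rw [← (key nd le_rfl).2]
  exact congrArg _ (Set.ext fun x => ⟨fun hx => ⟨hx, h.cover x⟩, fun hx => hx.1⟩)

variable {ι : K →* G} {y : ℕ → K} {T : G} {φ : K →* Perm ℕ} {N : ℕ} {act : ℕ → ℕ → ℕ} {B : List ℕ}
  {tl ivc sgc cw cm : ℕ} {sts : List ℕ} {rels : List (List (List ℕ))} {subs : List (List ℕ)} {tab : ℕ → ℕ}

theorem Hyp.oneT (H : Hyp ι y T φ N act B tl ivc sgc sts rels) {W : List ℕ} (h : oneT tl W = true) :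
    ∃ k c c', T * ι c = ι c' * T ∧ ev (gD ι y T tl) W = ι k * T * ι (c * ev y (strip tl sgc W)) := by
  induction W with
  | nil => exact absurd h Bool.false_ne_true
  | cons x t ih =>
    have e1 : Dce.oneT tl (x :: t) =
      iteB (Nat.beq x tl) (allL t fun z => iteB (Nat.beq z tl) false true) (Dce.oneT tl t) := rfl
    have e2 : strip tl sgc (x :: t) = iteB (Nat.beq x tl) []
      (iteB (andB (nilB (strip tl sgc t)) (Nat.blt 0 (tb sgc x))) [] (x :: strip tl sgc t)) := rfl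
    rw [e1, iteB_eq] at h
    rw [e2, iteB_eq, iteB_eq]
    split_ifs at h ⊢ with h1 h2
    · refine ⟨ev y t, 1, 1, by simp, ?_⟩
      rw [ev_cons, Nat.eq_of_beq_eq_true h1, gD_t, ev_gD fun z hz => ne_of_beq fun e => by
        have := allL_spec h z hz; rw [e] at this; exact Bool.false_ne_true this]
      simp
    · obtain ⟨k, c, c', h3, h4⟩ := ih h
      rw [andB_eq_true] at h2
      refine ⟨k, c * y x, c' * y (sgm sgc x), ?_, ?_⟩
      · rw [map_mul, map_mul, ← mul_assoc, h3, mul_assoc, H.comm x (blt_spec h2.2), mul_assoc]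
      · rw [ev_cons, h4, nilB_spec h2.1, gD_k (ne_of_beq h1)]; simp [mul_assoc]
    · obtain ⟨k, c, c', h3, h4⟩ := ih h
      exact ⟨k, c, c', h3, by rw [ev_cons, h4, gD_k (ne_of_beq h1), ev_cons]; simp [mul_assoc]⟩

/-- The complete certificate. -/
structure Cert (ι : K →* G) (y : ℕ → K) (T : G) (tl : ℕ) (subs : List (List ℕ)) (tab : ℕ → ℕ) (ψ : K →* Perm ℕ)
    (M β nd : ℕ) (nm sz : List ℕ) : Prop where
  fin : Finite K
  hβ : β < M
  lt : ∀ k, ∀ i < M, ψ k i < M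
  fix : ∀ k i, M ≤ i → ψ k i = i
  hC : ∀ k, ψ k β = β → ∃ k', T * ι k = ι k' * T
  hT : ∃ u v, T⁻¹ = ι u * T * ι v
  nm0 : getL nm 0 0 = 0
  nd0 : 0 < nd
  ex : ∃ (cnts : List (List ℕ)) (par : List ℕ), chkTree cnts sz par nd = true ∧
    ∀ (X : Type) [MulAction G X] (x0 : X), (∀ w ∈ subs, ev (gD ι y T tl) w • x0 = x0) → ∀ i < nd, ∃ A : ℕ → ℕ,
      (∀ j, ∀ ω ∈ bset (A j), ∃ k, ψ k ω = β ∧
        T • ι k • P (gD ι y T tl) x0 tab (getL nm 0 i) ∈ O ι (P (gD ι y T tl) x0 tab (getL nm 0 j))) ∧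
      (∀ ω < M, ∃ j < nd, ω ∈ bset (A j)) ∧
      ∀ j < nd, 0 < getL (getL cnts [] i) 0 j → (bset (A j)).ncard = getL (getL cnts [] i) 0 j

theorem Hyp.cert (H : Hyp ι y T φ N act B tl ivc sgc sts rels) [Finite K] {n : ℕ}
    (hS : Steps (chkD tab act B tl ivc sgc cw cm sts rels subs) n) {ψ : K →* Perm ℕ} {nets : List Net}
    {M nl β nd : ℕ} (R : PermRep y nets M nl ψ) (hnl : nl ≤ tl) (hβ : β < M)
    (hC : ∀ k, ψ k β = β → ∃ k', T * ι k = ι k' * T) (hs : Dce.oneT tl sts = true) {nm sz par : List ℕ}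
    {cnts : List (List ℕ)} (h0 : getL nm 0 0 = 0) (h1 : 0 < nd) (ht : chkTree cnts sz par nd = true)
    (hR : ∀ i < nd, Row tab nets tl sgc nl n β M nd nm cnts i) : Cert ι y T tl subs tab ψ M β nd nm sz := by
  refine ⟨inferInstance, hβ, fun k _ h => R.lt k h, fun k _ h => R.fix k h, hC, ?_, h0, h1, cnts, par, ht,
    fun X _ x0 hx i hi => ?_⟩
  · obtain ⟨k, c, c', -, h⟩ := H.oneT hs
    exact ⟨k, _, by rw [← h, eq_comm, eq_inv_iff_mul_eq_one, H.invT]⟩
  have hF := H.facts (tab := tab) hx hS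
  obtain ⟨gens, ents, progs, L, h2, h3, h4⟩ := hR i hi
  rw [chkRow, andB_eq_true] at h4
  refine ⟨rowA tab nets gens ents progs, fun j => orbRun_ind R.ok (fun w hw p hp0 => ?_) _ fun p hp => ?_,
    fun ω hω => orN_spec ?_, fun j hj h5 => ?_⟩
  · obtain ⟨f, hf, rfl⟩ := mem_genWs hw
    obtain ⟨k, h5, h6⟩ := hp0
    have h7 := allL_spec h2 f hf
    simp only [chkGen, seqL_eq, andB_eq_true] at h7
    have h8 : ∀ x ∈ decF (fW (tab f)) [], x < nl := fun x hx => blt_spec (allL_spec h7.2.2.2 x hx)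
    have h9 := hF f (blt_spec h7.1)
    rw [Fa, Nat.eq_of_beq_eq_true h7.2.1, Nat.eq_of_beq_eq_true h7.2.2.1,
      ev_gD fun x hx => by have := h8 x hx; omega] at h9
    refine ⟨k * (ev y (decF (fW (tab f)) []))⁻¹, ?_, ?_⟩
    · rw [← R.map_ev h8, ← Perm.mul_apply, ← map_mul, inv_mul_cancel_right, h5]
    · rw [map_mul, mul_smul, map_inv, (inv_smul_eq_iff.2 h9.symm :)]; exact h6
  · rcases start_spec hp with h5 | ⟨c, hc, rfl, rfl⟩
    · exact absurd h5 (by simp [bset])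
    have h7 := h3 c hc
    simp only [chkEnt, seqL_eq, andB_eq_true] at h7
    obtain ⟨h5, h6, h7, h8, h9, h10⟩ := h7
    have h11 := hF _ (blt_spec h5)
    obtain ⟨k, c0, c', h12, h13⟩ := H.oneT h8
    rw [Fa, Nat.eq_of_beq_eq_true h6, Nat.eq_of_beq_eq_true h7, h13, map_mul, ← mul_assoc, mul_assoc (ι k), h12,
      ← mul_assoc, ← map_mul, mul_smul, mul_smul] at h11
    refine ⟨_, ?_, O_of_smul ((congrArg (· ∈ O ι (P (gD ι y T tl) x0 tab (getL nm 0 (eJ c)))) h11).mpr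
      (O_self ι _))⟩
    rw [R.map_ev fun x hx => blt_spec (allL_spec h9 x hx)]
    exact ev_apply_of_chkPt R.ok h10
  · rw [Nat.eq_of_beq_eq_true h4.1, bset_ivl]; exact ⟨Nat.zero_le _, by omega⟩
  · have h6 := allN_spec h4.2 j hj
    rw [iteB_eq, if_neg fun e => by rw [Nat.eq_of_beq_eq_true e] at h5; exact lt_irrefl _ h5] at h6
    exact ncard_of_chkPop h6

namespace Cert
variable {ψ : K →* Perm ℕ} {M β nd : ℕ} {nm sz : List ℕ} (C : Cert ι y T tl subs tab ψ M β nd nm sz)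
include C

theorem orbs (gen : ∀ S : Subgroup G, (∀ k, ι k ∈ S) → T ∈ S → S = ⊤) (H' : Subgroup G) (hK : ∀ k, ι k ∈ H')
    (hs : ∀ w ∈ subs, ev (gD ι y T tl) w ∈ H') {X : Type} [MulAction G X] {x0 : X} (hx : ∀ g, g • x0 = x0 ↔ g ∈ H')
    (htr : ∀ x : X, ∃ g : G, g • x0 = x)
    (hd : ∀ i < nd, ∀ j < nd, ∀ k, ∀ h ∈ H', ι k * ev (gD ι y T tl) (pw tab (getL nm 0 i)) * h =
      ev (gD ι y T tl) (pw tab (getL nm 0 j)) → i = j) :
    Orbs ι (fun i => P (gD ι y T tl) x0 tab (getL nm 0 i)) nd sz ∧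
      {k | ψ k β = β}.ncard * M = Nat.card K ∧ ∀ ω < M, ∃ k, ψ k β = ω := by
  have := C.fin
  obtain ⟨cnts, par, ht, hA⟩ := C.ex
  choose! A hA1 hA2 hA3 using hA X x0 fun w hw => (hx _).2 (hs w hw)
  obtain ⟨u, v, hT⟩ := C.hT
  set p := fun i => P (gD ι y T tl) x0 tab (getL nm 0 i) with hp
  have hp0 : p 0 = x0 := by rw [hp]; simp only [C.nm0, P_zero]
  have dis : ∀ i < nd, ∀ j < nd, ∀ x, x ∈ O ι (p i) → x ∈ O ι (p j) → i = j := by
    rintro i hi j hj _ ⟨k, rfl⟩ ⟨k', h⟩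
    refine hd i hi j hj (k'⁻¹ * k) _ (inv_mem ((hx ((ev (gD ι y T tl) (pw tab (getL nm 0 j)))⁻¹ *
      (ι (k'⁻¹ * k) * ev (gD ι y T tl) (pw tab (getL nm 0 i))))).1 ?_)) (by group)
    rw [mul_smul, inv_smul_eq_iff, map_mul, mul_smul, mul_smul, map_inv, inv_smul_eq_iff]
    exact h.symm
  have hQ : ∀ i < nd, ∀ j k, ψ k⁻¹ β ∈ bset (A i j) → T • ι k • p i ∈ O ι (p j) := by
    intro i hi j k h
    obtain ⟨k0, h1, h2⟩ := hA1 i hi j _ h
    obtain ⟨k', h3⟩ := C.hC (k0 * k⁻¹) (by rw [map_mul]; exact h1)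
    refine O_of_smul (k := k') ?_
    rwa [← mul_smul, ← h3, mul_smul, ← mul_smul (ι _), ← map_mul, inv_mul_cancel_right]
  have hcl : ∀ x, (∃ i < nd, x ∈ O ι (p i)) → ∃ j < nd, T • x ∈ O ι (p j) := by
    rintro _ ⟨i, hi, k, rfl⟩
    obtain ⟨j, hj, h⟩ := hA2 i hi _ (C.lt k⁻¹ β C.hβ)
    exact ⟨j, hj, hQ i hi j k h⟩
  have hk : ∀ k x, (∃ i < nd, x ∈ O ι (p i)) → ∃ j < nd, ι k • x ∈ O ι (p j) :=
    fun k x ⟨i, hi, h⟩ => ⟨i, hi, O_smul h k⟩
  have tr : ∀ ω < M, ∃ k, ψ k β = ω := fun ω hω => by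
    obtain ⟨j, -, h⟩ := hA2 0 C.nd0 ω hω
    obtain ⟨k, h, -⟩ := hA1 0 C.nd0 j ω h
    exact ⟨k⁻¹, by rw [map_inv, Perm.inv_eq_iff_eq, h]⟩
  have hc : {k | ψ k β = β}.ncard * M = Nat.card K := by
    have := card_fib ψ β (Z := Set.Iio M) tr
    rw [Set.ncard_Iio_nat, Set.eq_univ_of_forall (s := {k | ψ k β ∈ Set.Iio M}) fun k => C.lt k β C.hβ,
      Set.ncard_univ] at this
    exact this.symm
  have hc0 : 0 < {k | ψ k β = β}.ncard := by
    rcases Nat.eq_zero_or_pos {k | ψ k β = β}.ncard with e | e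
    · rw [e, zero_mul] at hc; exact absurd hc.symm Nat.card_pos.ne'
    · exact e
  have cnt : ∀ i < nd, ∀ j < nd, (O ι (p i)).ncard * (bset (A i j)).ncard =
      M * {x ∈ O ι (p i) | T • x ∈ O ι (p j)}.ncard := by
    intro i hi j hj
    let θ := (MulAction.toPermHom G X).comp ι
    have h1 := card_fib θ (p i) (Z := O ι (p i)) fun z hz => hz
    have h2 := card_fib θ (p i) (Z := {x ∈ O ι (p i) | T • x ∈ O ι (p j)}) fun z hz => hz.1
    have h3 := card_fib ψ β (Z := bset (A i j)) fun z hz => by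
      obtain ⟨k, h, -⟩ := hA1 i hi j z hz
      exact ⟨k⁻¹, by rw [map_inv, Perm.inv_eq_iff_eq, h]⟩
    rw [Set.eq_univ_of_forall (s := {k | θ k (p i) ∈ O ι (p i)}) fun k => ⟨k, rfl⟩, Set.ncard_univ, ← hc] at h1
    have h4 : {k | θ k (p i) ∈ {x ∈ O ι (p i) | T • x ∈ O ι (p j)}} = Inv.inv ⁻¹' {k | ψ k β ∈ bset (A i j)} := by
      ext k
      refine ⟨fun h => ?_, fun h => ⟨⟨k, rfl⟩, hQ i hi j k h⟩⟩
      obtain ⟨j', hj', h'⟩ := hA2 i hi _ (C.lt k⁻¹ β C.hβ)
      rwa [dis j hj j' hj' _ h.2 (hQ i hi j' k h')]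
    rw [h4, Set.ncard_preimage_of_injective_subset_range inv_injective fun k _ => ⟨k⁻¹, inv_inv k⟩, h3] at h2
    refine Nat.eq_of_mul_eq_mul_left hc0 ?_
    rw [mul_left_comm, h2, ← mul_assoc, ← mul_assoc, h1, mul_comm (O ι (p i)).ncard]
  have sym : ∀ i j, {x ∈ O ι (p i) | T • x ∈ O ι (p j)}.ncard ≤ {x ∈ O ι (p j) | T • x ∈ O ι (p i)}.ncard := by
    intro i j
    refine Set.ncard_le_ncard_of_injOn (fun x => (ι v * T) • x) (fun x hx => ⟨?_, O_of_smul (k := u) ?_⟩)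
      (MulAction.injective _).injOn ((Set.finite_range _).subset fun x hx => hx.1)
    · rw [mul_smul]; exact O_smul hx.2 v
    · rw [smul_smul, smul_smul, ← mul_assoc, ← hT, inv_mul_cancel, one_smul]; exact hx.1
  refine ⟨⟨this, fun x => ?_, dis, fun i => ?_⟩, hc, tr⟩
  · let S : Subgroup G :=
      { carrier := {g | ∀ x, (∃ i < nd, x ∈ O ι (p i)) →
          (∃ j < nd, g • x ∈ O ι (p j)) ∧ ∃ j < nd, g⁻¹ • x ∈ O ι (p j)}
        mul_mem' := fun ha hb x hx => ⟨by rw [mul_smul]; exact (ha _ (hb x hx).1).1,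
          by rw [mul_inv_rev, mul_smul]; exact (hb _ (ha x hx).2).2⟩
        one_mem' := fun x hx => by simpa using hx
        inv_mem' := fun ha x hx => by rw [inv_inv]; exact (ha x hx).symm }
    have hS : S = ⊤ := gen S (fun k x hx => ⟨hk k x hx, by rw [← map_inv]; exact hk _ x hx⟩)
      fun x hx => ⟨hcl x hx, by rw [hT, mul_smul, mul_smul]; exact hk _ _ (hcl _ (hk _ x hx))⟩
    obtain ⟨g, rfl⟩ := htr x
    exact ((hS ▸ Subgroup.mem_top g : g ∈ S) x0 ⟨0, C.nd0, hp0 ▸ O_self ι _⟩).1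
  · rw [chkTree, andB_eq_true] at ht
    induction i using Nat.strong_induction_on with
    | _ i ih =>
      intro hi
      rcases Nat.eq_zero_or_pos i with rfl | h0
      · rw [Nat.eq_of_beq_eq_true ht.1, Set.ncard_eq_one]
        refine ⟨x0, Set.eq_singleton_iff_unique_mem.2 ⟨hp0 ▸ O_self ι _, ?_⟩⟩
        rintro _ ⟨k, rfl⟩
        exact (congrArg (ι k • ·) hp0).trans ((hx _).2 (hK k))
      · have h1 := allN_spec ht.2 i hi
        rw [iteB_eq, if_neg fun e => h0.ne' (Nat.eq_of_beq_eq_true e)] at h1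
        simp only [andB_eq_true] at h1
        obtain ⟨h1, h2, h3, h4⟩ := h1
        have h5 := (blt_spec h1).trans hi
        have h6 := cnt _ h5 i hi
        have h7 := cnt i hi _ h5
        rw [hA3 _ h5 i hi (blt_spec h2), ih _ (blt_spec h1) h5, le_antisymm (sym _ i) (sym i _), ← h7,
          hA3 i hi _ h5 (blt_spec h3)] at h6
        exact Nat.eq_of_mul_eq_mul_right (blt_spec h3) (h6.symm.trans (Nat.eq_of_beq_eq_true h4))

end Cert

end Cfsg.Agent.Spor.Dce
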