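import Cfsg.Agent.Spor.Dce2

/-! Double coset enumeration (helper23): index, faithfulness, maximality, simplicity (`Cert.main`, `Orbs.isCoatom`,
`simple_of_coatom`), and the construction of the hypotheses (`hyp_inv`, `CommP`, `rel_of_rot`). -/

namespace Cfsg.Agent.Spor.Dce

open Equiv

/-- `test (s + t)` for all subsums `t` of `ns`. -/
noncomputable def subS (test : ℕ → Bool) (ns : List ℕ) : ℕ → Bool :=
  List.rec (motive := fun _ => ℕ → Bool) test (fun n _ ih s => andB (ih s) (seqL (Nat.add s n) ih)) ns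

theorem subS_spec {test : ℕ → Bool} {ns : List ℕ} {s : ℕ} (h : subS test ns s = true) (Q : ℕ → Prop)
    [DecidablePred Q] : test (s + ∑ i ∈ Finset.range ns.length, if Q i then getL ns 0 i else 0) = true := by
  induction ns generalizing s Q with
  | nil => exact h
  | cons n t ih =>
    have h' : andB (subS test t s) (seqL (Nat.add s n) (subS test t)) = true := h
    rw [andB_eq_true, seqL_eq] at h'
    rw [List.length_cons, Finset.sum_range_succ']
    simp only [getL_succ, getL_zero]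
    split_ifs
    · have := ih h'.2 fun i => Q (i + 1)
      rwa [Nat.add_eq, Nat.add_right_comm, Nat.add_assoc] at this
    · exact ih h'.1 fun i => Q (i + 1)

def testD (n s : ℕ) : Bool := Nat.blt 0 (Nat.mod n s) || Nat.beq s 1 || Nat.beq s n

theorem sum_getL (l : List ℕ) : ∑ i ∈ Finset.range l.length, getL l 0 i = l.sum := by
  induction l with
  | nil => rfl
  | cons a t ih => rw [List.length_cons, Finset.sum_range_succ', List.sum_cons, add_comm]; exact congrArg _ ih

variable {G K : Type} [Group G] [Group K] {ι : K →* G}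

theorem Orbs.index {H : Subgroup G} {p : ℕ → G ⧸ H} {sz : List ℕ} (h : Orbs ι p sz.length sz) : H.index = sz.sum := by
  have := h.ncard (Z := Set.univ) fun _ _ _ => trivial
  simp only [Set.mem_univ, if_true] at this
  rw [← sum_getL, ← this, Set.ncard_univ]; rfl

theorem Orbs.isCoatom {H : Subgroup G} {p : ℕ → G ⧸ H} {ns : List ℕ} (h : Orbs ι p (ns.length + 1) (1 :: ns))
    (hK : ∀ k, ι k ∈ H) (h0 : p 0 = basePt H) {n : ℕ} (hn : H.index = n) (h1 : 1 < n)
    (hs : subS (testD n) ns 1 = true) : IsCoatom H := by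
  classical
  refine ⟨fun e => by rw [e, Subgroup.index_top] at hn; omega, fun L hL => ?_⟩
  have h2 := h.ncard (Z := MulAction.orbit L (basePt H)) fun k x ⟨l, hl⟩ =>
    ⟨⟨ι k, hL.le (hK k)⟩ * l, by rw [← hl]; exact mul_smul _ _ _⟩
  rw [Finset.sum_range_succ', if_pos (h0 ▸ MulAction.mem_orbit_self _), ← relIndex_eq_ncard_orbit, add_comm] at h2
  have h3 := subS_spec hs fun i => p (i + 1) ∈ MulAction.orbit L (basePt H)
  have h4 := Subgroup.relIndex_mul_index hL.le
  simp only [getL_succ, getL_zero] at h2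
  rw [← h2, testD, Bool.or_eq_true, Bool.or_eq_true] at h3
  rw [hn] at h4
  rcases h3 with (h3 | h3) | h3
  · have := blt_spec h3
    rw [← h4] at this
    exact absurd (Nat.mul_mod_right _ _) this.ne'
  · exact absurd (Subgroup.relIndex_eq_one.1 (Nat.eq_of_beq_eq_true h3)) (not_le_of_gt hL)
  · rw [Nat.eq_of_beq_eq_true h3] at h4
    rw [← Subgroup.index_eq_one]
    exact Nat.eq_of_mul_eq_mul_left (by omega : 0 < n) (by omega)

theorem simple_of_coatom {H : Subgroup G} (hc : IsCoatom H) (core : ∀ M : Subgroup G, M.Normal → M ≤ H → M = ⊥)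
    {w : G} {e : ℕ} (hw : w ^ e = 1) (he : Nat.Coprime e (Nat.card H)) (hn : Subgroup.normalClosure {w} = ⊤) :
    IsSimpleGroup G := by
  have : Nontrivial G := by
    by_contra hc'
    rw [not_nontrivial_iff_subsingleton] at hc'
    exact hc.1 (Subsingleton.elim _ _)
  refine ⟨fun M hM => (em (M ≤ H)).imp (core M hM) fun h => ?_⟩
  have h1 : H ⊔ M = ⊤ := hc.2 _ (lt_of_le_of_ne le_sup_left fun e => h (le_sup_right.trans e.ge))
  rw [eq_top_iff, ← hn]
  exact Subgroup.normalClosure_le_normal (Set.singleton_subset_iff.2 (mem_of_sup_eq_top h1 hw he))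

variable {y : ℕ → K} {T : G} {tl : ℕ} {subs : List (List ℕ)} {tab : ℕ → ℕ} {ψ : K →* Perm ℕ} {M β : ℕ}
  {nm sz : List ℕ}

theorem Cert.main (C : Cert ι y T tl subs tab ψ M β sz.length nm sz)
    (gen : ∀ S : Subgroup G, (∀ k, ι k ∈ S) → T ∈ S → S = ⊤) {H : Subgroup G} (hK : ∀ k, ι k ∈ H)
    (hs : ∀ w ∈ subs, ev (gD ι y T tl) w ∈ H) {A α : Type} [Group A] (ρ : G →* A) (J : A → α)
    (hJ : ∀ k a, ∀ h ∈ H, J (ρ (ι k) * a * ρ h) = J a)
    (hd : ∀ i < sz.length, ∀ j < i, J (ρ (ev (gD ι y T tl) (pw tab (getL nm 0 i)))) ≠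
      J (ρ (ev (gD ι y T tl) (pw tab (getL nm 0 j)))))
    (h1 : 1 < sz.length) (h2 : pw tab (getL nm 0 1) = [tl]) (h3 : getL sz 0 1 = M) (h4 : sz.sum ≠ 0) :
    Orbs ι (fun i => P (gD ι y T tl) (basePt H) tab (getL nm 0 i)) sz.length sz ∧ ρ.ker ≤ H ∧
      ∀ k, (∀ g, g⁻¹ * ι k * g ∈ H) → ψ k = 1 := by
  have key : ∀ H' : Subgroup G, H ≤ H' → H' ≤ H ⊔ ρ.ker → _ := fun H' e1 e2 =>
    C.orbs gen H' (fun k => e1 (hK k)) (fun w hw => e1 (hs w hw)) (smul_basePt_eq_iff H')
      (fun x => QuotientGroup.induction_on x fun g => ⟨g, congrArg _ (mul_one g)⟩) fun i hi j hj k h hh e => by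
        obtain ⟨a, ha, b, hb, rfl⟩ := Subgroup.mem_sup_of_normal_right.1 (e2 hh)
        have e3 := hJ k (ρ (ev (gD ι y T tl) (pw tab (getL nm 0 i)))) a ha
        rw [← mul_one (_ * ρ a), ← (MonoidHom.mem_ker.1 hb), ← map_mul, ← map_mul, ← map_mul, mul_assoc _ a, e] at e3
        rcases lt_trichotomy i j with h | h | h
        · exact absurd e3 (hd j hj i h)
        · exact h
        · exact absurd e3.symm (hd i hi j h)
  obtain ⟨o1, hc, tr⟩ := key H le_rfl le_sup_left
  refine ⟨o1, ?_, fun k hk => ?_⟩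
  · have e := Subgroup.relIndex_mul_index (le_sup_left : H ≤ H ⊔ ρ.ker)
    rw [o1.index, (key _ le_sup_left le_rfl).1.index, Nat.mul_eq_right h4, Subgroup.relIndex_eq_one] at e
    exact le_sup_right.trans e
  have := C.fin
  obtain ⟨u, v, hT⟩ := C.hT
  let θ := (MulAction.toPermHom G (G ⧸ H)).comp ι
  have hb : ∀ k, ι k • basePt H = basePt H := fun k => (smul_basePt_eq_iff H _).2 (hK k)
  have e1 : O ι (T⁻¹ • basePt H) = O ι (P (gD ι y T tl) (basePt H) tab (getL nm 0 1)) := by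
    rw [P, h2, ev_one, gD_t, hT, mul_smul, mul_smul, hb]
    ext x
    constructor
    · rintro ⟨k, rfl⟩; exact O_smul (O_smul (O_self ι _) u) k
    · rintro ⟨k, rfl⟩; exact O_smul (O_of_smul (O_self ι _)) k
  have e2 := card_fib θ (T⁻¹ • basePt H) (Z := O ι (T⁻¹ • basePt H)) fun z hz => hz
  rw [Set.eq_univ_of_forall (s := {k | θ k _ ∈ O ι (T⁻¹ • basePt H)}) fun k => ⟨k, rfl⟩, Set.ncard_univ, ← hc, e1,
    o1.size 1 h1, h3] at e2
  have e3 : {k | ψ k β = β} = {k | θ k (T⁻¹ • basePt H) = T⁻¹ • basePt H} :=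
    Set.eq_of_subset_of_ncard_le (fun c hc => by
      obtain ⟨c', h⟩ := C.hC c hc
      show ι c • T⁻¹ • basePt H = _
      rw [eq_inv_smul_iff, smul_smul, h, mul_smul, smul_inv_smul, hb])
      (Nat.eq_of_mul_eq_mul_right ((Nat.zero_le _).trans_lt C.hβ) e2).ge
  ext ω
  rcases le_or_gt M ω with hω | hω
  · exact C.fix k ω hω
  obtain ⟨a, rfl⟩ := tr ω hω
  have e4 : a⁻¹ * k * a ∈ {k | ψ k β = β} := by
    rw [e3]
    show ι (a⁻¹ * k * a) • T⁻¹ • basePt H = _
    rw [eq_inv_smul_iff, smul_smul, smul_smul, smul_basePt_eq_iff]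
    convert hk (ι a * T⁻¹) using 1
    simp [mul_assoc]
  have e5 : ψ (a⁻¹ * k * a) β = β := e4
  rw [map_mul, map_mul, map_inv, Perm.mul_apply, Perm.mul_apply, Perm.inv_eq_iff_eq] at e5
  exact e5

/-- The case `H = K`. -/
theorem Cert.main' (C : Cert ι y T tl subs tab ψ M β sz.length nm sz)
    (gen : ∀ S : Subgroup G, (∀ k, ι k ∈ S) → T ∈ S → S = ⊤) (hs : oneT tl (tl :: subs.flatten) = true)
    {A α : Type} [Group A] (ρ : G →* A) (J : A → α) (hJ : ∀ k a k', J (ρ (ι k) * a * ρ (ι k')) = J a)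
    (hd : ∀ i < sz.length, ∀ j < i, J (ρ (ev (gD ι y T tl) (pw tab (getL nm 0 i)))) ≠
      J (ρ (ev (gD ι y T tl) (pw tab (getL nm 0 j)))))
    (h2 : pw tab (getL nm 0 1) = [tl]) (h3 : sz.take 2 = [1, M]) (hψ : ∀ k, ψ k = 1 → k = 1) {n m : ℕ}
    (hn : sz.sum = n) (hM : 0 < M) (hm : Nat.card K = m) (hc : subS (testD n) sz.tail 1 = true) :
    Orbs ι (fun i => P (gD ι y T tl) (basePt ι.range) tab (getL nm 0 i)) sz.length sz ∧ ι.range.index = n ∧
      Function.Injective ρ ∧ Function.Injective ι ∧ Nat.card ι.range = m ∧ Nat.card G = m * n ∧ IsCoatom ι.range ∧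
      ∀ N : Subgroup G, N.Normal → N ≤ ι.range → N = ⊥ := by
  obtain ⟨ns, rfl⟩ : ∃ ns, sz = 1 :: M :: ns := ⟨sz.drop 2, by rw [← List.take_append_drop 2 sz, h3]; simp⟩
  have hn1 : 1 < n := by rw [← hn, List.sum_cons, List.sum_cons]; omega
  obtain ⟨o, h4, h5⟩ := C.main gen (H := ι.range) (fun k => ⟨k, rfl⟩) (fun w hw => ⟨ev y w, (ev_gD fun x hx => by
      have e : oneT tl (tl :: subs.flatten) = allL subs.flatten fun z => iteB (Nat.beq z tl) false true := by
        show iteB (Nat.beq tl tl) _ _ = _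
        rw [Nat.beq_refl]; rfl
      have := allL_spec (e ▸ hs) x (List.mem_flatten.2 ⟨w, hw, hx⟩)
      exact ne_of_beq fun e => by rw [e] at this; exact Bool.false_ne_true this).symm⟩) ρ J
    (by rintro k a _ ⟨k', rfl⟩; exact hJ k a k') hd (by simp) h2 rfl (by omega)
  have core : ∀ N : Subgroup G, N.Normal → N ≤ ι.range → N = ⊥ := fun N hN hle => eq_bot_iff.2 fun a ha => by
    obtain ⟨k, rfl⟩ := hle ha
    rw [hψ k (h5 k fun g => hle (hN.conj_mem' _ ha g)), map_one]; exact Subgroup.one_mem _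
  have hι : Function.Injective ι := (injective_iff_map_eq_one ι).2 fun k hk => hψ k (h5 k fun g => by
    rw [hk, mul_one, inv_mul_cancel]; exact Subgroup.one_mem _)
  have hi := o.index.trans hn
  have hc' := (Nat.card_congr (MonoidHom.ofInjective hι).toEquiv).symm.trans hm
  refine ⟨o, hi, (MonoidHom.ker_eq_bot_iff ρ).1 (core _ inferInstance h4), hι, hc', ?_,
    Orbs.isCoatom (ns := M :: ns) o (fun k => ⟨k, rfl⟩) ?_ hi hn1 hc, core⟩
  · rw [← hc', ← hi, Subgroup.card_mul_index]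
  · show P _ _ _ (getL nm 0 0) = _
    rw [C.nm0, P_zero]

/-! ### The hypotheses -/

variable {φ : K →* Perm ℕ} {N : ℕ} {B : List ℕ} {act : ℕ → ℕ → ℕ}

noncomputable def chkIv (act : ℕ → ℕ → ℕ) (B : List ℕ) (tl ivc : ℕ) : Bool :=
  allN 63 fun x => iteB (Nat.beq x tl) true (andB (iteB (Nat.beq (tb ivc x) tl) false true)
    (allL B fun b => Nat.beq (runA act [x, tb ivc x] b) b))

theorem hyp_inv (pa : PtAct φ N B y act) {ivc : ℕ} (h : chkIv act B tl ivc = true) :
    ∀ x < 63, x ≠ tl → tb ivc x ≠ tl ∧ y (tb ivc x) * y x = 1 := by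
  intro x hx e
  have h1 := allN_spec h x hx
  rw [iteB_eq, if_neg fun h => e (Nat.eq_of_beq_eq_true h), andB_eq_true] at h1
  refine ⟨ne_of_beq fun e => by rw [e] at h1; exact Bool.false_ne_true h1.1, ?_⟩
  rw [← ev_two]
  exact pa.rels (ws := [[x, tb ivc x]]) ((andB_eq_true _ _).2 ⟨h1.2, rfl⟩) _ List.mem_cons_self

/-- Pairs of words moved across `T`. -/
def CommP (ι : K →* G) (y : ℕ → K) (T : G) (us vs : List (List ℕ)) : Prop :=
  ∀ i, T * ι (renG y us i) = ι (renG y vs i) * T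

theorem commP_nil : CommP ι y T [] [] := fun _ => by simp [renG]

theorem CommP.cons {us vs : List (List ℕ)} (h : CommP ι y T us vs) {u v : List ℕ}
    (h1 : T * ι (ev y u) = ι (ev y v) * T) : CommP ι y T (u :: us) (v :: vs) := fun i => by
  cases i with
  | zero => exact h1
  | succ i => exact h i

theorem CommP.word {us vs : List (List ℕ)} (h : CommP ι y T us vs) (w : List ℕ) :
    T * ι (ev (renG y us) w) = ι (ev (renG y vs) w) * T := by
  induction w with
  | nil => simp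
  | cons x w ih => rw [ev_cons, ev_cons, map_mul, map_mul, ← mul_assoc, ih, mul_assoc, h x, mul_assoc]

/-- Add the inverse of the pair `i`. -/
theorem CommP.inv (pa : PtAct φ N B y act) {us vs : List (List ℕ)} (h : CommP ι y T us vs) (i : ℕ) {u v : List ℕ}
    (hc : allL [getL us [] i ++ u, getL vs [] i ++ v] (fun w => allL B fun b => Nat.beq (runA act w b) b) = true) :
    CommP ι y T (u :: us) (v :: vs) := by
  have h1 := pa.rels hc _ List.mem_cons_self
  have h2 := pa.rels hc _ (List.mem_cons_of_mem _ List.mem_cons_self)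
  rw [ev_append] at h1 h2
  refine h.cons ?_
  rw [eq_inv_of_mul_eq_one_left h1, eq_inv_of_mul_eq_one_left h2, map_inv, map_inv, mul_inv_eq_iff_eq_mul,
    mul_assoc, eq_inv_mul_iff_mul_eq]
  exact (h i).symm

noncomputable def chkCm (act : ℕ → ℕ → ℕ) (B : List ℕ) (sgc : ℕ) (us vs ws : List (List ℕ)) : Bool :=
  andB (Nat.beq (Nat.shiftRight sgc 378) 0) (allN 63 fun x => iteB (Nat.blt 0 (tb sgc x))
    (allL B fun b => andB (Nat.beq (runA (renA act us) (getL ws [] x) b) (act x b))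
      (Nat.beq (runA (renA act vs) (getL ws [] x) b) (act (sgm sgc x) b))) true)

theorem CommP.comm (pa : PtAct φ N B y act) {us vs ws : List (List ℕ)} (h : CommP ι y T us vs) {sgc : ℕ}
    (hc : chkCm act B sgc us vs ws = true) : ∀ x, 0 < tb sgc x → T * ι (y x) = ι (y (sgm sgc x)) * T := by
  intro x hx
  rw [chkCm, andB_eq_true] at hc
  have hx' : x < 63 := by
    by_contra e
    have e1 : sgc >>> 378 = 0 := Nat.eq_of_beq_eq_true hc.1
    have e2 : sgc >>> (6 * x) = 0 := by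
      rw [show 6 * x = 378 + (6 * x - 378) by omega, Nat.shiftRight_add, e1, Nat.zero_shiftRight]
    have e3 : tb sgc x = sgc >>> (6 * x) &&& 63 := rfl
    rw [e3, e2, Nat.zero_and] at hx
    exact lt_irrefl _ hx
  have h1 := allN_spec hc.2 x hx'
  rw [iteB_eq, if_pos (Nat.blt_eq ▸ hx)] at h1
  have key : ∀ (ts : List (List ℕ)) (z : ℕ), (∀ b ∈ B, runA (renA act ts) (getL ws [] x) b = act z b) →
      ev (renG y ts) (getL ws [] x) = y z := fun ts z h => by
    rw [← inv_mul_eq_one]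
    refine pa.ext _ fun b hb hb' => ?_
    rw [map_mul, map_inv, Perm.mul_apply, Perm.inv_eq_iff_eq, (pa.ren ts).run _ b hb', pa.app z b hb', h b hb]
  rw [← key us x fun b hb => Nat.eq_of_beq_eq_true ((andB_eq_true _ _).1 (allL_spec h1 b hb)).1,
    ← key vs _ fun b hb => Nat.eq_of_beq_eq_true ((andB_eq_true _ _).1 (allL_spec h1 b hb)).2]
  exact h.word _

theorem hC_of_comm {sgc : ℕ} (h : ∀ x, 0 < tb sgc x → T * ι (y x) = ι (y (sgm sgc x)) * T) {xs : List ℕ}
    (hx : ∀ x ∈ xs, 0 < tb sgc x) {k : K} (hk : k ∈ genL y xs) : ∃ k', T * ι k = ι k' * T := by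
  induction hk using Subgroup.closure_induction with
  | mem a ha => obtain ⟨x, h1, rfl⟩ := ha; exact ⟨_, h x (hx x h1)⟩
  | one => exact ⟨1, by simp⟩
  | mul a b _ _ ha hb =>
    obtain ⟨a', ha⟩ := ha
    obtain ⟨b', hb⟩ := hb
    exact ⟨a' * b', by rw [map_mul, map_mul, ← mul_assoc, ha, mul_assoc, hb, mul_assoc]⟩
  | inv a _ ha =>
    obtain ⟨a', ha⟩ := ha
    exact ⟨a'⁻¹, by rw [map_inv, map_inv, mul_inv_eq_iff_eq_mul, mul_assoc, eq_inv_mul_iff_mul_eq, ha]⟩

/-- The word `h₁ t h₂ t …`. -/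
def flatT (tl : ℕ) (r : List (List ℕ)) : List ℕ := r.flatMap fun h => h ++ [tl]

theorem relE_eq {r : List (List ℕ)} (h : ∀ s ∈ r, ∀ x ∈ s, x ≠ tl) : relE ι y T r = ev (gD ι y T tl) (flatT tl r) := by
  induction r with
  | nil => rfl
  | cons s r ih =>
    rw [relE, ih fun s hs => h s (List.mem_cons_of_mem _ hs), flatT, flatT, List.flatMap_cons, ev_append, ev_append,
      ev_one, gD_t, ev_gD (h s List.mem_cons_self), mul_assoc]

theorem rel_of_rot {rels bs : List (List ℕ)} {g : ℕ → G} (hb : ∀ w ∈ bs, ev g w = 1)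
    (hc : (rels.all fun r => bs.any fun b => (List.range b.length).any fun k => b.drop k ++ b.take k == r) = true) :
    ∀ r ∈ rels, ev g r = 1 := by
  simp only [List.all_eq_true, List.any_eq_true, beq_iff_eq] at hc
  intro r hr
  obtain ⟨b, h1, k, -, rfl⟩ := hc r hr
  exact ev_rot (by rw [List.take_append_drop]; exact hb b h1)

theorem hyp_rel {rels : List (List (List ℕ))} (h1 : (rels.all fun r => r.all fun s => s.all fun x => x != tl) = true)
    (h2 : ∀ w ∈ rels.map (flatT tl), ev (gD ι y T tl) w = 1) : ∀ r ∈ rels, relE ι y T r = 1 := by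
  simp only [List.all_eq_true, bne_iff_ne] at h1
  exact fun r hr => (relE_eq (h1 r hr)).trans (h2 _ (List.mem_map_of_mem hr))

/-- Words in the letters up to `tl`, through words in other letters `g`. -/
theorem ev_gD_ren {g : ℕ → G} {ren : List (List ℕ)} (h1 : ∀ x < tl, ι (y x) = renG g ren x) (h2 : T = renG g ren tl)
    {w : List ℕ} (hw : ∀ x ∈ w, x < tl + 1) : ev (gD ι y T tl) w = ev g (renW ren w) := by
  rw [← ev_renG]
  refine ev_congr fun x hx => ?_
  rcases Nat.lt_succ_iff_lt_or_eq.1 (hw x hx) with h | rfl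
  · rw [gD_k h.ne, h1 x h]
  · rw [gD_t, h2]

end Cfsg.Agent.Spor.Dce
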