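import Cfsg.Agent.Spor.Dce3
import Cfsg.Agent.Spor.BigMat
import Cfsg.Agent.Known.Cover

/-! Glue for the double coset enumerations (helper23): chains with words (`BaseGe.stepW`), tables computed from networks
(`ptAct_ren`), stabilisers by counting (`stab_le`), free reduction (`rels_of_fred`), big matrix representations
(`BRep`). -/

namespace Cfsg.Agent.Spor

open Equiv

theorem BaseGe.stepW {nets : List Net} {N L : ℕ} (hok : netsOk N nets = true) {xs ys : List (List ℕ)}
    {b n m : ℕ} {B : List ℕ} (h : BaseGe (genW (PP nets) ys) m B) (defs : List (List ℕ)) (prog : List ℕ)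
    (hc : andB (ys == defs.map (renW xs)) (andB (chkClosed nets ys (Nat.shiftLeft 1 b))
      (andB (chkPop L (orbRun nets xs prog (Nat.shiftLeft 1 b)) n) (Nat.blt 0 n))) = true) :
    BaseGe (genW (PP nets) xs) (n * m) (b :: B) := by
  simp only [andB_eq_true, beq_iff_eq] at hc
  refine h.step ?_ (fun a ha => fix_of_chkClosed hok hc.2.1 ha) ((orbSub_base _ b).run hok (prog := prog) ?_)
    (ncard_of_chkPop hc.2.2.1) (Dce.blt_spec hc.2.2.2)
  · rw [hc.1, ← genW_renG]
    exact genW_le fun w _ => ev_mem _ _ fun x _ => renG_mem _ _ x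
  · rw [chkOrb, Nat.beq_eq]; exact Nat.and_self _

theorem BaseGe.cardGe {S : Subgroup (Perm ℕ)} {m : ℕ} {B : List ℕ} (h : BaseGe S m B) : CardGe S m :=
  fun hf => (h hf).1

/-- The formal inverse of a word. -/
noncomputable def invWd (iv w : List ℕ) : List ℕ :=
  List.rec (motive := fun _ => List ℕ → List ℕ) (fun acc => acc) (fun x _ ih acc => ih (getL iv 0 x :: acc)) w []

/-- `iv` gives the inverses of the letters below `nl`. -/
def InvOk {M : Type*} [Monoid M] (g : ℕ → M) (nl : ℕ) (iv : List ℕ) : Prop :=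
  ∀ x < nl, getL iv 0 x < nl ∧ g (getL iv 0 x) * g x = 1

theorem invOk_of_rels {M : Type*} [Monoid M] {g : ℕ → M} {rels : List (List ℕ)} (hg : ∀ r ∈ rels, ev g r = 1)
    {nl : ℕ} {iv : List ℕ}
    (hc : ((List.range nl).all fun x => iv.getD x 0 < nl && rels.contains [x, iv.getD x 0]) = true) :
    InvOk g nl iv := by
  simp only [List.all_eq_true, List.mem_range, Bool.and_eq_true, decide_eq_true_eq, List.contains_iff_mem] at hc
  intro x hx
  rw [getL_eq_getD]
  exact ⟨(hc x hx).1, by simpa using hg _ (hc x hx).2⟩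

theorem InvOk.invWd {M : Type*} [Monoid M] {g : ℕ → M} {nl : ℕ} {iv : List ℕ} (h : InvOk g nl iv) {w : List ℕ}
    (hw : ∀ x ∈ w, x < nl) : (∀ x ∈ invWd iv w, x < nl) ∧ ev g (invWd iv w) * ev g w = 1 := by
  suffices ∀ acc : List ℕ, (∀ x ∈ acc, x < nl) → (∀ x ∈ (List.rec (motive := fun _ => List ℕ → List ℕ) (fun acc => acc)
      (fun x _ ih acc => ih (getL iv 0 x :: acc)) w acc : List ℕ), x < nl) ∧
      ev g (List.rec (motive := fun _ => List ℕ → List ℕ) (fun acc => acc)
      (fun x _ ih acc => ih (getL iv 0 x :: acc)) w acc) * ev g w = ev g acc from this [] (by simp)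
  induction w with
  | nil => exact fun acc h => ⟨h, mul_one _⟩
  | cons x w ih =>
    intro acc ha
    obtain ⟨h1, h2⟩ := h x (hw x List.mem_cons_self)
    obtain ⟨h3, h4⟩ := ih (fun z hz => hw z (List.mem_cons_of_mem _ hz)) (getL iv 0 x :: acc)
      (List.forall_mem_cons.2 ⟨h1, ha⟩)
    exact ⟨h3, by rw [ev_cons, ← mul_assoc]; exact (congrArg (· * g x) h4).trans (by rw [ev_cons, mul_assoc, h2, mul_one])⟩

/-- Free reduction. -/
def fred (iv : List ℕ) : List ℕ → List ℕ
  | [] => []
  | x :: w => if (fred iv w).head? = some (iv.getD x 0) then (fred iv w).tail else x :: fred iv w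

theorem InvOk.fred {M : Type*} [Monoid M] {g : ℕ → M} {nl : ℕ} {iv : List ℕ} (h : InvOk g nl iv) {w : List ℕ}
    (hw : ∀ x ∈ w, x < nl) : ev g (fred iv w) = ev g w := by
  induction w with
  | nil => rfl
  | cons x w ih =>
    rw [Spor.fred, ev_cons, ← ih fun z hz => hw z (List.mem_cons_of_mem _ hz)]
    split_ifs with e
    · rw [← List.cons_head?_tail e, ev_cons, mul_assoc, ← getL_eq_getD, (h x (hw x List.mem_cons_self)).2, mul_one]; rfl
    · rfl

theorem InvOk.rels {M : Type*} [Monoid M] {g : ℕ → M} {nl : ℕ} {iv : List ℕ} (h : InvOk g nl iv)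
    {bs rels : List (List ℕ)} (hb : ∀ r ∈ bs, ev g r = 1) (hl : chkLet (List.range nl) (bs ++ rels) = true)
    (hc : (rels.all fun r => ([] :: bs.map (Spor.fred iv)).contains (Spor.fred iv r)) = true) :
    ∀ r ∈ rels, ev g r = 1 := by
  simp only [List.all_eq_true, List.contains_iff_mem, List.mem_cons, List.mem_map] at hc
  intro r hr
  rw [← h.fred (lt_of_chkLet hl r (List.mem_append_right _ hr))]
  rcases hc r hr with e | ⟨b, h1, e⟩
  · rw [e]; rfl
  · rw [← e, h.fred (lt_of_chkLet hl b (List.mem_append_left _ h1)), hb b h1]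

variable {G : Type} [Group G] {g : ℕ → G} {nets : List Net} {N nl : ℕ} {φ : G →* Perm ℕ}

/-- The table of the letter `x`, computed from the networks. -/
noncomputable def tabR (nets : List Net) (N L : ℕ) (iv : List ℕ) (ren : List (List ℕ)) (x : ℕ) : ℕ → ℕ :=
  Known.get2 L (Known.tabW nets N L L (invWd iv (getL ren [] x)))

theorem ptAct_ren (R : PermRep g nets N nl φ) {iv : List ℕ} (hi : InvOk g nl iv) {ren : List (List ℕ)}
    (hr : chkLet (List.range nl) ren = true) {L : ℕ} (hN : N ≤ 2 ^ L) (hL : 0 < L) {B : List ℕ}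
    (hB : ∀ a, (∀ b ∈ B, φ a b = b) → a = 1) (hB' : ∀ b ∈ B, b < N) :
    PtAct φ N B (renG g ren) (tabR nets N L iv ren) := by
  refine ⟨fun a _ h => R.lt a h, fun j i hi' => ?_, fun a h => hB a fun b hb => h b hb (hB' b hb)⟩
  obtain ⟨h1, h2⟩ := hi.invWd (getL_prop (p := fun w => ∀ x ∈ w, x < nl) ren [] j (by simp) (lt_of_chkLet hr))
  rw [tabR, Known.get2_eq, Known.get_tabW R.ok hN le_rfl hL (Nat.sub_add_cancel (Nat.two_pow_pos L)) _ hi',
    ← R.map_ev h1, ← map_inv, inv_eq_of_mul_eq_one_right h2]; rfl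

theorem PermRep.congr (R : PermRep g nets N nl φ) {g' : ℕ → G} (h : ∀ x < nl, g' x = g x) : PermRep g' nets N nl φ :=
  ⟨R.ok, fun x hx => by rw [h x hx, R.hφ x hx], eq_top_iff.2 (R.top.ge.trans (genL_le fun x hx => by
    rw [← h x (List.mem_range.1 hx)]; exact mem_genL _ hx))⟩

theorem renG_append (g : ℕ → G) {ren : List (List ℕ)} (more : List (List ℕ)) {x : ℕ} (hx : x < ren.length) :
    renG g (ren ++ more) x = renG g ren x := by
  rw [renG, renG, getL_eq_getD, getL_eq_getD, List.getD_append _ _ _ _ hx]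

theorem PermRep.stab_le (R : PermRep g nets N nl φ) {b m : ℕ} (ht : Trans φ N b) {C : Subgroup G}
    (hf : ∀ c ∈ C, φ c b = b) (hc : Nat.card G = m * N) (hm : 0 < m) (hge : CardGe C m) : IsStab φ C b := by
  have hN : 0 < N := (Nat.zero_le _).trans_lt ht.1
  have : Finite G := Nat.finite_of_card_ne_zero (by rw [hc]; positivity)
  let S := (MulAction.stabilizer (Perm ℕ) b).comap φ
  have hS : IsStab φ S b := fun a => Iff.rfl
  have h1 := S.card_mul_index
  rw [R.index_eq hS ht, hc] at h1
  have h2 : C = S := Subgroup.eq_of_le_of_card_ge (fun c h => hf c h)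
    ((Nat.eq_of_mul_eq_mul_right hN h1).le.trans (hge inferInstance))
  rwa [h2]

theorem CardGe.of_map {G' : Type*} [Group G'] (f : G →* G') {C : Subgroup G} {m : ℕ} (h : CardGe (C.map f) m) :
    CardGe C m := fun _ =>
  have hs := f.subgroupMap_surjective C
  (h (Finite.of_surjective _ hs)).trans (Nat.card_le_card_of_surjective _ hs)

/-- A second action whose stabiliser fixes a point of a faithful transitive action is faithful. -/
theorem faithful_of_stab (R : PermRep g nets N nl φ) (hinj : Function.Injective φ) {b : ℕ} (ht : Trans φ N b)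
    {ψ : G →* Perm ℕ} {β : ℕ} (h : ∀ c, ψ c β = β → φ c b = b) (k : G) (hk : ψ k = 1) : k = 1 := by
  apply hinj
  rw [map_one]
  ext i
  rcases le_or_gt N i with hi | hi
  · exact R.fix k hi
  obtain ⟨a, rfl⟩ := ht.2 i hi
  have := h (a⁻¹ * k * a) (by rw [map_mul, map_mul, hk, mul_one, ← map_mul, inv_mul_cancel, map_one]; rfl)
  rw [map_mul, map_mul, map_inv, Perm.mul_apply, Perm.mul_apply, Perm.inv_eq_iff_eq] at this
  exact this

theorem permRep_of_lifts {rels : List (List ℕ)} (h : Known.Lifts g nl rels) (top : genL g (List.range nl) = ⊤)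
    (ok : netsOk N nets = true) (hP : ∀ r ∈ rels, ev (PP nets) r = 1) : ∃ ψ, PermRep g nets N nl ψ := by
  obtain ⟨ψ, h1⟩ := h _ _ hP
  exact ⟨ψ, ok, h1, top⟩

/-- The reversed network. -/
noncomputable def Net.rev (n : Net) : Net :=
  Net.rec (motive := fun _ => Net → Net) (fun acc => acc) (fun d m _ ih acc => ih (Net.cons d m acc)) n Net.nil

/-- `ρ` is given by big matrices; the letter `x` is the word `ren[x]` in the matrices `As`. -/
structure BRep (D : BP) (As : List ℕ) (nb : ℕ) (iv : List ℕ) (g : ℕ → G) (nf : ℕ) (ren : List (List ℕ))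
    (ρ : G →* (Matrix (Fin D.K) (Fin D.K) (ZMod D.p))ˣ) : Prop where
  ok : D.Ok As
  inv : InvOk (D.MB As) nb iv
  lt : chkLet (List.range nb) ren = true
  map : ∀ w : List ℕ, (∀ x ∈ w, x < nf) → (ρ (ev g w) : Matrix _ _ _) = ev (D.MB As) (renW ren w)

theorem lt_renW {nb : ℕ} {ren : List (List ℕ)} (h : chkLet (List.range nb) ren = true) (w : List ℕ) :
    ∀ x ∈ renW ren w, x < nb := by
  intro x hx
  obtain ⟨z, -, hz⟩ := List.mem_flatMap.1 hx
  rw [← getL_eq_getD] at hz
  exact getL_prop (p := fun w => ∀ x ∈ w, x < nb) ren [] z (by simp) (lt_of_chkLet h) x hz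

theorem LtOk.bRep {α : Type} [DecidableEq α] {edges : List (α × ℕ × α)} {extra : List (FreeGroup α)}
    {lts : List (α × Bool)} (h : LtOk edges extra lts) {rels : List (List ℕ)} (hr : relsP edges extra lts rels = true)
    {D : BP} {As iv : List ℕ} {nb : ℕ} (ok : D.Ok As) (hi : InvOk (D.MB As) nb iv) {ren : List (List ℕ)}
    (hl : chkLet (List.range nb) ren = true) (hP : ∀ r ∈ rels.map (renW ren), ev (D.MB As) r = 1) :
    ∃ ρ, BRep D As nb iv (letG (RS edges extra) lts) lts.length ren ρ := by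
  have hu : ∀ w, (ev (uG (D.MB As)) (renW ren w)).1 = ev (D.MB As) (renW ren w) := fun w =>
    coe_ev_uG fun x hx => IsUnit.of_mul_eq_one_right _ (hi x (lt_renW hl w x hx)).2
  have hP' : ∀ r ∈ rels, ev (renG (uG (D.MB As)) ren) r = 1 := renG_rels fun r hr => by
    obtain ⟨s, hs, rfl⟩ := List.mem_map.1 hr
    exact Units.ext ((hu s).trans (hP _ hr))
  refine ⟨h.toHom hr hP', ok, hi, hl, fun w hw => ?_⟩
  rw [map_ev, ev_congr fun x hx => h.toHom_letG hr hP' (hw x hx), ev_renG, hu]

namespace BRep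
variable {D : BP} {As iv : List ℕ} {nb nf : ℕ} {ren : List (List ℕ)}
  {ρ : G →* (Matrix (Fin D.K) (Fin D.K) (ZMod D.p))ˣ} (h : BRep D As nb iv g nf ren ρ)
include h

theorem commute {E : ℕ} (hE : D.Good E) {ws : List (List ℕ)} (hl : chkLet (List.range nf) ws = true)
    (hc : allL ws (fun w => allL (renW ren w) fun x =>
      Nat.beq (D.mulB (getL As 0 x) E) (D.mulB E (getL As 0 x))) = true) :
    ∀ a ∈ genW g ws, Commute (ρ a : Matrix _ _ _) (D.bM E) := by
  intro a ha
  induction ha using Subgroup.closure_induction with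
  | mem a ha =>
    obtain ⟨w, hw, rfl⟩ := ha
    rw [h.map w (lt_of_chkLet hl w hw)]
    have h1 := allL_spec (allL_spec hc w hw)
    generalize renW ren w = u at h1
    induction u with
    | nil => exact Commute.one_left _
    | cons x u ih =>
      refine (ih fun z hz => h1 z (List.mem_cons_of_mem _ hz)).mul_left ?_
      have := congrArg D.bM (Nat.eq_of_beq_eq_true (h1 x List.mem_cons_self))
      rwa [(BP.mulB_spec h.ok.ok (h.ok.good x) hE).2, (BP.mulB_spec h.ok.ok hE (h.ok.good x)).2] at this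
  | one => rw [map_one]; exact Commute.one_left _
  | mul a b _ _ ha hb => rw [map_mul]; exact ha.mul_left hb
  | inv a _ ha => rw [map_inv]; exact ha.units_inv_left

theorem invJ {E : ℕ} (hE : D.Good E) (m : ℕ) {w : List ℕ} (hw : allL w (fun x => Nat.blt x nf) = true) :
    invJ ZMod.val (D.bM E) m (ρ (ev g w)) = D.trJ As E m (renW ren w) (invWd iv (renW ren w)) := by
  have h1 := h.map w fun x hx => Dce.blt_spec (allL_spec hw x hx)
  refine (h.ok.trJ hE m h1 ?_).symm
  rw [eq_comm, ← Units.mul_eq_one_iff_eq_inv, h1]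
  exact (h.inv.invWd (lt_renW h.lt w)).2

theorem rels (hinj : Function.Injective ρ) {rels : List (List ℕ)} (hl : chkLet (List.range nf) rels = true)
    (hP : ∀ r ∈ rels.map (renW ren), ev (D.MB As) r = 1) : ∀ r ∈ rels, ev g r = 1 := fun r hr =>
  hinj (Units.ext (by rw [h.map r (lt_of_chkLet hl r hr), hP _ (List.mem_map_of_mem hr), map_one]; rfl))

theorem ne_one {w : List ℕ} (hw : allL w (fun x => Nat.blt x nf) = true) {Y : ℕ} (hY : D.Good Y)
    (hc : Nat.beq (D.trB (D.appB As (renW ren w) Y) % D.p) (D.trB Y % D.p) = false) : ρ (ev g w) ≠ 1 := by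
  intro e
  have h1 := (h.ok.appB (renW ren w) hY).2
  rw [← h.map w fun x hx => Dce.blt_spec (allL_spec hw x hx), e, Units.val_one, one_mul] at h1
  have h2 := congrArg Matrix.trace h1
  rw [← BP.Ok.trB, ← BP.Ok.trB, ZMod.natCast_eq_natCast_iff'] at h2
  rw [h2, Nat.beq_refl] at hc
  exact Bool.false_ne_true hc.symm

end BRep

theorem ne_of_vals {α : Type} [DecidableEq α] {f : ℕ → α} {vals : List α} (h : ∀ i < vals.length, some (f i) = vals[i]?)
    (hn : vals.Nodup) : ∀ i < vals.length, ∀ j < i, f i ≠ f j := by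
  intro i hi j hj e
  have := (List.getElem?_inj hi hn).1 ((h i hi).symm.trans ((congrArg some e).trans (h j (hj.trans hi))))
  omega

end Cfsg.Agent.Spor
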