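import Cfsg.Agent.Spor.Dce5

/-! Invariants of double cosets from words in `E` and `a F a⁻¹` (helper23). -/

namespace Cfsg.Agent.Spor

open Matrix

section
variable {n R : Type} [Fintype n] [DecidableEq n] [CommRing R]

/-- The letters: the matrices `Es`, then the conjugates of the matrices `Fs`. -/
noncomputable def cjL (Es Fs : List (Matrix n n R)) (a : (Matrix n n R)ˣ) (x : ℕ) : Matrix n n R :=
  getL (Es ++ Fs.map fun F : Matrix n n R => (a : Matrix n n R) * F * (a⁻¹ : (Matrix n n R)ˣ)) 0 x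

open Classical in
noncomputable def invT {α : Type} (f : R → α) (Es Fs : List (Matrix n n R)) (ts : List (Ex × Ex))
    (a : (Matrix n n R)ˣ) : List (Bool × α) :=
  ts.map fun t => (decide (ev (cjL Es Fs a) t.1.w = ev (cjL Es Fs a) t.2.w), f (ev (cjL Es Fs a) t.1.w).trace)

theorem invT_mul {α : Type} (f : R → α) {Es Fs : List (Matrix n n R)} (ts : List (Ex × Ex)) {k h : (Matrix n n R)ˣ}
    (hk : ∀ E ∈ Es, Commute (k : Matrix n n R) E) (hh : ∀ F ∈ Fs, Commute (h : Matrix n n R) F)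
    (a : (Matrix n n R)ˣ) : invT f Es Fs ts (k * a * h) = invT f Es Fs ts a := by
  have e1 : (Es ++ Fs.map fun F => ((k * a * h : (Matrix n n R)ˣ) : Matrix n n R) * F * ((k * a * h)⁻¹ : (Matrix n n R)ˣ)) =
      (Es ++ Fs.map fun F => (a : Matrix n n R) * F * (a⁻¹ : (Matrix n n R)ˣ)).map
        fun X => (k : Matrix n n R) * X * (k⁻¹ : (Matrix n n R)ˣ) := by
    rw [List.map_append, List.map_map]
    refine congrArg₂ _ ?_ (List.map_congr_left fun F hF => ?_)
    · conv_lhs => rw [← List.map_id Es]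
      exact List.map_congr_left fun E hE => by rw [(hk E hE).eq, Units.mul_inv_cancel_right, id]
    · simp only [_root_.mul_inv_rev, Units.val_mul, mul_assoc, Function.comp]
      rw [(hh F hF).left_comm, Units.mul_inv_cancel_left]
  have e2 : ∀ x, cjL Es Fs (k * a * h) x = k * cjL Es Fs a x * (k⁻¹ : (Matrix n n R)ˣ) := fun x => by
    rw [cjL, e1, cjL, getL_eq_getD, getL_eq_getD, ← List.getD_map (f := fun X => (k : Matrix n n R) * X * (k⁻¹ : (Matrix n n R)ˣ)),
      mul_zero, zero_mul]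
  have e3 : ∀ w, ev (cjL Es Fs (k * a * h)) w = k * ev (cjL Es Fs a) w * (k⁻¹ : (Matrix n n R)ˣ) := fun w => by
    induction w with
    | nil => simp
    | cons x w ih => rw [ev_cons, ev_cons, ih, e2]; simp only [mul_assoc, Units.inv_mul_cancel_left]
  refine List.map_congr_left fun t _ => ?_
  refine Prod.ext (Bool.eq_iff_iff.2 ?_) (by rw [e3, trace_units_conj])
  simp only [decide_eq_true_eq, e3, Units.mul_left_inj, Units.mul_right_inj]

end

noncomputable def seqM {β : Type} (g : ℕ → ℕ) (l : List ℕ) : (List ℕ → β) → β :=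
  List.rec (motive := fun _ => (List ℕ → β) → β) (fun k => k []) (fun x _ ih k => seq (g x) fun y => ih fun t => k (y :: t)) l

theorem seqM_eq {β : Type} (g : ℕ → ℕ) (l : List ℕ) (k : List ℕ → β) : seqM g l k = k (l.map g) := by
  induction l generalizing k with
  | nil => rfl
  | cons x l ih => exact (seq_eq _ fun y => seqM g l fun t => k (y :: t)).trans (ih _)

namespace BP
variable {D : BP}

theorem bM_inj (h : D.ok = true) {A B : ℕ} (hA : D.Good A) (hB : D.Good B) (e : D.bM A = D.bM B) : A = B := by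
  obtain ⟨hw, hp, -, -⟩ := ok_spec h
  have : ∀ k, dg D.w A k = dg D.w B k := fun k => by
    rcases Nat.lt_or_ge k (D.K * D.K) with hk | hk
    · have hK : 0 < D.K := Nat.pos_of_ne_zero fun e => by simp [e] at hk
      have := congrFun (congrFun e ⟨k % D.K, Nat.mod_lt _ hK⟩) ⟨k / D.K, Nat.div_lt_of_lt_mul hk⟩
      simp only [bM, of_apply, Nat.div_add_mod'] at this
      rwa [ZMod.natCast_eq_natCast_iff', Nat.mod_eq_of_lt (by have := (hA k).1; omega),
        Nat.mod_eq_of_lt (by have := (hB k).1; omega)] at this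
    · rw [(hA k).2 hk, (hB k).2 hk]
  refine Nat.eq_of_testBit_eq fun b => ?_
  have h1 := congrArg (·.testBit (b % D.w)) (this (b / D.w))
  simpa only [testBit_dg, Nat.div_add_mod, Nat.mod_lt b hw, decide_true, Bool.true_and] using h1

noncomputable def invB (D : BP) (As Es Fs : List ℕ) (ts : List (Ex × Ex)) (u v : List ℕ) : List (Bool × ℕ) :=
  seq (D.appB As v (D.idB D.K)) fun V => seqM (fun F => D.mulB (D.appB As u F) V) Fs fun Gs =>
    List.rec [] (fun t _ ih => seq (D.evE (Es ++ Gs) t.1) fun X =>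
      (Nat.beq X (D.evE (Es ++ Gs) t.2), Nat.mod (D.trB X) D.p) :: ih) ts

theorem Ok.invB {As Es Fs : List ℕ} (h : D.Ok As) (hI : D.Good (D.idB D.K)) (hE : ∀ E ∈ Es, D.Good E)
    (hF : ∀ E ∈ Fs, D.Good E) (ts : List (Ex × Ex)) {u v : List ℕ}
    {a : (Matrix (Fin D.K) (Fin D.K) (ZMod D.p))ˣ} (hu : (a : Matrix _ _ _) = ev (D.MB As) u)
    (hv : ((a⁻¹ : (Matrix (Fin D.K) (Fin D.K) (ZMod D.p))ˣ) : Matrix _ _ _) = ev (D.MB As) v) :
    D.invB As Es Fs ts u v = invT ZMod.val (Es.map D.bM) (Fs.map D.bM) ts a := by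
  rw [BP.invB, seq_eq, seqM_eq]
  set Gs := Fs.map fun F => D.mulB (D.appB As u F) (D.appB As v (D.idB D.K))
  have h1 := fun F hF' => mulB_spec h.ok (h.appB u (hF F hF')).1 (h.appB v hI).1
  have ok : D.Ok (Es ++ Gs) := ⟨h.ok, fun x => getL_prop _ 0 x good_zero (List.forall_mem_append.2
    ⟨hE, List.forall_mem_map.2 fun F hF' => (h1 F hF').1⟩)⟩
  have e : D.MB (Es ++ Gs) = cjL (Es.map D.bM) (Fs.map D.bM) a := funext fun x => by
    have e0 : D.bM 0 = 0 := by ext i j; simp [bM, dg_zero_left]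
    rw [MB, cjL, getL_eq_getD, getL_eq_getD, ← List.getD_map (f := D.bM), e0, List.map_append, List.map_map,
      List.map_map]
    refine congrArg (fun l => (Es.map D.bM ++ l).getD x 0) (List.map_congr_left fun F hF' => ?_)
    rw [Function.comp, Function.comp, (h1 F hF').2, (h.appB u (hF F hF')).2, (h.appB v hI).2, bM_idB h.ok, mul_one, hu, hv]
  rw [invT, ← e]
  induction ts with
  | nil => rfl
  | cons t ts ih =>
    rw [List.map_cons, ← ih, ← (ok.evE t.1).2, ← (ok.evE t.2).2, ← Ok.trB, ZMod.val_natCast]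
    refine (seq_eq _ _).trans (congrArg₂ _ (Prod.ext ?_ rfl) rfl)
    rw [Bool.eq_iff_iff]; simp only [decide_eq_true_eq]
    exact ⟨fun e => congrArg _ (Nat.eq_of_beq_eq_true e),
      fun e => bM_inj h.ok (ok.evE t.1).1 (ok.evE t.2).1 e ▸ Nat.beq_refl _⟩

end BP

theorem BRep.invT {G : Type} [Group G] {g : ℕ → G} {D : BP} {As iv : List ℕ} {nb nf : ℕ} {ren : List (List ℕ)}
    {ρ : G →* (Matrix (Fin D.K) (Fin D.K) (ZMod D.p))ˣ} (h : BRep D As nb iv g nf ren ρ) {Es Fs : List ℕ}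
    (hI : D.Good (D.idB D.K)) (hE : ∀ E ∈ Es, D.Good E) (hF : ∀ E ∈ Fs, D.Good E) (ts : List (Ex × Ex)) {w : List ℕ}
    (hw : allL w (fun x => Nat.blt x nf) = true) :
    invT ZMod.val (Es.map D.bM) (Fs.map D.bM) ts (ρ (ev g w)) =
      D.invB As Es Fs ts (renW ren w) (invWd iv (renW ren w)) := by
  have h1 := h.map w fun x hx => Dce.blt_spec (allL_spec hw x hx)
  refine (h.ok.invB hI hE hF ts h1 ?_).symm
  rw [eq_comm, ← Units.mul_eq_one_iff_eq_inv, h1]
  exact (h.inv.invWd (lt_renW h.lt w)).2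

/-- The representatives of the double cosets are separated by the invariants. -/
theorem BRep.sep {G K : Type} [Group G] [Group K] {g : ℕ → G} {D : BP} {As iv : List ℕ} {nb nf : ℕ}
    {ren : List (List ℕ)} {ρ : G →* (Matrix (Fin D.K) (Fin D.K) (ZMod D.p))ˣ} (h : BRep D As nb iv g nf ren ρ)
    {Es Fs : List ℕ} {mc : ℕ} (hE : allL (D.idB D.K :: Es ++ Fs) (D.okV mc) = true) (ts : List (Ex × Ex)) {ι : K →* G}
    {y : ℕ → K} {T : G} {tl : ℕ} {R : List (List ℕ)} (h1 : ∀ x < tl, ι (y x) = renG g R x) (h2 : T = renG g R tl)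
    (pw : ℕ → List ℕ) {vals : List (List (Bool × ℕ))}
    (hl : allN vals.length (fun i => andB (allL (pw i) fun x => Nat.blt x (tl + 1))
      (allL (renW R (pw i)) fun x => Nat.blt x nf)) = true)
    (hv : ∀ i < vals.length, some (D.invB As Es Fs ts (renW ren (renW R (pw i)))
      (invWd iv (renW ren (renW R (pw i))))) = vals[i]?) (hn : vals.Nodup) :
    ∀ i < vals.length, ∀ j < i, Spor.invT ZMod.val (Es.map D.bM) (Fs.map D.bM) ts (ρ (ev (Dce.gD ι y T tl) (pw i))) ≠
      Spor.invT ZMod.val (Es.map D.bM) (Fs.map D.bM) ts (ρ (ev (Dce.gD ι y T tl) (pw j))) := by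
  have hG := fun E hE' => BP.good_of_okV h.ok.ok (allL_spec hE E hE')
  refine ne_of_vals (fun i hi => ?_) hn
  have h3 := (andB_eq_true _ _).1 (allN_spec hl i hi)
  rw [Dce.ev_gD_ren h1 h2 fun x hx => Dce.blt_spec (allL_spec h3.1 x hx), h.invT (hG _ List.mem_cons_self)
    (fun E e => hG E (by simp [e])) (fun E e => hG E (by simp [e])) ts h3.2, hv i hi]

theorem BRep.commL {G : Type} [Group G] {g : ℕ → G} {D : BP} {As iv : List ℕ} {nb nf : ℕ}
    {ren : List (List ℕ)} {ρ : G →* (Matrix (Fin D.K) (Fin D.K) (ZMod D.p))ˣ} (h : BRep D As nb iv g nf ren ρ)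
    {Es : List ℕ} {mc : ℕ} (hE : allL Es (D.okV mc) = true) {ws : List (List ℕ)} (hl : chkLet (List.range nf) ws = true)
    (hc : allL Es (fun E => allL ws fun w => allL (renW ren w) fun x =>
      Nat.beq (D.mulB (getL As 0 x) E) (D.mulB E (getL As 0 x))) = true) {a : G} (ha : a ∈ genW g ws) :
    ∀ E ∈ Es.map D.bM, Commute (ρ a : Matrix _ _ _) E := List.forall_mem_map.2 fun E e =>
  h.commute (BP.good_of_okV h.ok.ok (allL_spec hE E e)) hl (allL_spec hc E e) a ha

end Cfsg.Agent.Spor
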