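import Cfsg.Agent.Spor.Dce6

/-! More tools for the double coset enumerations (helper23). -/

namespace Cfsg.Agent.Spor

open Matrix

variable {G K : Type} [Group G] [Group K] {g : ℕ → G}

theorem rels_of_hom {y : ℕ → K} {ι : K →* G} {jl rs : List (List ℕ)} {n : ℕ} (h : ∀ x < n, ι (y x) = renG g jl x)
    (hl : chkLet (List.range n) rs = true) (hr : ∀ r ∈ rs, ev y r = 1) : ∀ r ∈ rs.map (renW jl), ev g r = 1 :=
  List.forall_mem_map.2 fun r e => by
    rw [← ev_renG, ← ev_congr fun x hx => h x (lt_of_chkLet hl r e x hx), ← map_ev, hr r e, map_one]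

theorem cardLe_of_card {m : ℕ} (h : Nat.card G = m) (h0 : m ≠ 0) (S : Subgroup G) : CardLe S m :=
  have : Finite G := Nat.finite_of_card_ne_zero (h ▸ h0)
  ⟨inferInstance, (Subgroup.card_le_card_group S).trans h.le⟩

theorem gD_ren {ι : K →* G} {y : ℕ → K} {T : G} {tl : ℕ} {R : List (List ℕ)} (h1 : ∀ x < tl, ι (y x) = renG g R x)
    (h2 : T = renG g R tl) : ∀ x < tl + 1, Dce.gD ι y T tl x = renG g R x := fun x hx => by
  rcases Nat.lt_succ_iff_lt_or_eq.1 hx with h | rfl
  · rw [Dce.gD_k h.ne, h1 x h]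
  · rw [Dce.gD_t, h2]

theorem ncl_of_one {ren : List (List ℕ)} {r : List ℕ} {rs : List (List ℕ)}
    (h : Subgroup.normalClosure {ev g (renW ren r)} = ⊤) :
    Subgroup.normalClosure {a | ∃ s ∈ r :: rs, ev (renG g ren) s = a} = ⊤ :=
  eq_top_iff.2 (h.ge.trans (Subgroup.normalClosure_mono
    (Set.singleton_subset_iff.2 ⟨r, List.mem_cons_self, ev_renG _ _ _⟩)))

namespace BRep
variable {D : BP} {As iv : List ℕ} {nb nf : ℕ} {ren : List (List ℕ)}
  {ρ : G →* (Matrix (Fin D.K) (Fin D.K) (ZMod D.p))ˣ} (h : BRep D As nb iv g nf ren ρ)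
include h

/-- New letters. -/
theorem ren2 {g' : ℕ → G} {R R' : List (List ℕ)} {n : ℕ} (h1 : ∀ x < n, g' x = renG g R x)
    (hl : (chkLet (List.range nf) R && chkLet (List.range nb) R') = true)
    (hr : ∀ r ∈ (List.range n).map fun x => renW ren (R.getD x []) ++ invWd iv (R'.getD x []), ev (D.MB As) r = 1) :
    BRep D As nb iv g' n R' ρ := by
  rw [Bool.and_eq_true] at hl
  refine ⟨h.ok, h.inv, hl.2, fun w hw => ?_⟩
  induction w with
  | nil => simp [renW]
  | cons x w ih =>
    have hx := hw x List.mem_cons_self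
    have h2 := hr _ (List.mem_map_of_mem (List.mem_range.2 hx))
    have h3 := (h.inv.invWd (w := R'.getD x []) (getL_eq_getD R' [] x ▸
      getL_prop (p := fun w => ∀ x ∈ w, x < nb) R' [] x (by simp) (lt_of_chkLet hl.2))).2
    rw [ev_append] at h2
    rw [ev_cons, map_mul, Units.val_mul, ih fun z hz => hw z (List.mem_cons_of_mem _ hz), renW, renW, List.flatMap_cons,
      ev_append, h1 x hx, renG, h.map _ (getL_prop (p := fun w => ∀ x ∈ w, x < nf) R [] x (by simp) (lt_of_chkLet hl.1)),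
      getL_eq_getD, left_inv_eq_right_inv (mul_eq_one_comm.1 h3) h2]

theorem sep' {Es Fs : List ℕ} {mc : ℕ} (hE : allL (D.idB D.K :: Es ++ Fs) (D.okV mc) = true) (ts : List (Ex × Ex))
    (pw : ℕ → List ℕ) {vals : List (List (Bool × ℕ))}
    (hl : allN vals.length (fun i => allL (pw i) fun x => Nat.blt x nf) = true)
    (hv : ∀ i < vals.length, some (D.invB As Es Fs ts (renW ren (pw i)) (invWd iv (renW ren (pw i)))) = vals[i]?)
    (hn : vals.Nodup) : ∀ i < vals.length, ∀ j < i, Spor.invT ZMod.val (Es.map D.bM) (Fs.map D.bM) ts (ρ (ev g (pw i))) ≠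
      Spor.invT ZMod.val (Es.map D.bM) (Fs.map D.bM) ts (ρ (ev g (pw j))) := by
  have hG := fun E hE' => BP.good_of_okV h.ok.ok (allL_spec hE E hE')
  refine ne_of_vals (fun i hi => ?_) hn
  rw [h.invT (hG _ List.mem_cons_self) (fun E e => hG E (by simp [e])) (fun E e => hG E (by simp [e])) ts
    (allN_spec hl i hi), hv i hi]

end BRep

end Cfsg.Agent.Spor
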