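import Cfsg.Agent.Spor.Dce7

/-! Relators found by a double coset enumeration (helper23). -/

namespace Cfsg.Agent.Spor

open Equiv

variable {G K : Type} [Group G] [Group K]

theorem cardLe_range_of_ker (ι : K →* G) {m p : ℕ} (hp : p.Prime) (hc : Nat.card K = m * p) (h0 : m ≠ 0) {c : K}
    (h1 : c ≠ 1) (h2 : c ^ p = 1) (h3 : ι c = 1) : CardLe ι.range m := by
  have : Finite K := Nat.finite_of_card_ne_zero (by rw [hc]; exact mul_ne_zero h0 hp.ne_zero)
  have := Fact.mk hp
  refine ⟨Finite.of_surjective _ ι.rangeRestrict_surjective, ?_⟩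
  have h4 : p ∣ Nat.card ι.ker := by
    rw [← orderOf_eq_prime h2 h1, ← Subgroup.orderOf_mk c (show c ∈ ι.ker from h3)]; exact orderOf_dvd_natCard _
  have h5 := ι.ker.card_mul_index
  rw [Subgroup.index_ker, hc, mul_comm] at h5
  exact Nat.le_of_mul_le_mul_right ((Nat.mul_le_mul_left _ (Nat.le_of_dvd Nat.card_pos h4)).trans h5.le) hp.pos

theorem PtAct.top_of_words {φ : K →* Perm ℕ} {N n : ℕ} {B : List ℕ} {y : ℕ → K} {act : ℕ → ℕ → ℕ}
    (h : PtAct φ N B y act) (top : genL y (List.range n) = ⊤) {ws : List (List ℕ)} (cs : List (List ℕ))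
    (hc : allN n (fun x => allL B fun b => Nat.beq (runA act [x] b) (runA act (renW ws (getL cs [] x)) b)) = true) :
    genW y ws = ⊤ := by
  rw [eq_top_iff, ← top]
  refine genL_le fun x hx => ?_
  rw [← ev_one y x, h.eq (allN_spec hc x (List.mem_range.1 hx)), ← ev_renG]
  exact ev_mem _ _ fun z _ => getL_mem_genW y ws z

namespace Dce
variable {ι : K →* G} {y : ℕ → K} {T : G} {φ : K →* Perm ℕ} {N : ℕ} {act : ℕ → ℕ → ℕ} {B : List ℕ}
  {tl ivc sgc cw cm : ℕ} {sts : List ℕ} {rels : List (List (List ℕ))} {subs : List (List ℕ)} {tab : ℕ → ℕ}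

/-- A loop at the base point lies in every subgroup that contains `subs`. -/
theorem Hyp.mem (H : Hyp ι y T φ N act B tl ivc sgc sts rels) {n : ℕ}
    (hS : Steps (chkD tab act B tl ivc sgc cw cm sts rels subs) n) {S : Subgroup G}
    (hs : ∀ w ∈ subs, ev (gD ι y T tl) w ∈ S) (j : ℕ) {w : List ℕ}
    (hc : (decide (j < n) && fD (tab j) == 0 && fE (tab j) == 0 && decF (fW (tab j)) [] == w) = true) :
    ev (gD ι y T tl) w ∈ S := by
  simp only [Bool.and_eq_true, decide_eq_true_eq, beq_iff_eq] at hc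
  have := H.facts (tab := tab) (x0 := basePt S) (fun w hw => (smul_basePt_eq_iff _ _).2 (hs w hw)) hS j hc.1.1.1
  rwa [Fa, hc.1.1.2, hc.1.2, hc.2, P_zero, smul_basePt_eq_iff] at this

theorem Hyp.rels_comm (H : Hyp ι y T φ N act B tl ivc sgc sts rels) {xs : List ℕ}
    (hc : (xs.all fun x => x != tl && 0 < tb sgc x && sgm sgc x < 63 && sgm sgc x != tl) = true) :
    ∀ r ∈ xs.map fun x => [x, tl, tb ivc (sgm sgc x)] ++ sts, ev (gD ι y T tl) r = 1 := by
  simp only [List.all_eq_true, Bool.and_eq_true, bne_iff_ne, decide_eq_true_eq] at hc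
  refine List.forall_mem_map.2 fun x hx => ?_
  obtain ⟨⟨⟨h1, h2⟩, h3⟩, h4⟩ := hc x hx
  obtain ⟨h5, h6⟩ := H.inv _ h3 h4
  rw [ev_append, ev_cons, ev_cons, ev_one, gD_t, gD_k h1, gD_k h5, mul_assoc (ι _), H.comm x h2, ← mul_assoc (ι _),
    ← map_mul, h6, map_one, one_mul, H.invT]

theorem Hyp.rels_K (H : Hyp ι y T φ N act B tl ivc sgc sts rels) {ws : List (List ℕ)}
    (h1 : (ws.all fun w => w.all fun x => x != tl) = true)
    (hc : allL ws (fun w => allL B fun b => Nat.beq (runA act w b) b) = true) :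
    ∀ r ∈ ws, ev (gD ι y T tl) r = 1 := by
  simp only [List.all_eq_true, bne_iff_ne] at h1
  exact fun r hr => by rw [ev_gD (h1 r hr), H.pa.rels hc r hr, map_one]

theorem rels_ren {g : ℕ → G} {R ws : List (List ℕ)} (h1 : ∀ x < tl, ι (y x) = renG g R x) (h2 : T = renG g R tl)
    (hl : chkLet (List.range (tl + 1)) ws = true) (h : ∀ r ∈ ws, ev (gD ι y T tl) r = 1) :
    ∀ r ∈ ws, ev (renG g R) r = 1 := fun r hr => by
  rw [← h r hr]; exact ev_congr fun x hx => (gD_ren h1 h2 x (lt_of_chkLet hl r hr x hx)).symm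

end Dce

end Cfsg.Agent.Spor
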