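import Cfsg.Agent.Spor.MAct

/-! Target words of a double coset enumeration; rank invariants of double cosets (helper23). -/

namespace Cfsg.Agent.Spor

open Equiv

namespace Dce
variable {G K : Type} [Group G] [Group K] {ι : K →* G} {y : ℕ → K} {T : G} {φ : K →* Perm ℕ} {N : ℕ}
  {act : ℕ → ℕ → ℕ} {B : List ℕ} {tl ivc sgc cw cm : ℕ} {sts : List ℕ} {rels : List (List (List ℕ))}
  {subs : List (List ℕ)} {tab : ℕ → ℕ}

theorem relE_congr {ps : List (List ℕ × List ℕ)} (h : ∀ p ∈ ps, ev y p.1 = ev y p.2) :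
    relE ι y T (ps.map (·.1)) = relE ι y T (ps.map (·.2)) := by
  induction ps with
  | nil => rfl
  | cons p ps ih =>
    rw [List.map_cons, List.map_cons, relE, relE, ih fun q hq => h q (List.mem_cons_of_mem _ hq), h p List.mem_cons_self]

/-- A target: fact, pairs of segments, last segment. -/
noncomputable def chkTg (tab : ℕ → ℕ) (act : ℕ → ℕ → ℕ) (B : List ℕ) (tl n : ℕ)
    (t : ℕ × List (List ℕ × List ℕ) × List ℕ) : Bool :=
  decide (t.1 < n) && fE (tab t.1) == 0 && pw tab (fD (tab t.1)) == flatT tl (t.2.1.map (·.1)) &&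
    (decF (fW (tab t.1)) [] :: t.2.2 :: t.2.1.map (·.1) ++ t.2.1.map (·.2)).all (fun s => s.all (· != tl)) &&
    allL t.2.1 fun p => allL B fun b => Nat.beq (runA act p.1 b) (runA act p.2 b)

theorem Hyp.mem2 (H : Hyp ι y T φ N act B tl ivc sgc sts rels) {n : ℕ}
    (hS : Steps (chkD tab act B tl ivc sgc cw cm sts rels subs) n)
    (hs : (subs.all fun s => s.all (· != tl)) = true) {ts : List (ℕ × List (List ℕ × List ℕ) × List ℕ)}
    (hc : allL ts (chkTg tab act B tl n) = true) :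
    ∀ w ∈ ts.map fun t => flatT tl (t.2.1.map (·.2)) ++ t.2.2, ev (gD ι y T tl) w ∈ ι.range := by
  refine List.forall_mem_map.2 fun t ht => ?_
  have h0 := allL_spec hc t ht
  simp only [chkTg, Bool.and_eq_true, decide_eq_true_eq, beq_iff_eq, List.all_eq_true, bne_iff_ne] at h0 hs
  obtain ⟨⟨⟨⟨h1, h2⟩, h3⟩, h4⟩, h5⟩ := h0
  have := H.facts (tab := tab) (x0 := basePt ι.range)
    (fun w hw => (smul_basePt_eq_iff _ _).2 ⟨_, (ev_gD (hs w hw)).symm⟩) hS t.1 h1
  rw [Fa, h2, P_zero, P, h3, ← mul_smul, smul_basePt_eq_iff, ev_gD (h4 _ (by simp)),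
    ← relE_eq fun s hs => h4 s (by simp [hs]), relE_congr fun p hp => H.pa.eq (allL_spec h5 p hp),
    relE_eq (tl := tl) fun s hs => h4 s (by simp [hs])] at this
  rw [ev_append, ev_gD (h4 _ (by simp))]
  exact mul_mem ⟨_, rfl⟩ ((mul_mem_cancel_left (MonoidHom.mem_range.2 ⟨_, rfl⟩)).1 this)

end Dce

theorem BRep.rels_of_mem {G : Type} [Group G] {g : ℕ → G} {D : BP} {As iv : List ℕ} {nb nf : ℕ} {ren : List (List ℕ)}
    {ρ : G →* (Matrix (Fin D.K) (Fin D.K) (ZMod D.p))ˣ} (h : BRep D As nb iv g nf ren ρ) {S : Subgroup G}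
    (hinj : ∀ a ∈ S, ρ a = 1 → a = 1) {rels : List (List ℕ)} (hm : ∀ r ∈ rels, ev g r ∈ S)
    (hl : chkLet (List.range nf) rels = true) (hP : ∀ r ∈ rels.map (renW ren), ev (D.MB As) r = 1) :
    ∀ r ∈ rels, ev g r = 1 := fun r hr => hinj _ (hm r hr)
  (Units.ext (by rw [h.map r (lt_of_chkLet hl r hr), hP _ (List.mem_map_of_mem hr)]; rfl))

theorem cardLe_range {G K : Type} [Group G] [Group K] (ι : K →* G) {m : ℕ} (h : Nat.card K = m) (h0 : m ≠ 0) :
    CardLe ι.range m :=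
  have : Finite K := Nat.finite_of_card_ne_zero (h ▸ h0)
  ⟨Finite.of_surjective _ ι.rangeRestrict_surjective, h ▸ Nat.card_le_card_of_surjective _ ι.rangeRestrict_surjective⟩

theorem inj_range_of_simple {G K A : Type*} [Group G] [Group K] [Group A] [IsSimpleGroup K] (ι : K →* G) (ρ : G →* A)
    {k : K} (h : ρ (ι k) ≠ 1) : ∀ a ∈ ι.range, ρ a = 1 → a = 1 := by
  rintro _ ⟨c, rfl⟩ hc
  rw [injective_of_simple (ρ.comp ι) (x := k) h (hc.trans (map_one _).symm), map_one]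

theorem rels_filter {G Q : Type*} [Group G] [Group Q] (π : G →* Q) {g : ℕ → G} {n : ℕ} (h : ∀ x < n, π (g x) = 1)
    {rels : List (List ℕ)} (hg : ∀ r ∈ rels, ev g r = 1) :
    ∀ r ∈ rels.map (List.filter (n ≤ ·)), ev (fun x => π (g x)) r = 1 := List.forall_mem_map.2 fun r hr => by
  have := hg r hr
  rw [← π.map_one, ← this, map_ev]
  clear this hr
  induction r with
  | nil => rfl
  | cons x r ih =>
    by_cases e : n ≤ x
    · rw [List.filter_cons_of_pos (by simpa using e), ev_cons, ev_cons, ih]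
    · rw [List.filter_cons_of_neg (by simpa using e), ev_cons, ih, h x (not_le.1 e), mul_one]

theorem ncl_top_of_simple {G K : Type} [Group G] [Group K] [IsSimpleGroup K] (κ : K →* G) {y : ℕ → K} {g : ℕ → G}
    {n m : ℕ} (h : ∀ x < n, κ (y x) = renG g (sing (List.range n)) x) {w : List ℕ}
    (hw : chkLet (List.range n) [w] = true) (h1 : ev y w ≠ 1) (top : genL g (List.range m) = ⊤)
    (h2 : ∀ π : G →* G ⧸ Subgroup.normalClosure {ev g w}, (∀ x < n, π (g x) = 1) → ∀ x < m, π (g x) = 1) :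
    Subgroup.normalClosure {ev g w} = ⊤ := by
  have h3 : ∀ x < n, κ (y x) = g x := fun x hx => by
    rw [h x hx, renG, getL_eq_getD, List.getD_eq_getElem _ _ (by simpa [sing] using hx)]; simp [sing]
  have h4 : κ (ev y w) = ev g w := by
    rw [map_ev]; exact ev_congr fun x hx => h3 x (lt_of_chkLet hw w List.mem_cons_self x hx)
  rcases IsSimpleGroup.eq_bot_or_eq_top_of_normal ((Subgroup.normalClosure {ev g w}).comap κ) inferInstance with e | e
  · exact absurd (Subgroup.mem_bot.1 (e ▸ Subgroup.mem_comap.2 (h4 ▸ Subgroup.subset_normalClosure rfl))) h1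
  · rw [eq_top_iff, ← top]
    refine genL_le fun x hx => (QuotientGroup.eq_one_iff _).1 (h2 (QuotientGroup.mk' _) (fun z hz =>
      (QuotientGroup.eq_one_iff _).2 ?_) x (List.mem_range.1 hx))
    rw [← h3 z hz]; exact Subgroup.mem_comap.1 (e ▸ trivial)

section rank
variable {n R : Type} [Fintype n] [DecidableEq n] [Field R] [Finite R]

/-- Block triangular matrices. -/
def triS (E P : Matrix n n R) (hE : E * E = E) (hP : P * P = P) : Subgroup (Matrix n n R)ˣ :=
  let S : Submonoid (Matrix n n R)ˣ :=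
    { carrier := {k | E * k = E * k * E ∧ k * P = P * (k * P)}
      one_mem' := by simp [hE, hP]
      mul_mem' := fun {a b} ha hb => ⟨by
        rw [Units.val_mul, ← mul_assoc, ha.1, mul_assoc _ E, hb.1, ← mul_assoc, ← mul_assoc, mul_assoc _ E E, hE], by
        rw [Units.val_mul, mul_assoc, hb.2, ← mul_assoc, ha.2, ← mul_assoc P (P * _), ← mul_assoc P P, hP]⟩ }
  { S with
    inv_mem' := fun {a} ha => (Submonoid.powers_le.2 (show a ∈ S from ha))
      ((isOfFinOrder_of_finite a).mem_powers_iff_mem_zpowers.2 (Subgroup.inv_mem _ (Subgroup.mem_zpowers a))) }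

/-- The rank of a block. -/
noncomputable def rkJ (E P : Matrix n n R) (a : (Matrix n n R)ˣ) : ℕ := (E * a * P).rank

theorem rkJ_mul {E P : Matrix n n R} {hE : E * E = E} {hP : P * P = P} {k k' : (Matrix n n R)ˣ}
    (hk : k ∈ triS E P hE hP) (hk' : k' ∈ triS E P hE hP) (a : (Matrix n n R)ˣ) : rkJ E P (k * a * k') = rkJ E P a := by
  have key : ∀ k ∈ triS E P hE hP, ∀ k' ∈ triS E P hE hP, ∀ a, rkJ E P (k * a * k') ≤ rkJ E P a := fun k hk k' hk' a => by
    have e : E * ((k * a * k' : (Matrix n n R)ˣ) : Matrix n n R) * P = E * k * (E * a * P) * (k' * P) := by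
      calc _ = E * k * a * (k' * P) := by simp only [Units.val_mul, mul_assoc]
        _ = E * k * E * a * (P * (k' * P)) := by rw [← hk.1, ← hk'.2]
        _ = _ := by simp only [mul_assoc]
    rw [rkJ, e]
    exact (Matrix.rank_mul_le_left _ _).trans (Matrix.rank_mul_le_right _ _)
  refine le_antisymm (key k hk k' hk' a) ?_
  have := key _ (inv_mem hk) _ (inv_mem hk') (k * a * k')
  rwa [show k⁻¹ * (k * a * k') * k'⁻¹ = a by group] at this

end rank

namespace BP
variable {D : BP}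

theorem bM_idB' (h : D.ok = true) (r : ℕ) (hr : r ≤ D.K) :
    D.bM (D.idB r) = Matrix.diagonal fun i : Fin D.K => if i.val < r then 1 else 0 := by
  obtain ⟨hw, -, -, -⟩ := ok_spec h
  ext i l
  have e := dg_dg D.w (D.K + 1) (D.idB r) ((l * D.K + i) / (D.K + 1)) ((l * D.K + i) % (D.K + 1))
  rw [if_pos (Nat.mod_lt _ D.K.succ_pos), Nat.div_add_mod'] at e
  rw [bM, Matrix.of_apply, ← e, idB, Nat.mul_eq, dg_rep (Nat.mul_pos hw D.K.succ_pos), Matrix.diagonal_apply]
  have h1 : ((l : ℕ) * D.K + i) % (D.K + 1) = 0 ↔ i = l := by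
    rw [← Nat.dvd_iff_mod_eq_zero, ← Int.natCast_dvd_natCast, Fin.ext_iff]
    push_cast
    rw [show ((l : ℕ) : ℤ) * D.K + (i : ℕ) = (D.K + 1) * (l : ℕ) + ((i : ℕ) - (l : ℕ)) by ring, dvd_add_right (dvd_mul_right _ _)]
    have := l.2; have := i.2
    refine ⟨fun h => ?_, fun h => by simp [h]⟩
    have := Int.eq_zero_of_abs_lt_dvd h (abs_lt.2 ⟨by omega, by omega⟩)
    omega
  by_cases h2 : i = l
  · subst h2
    have h3 : ((i : ℕ) * D.K + i) / (D.K + 1) = i := by
      rw [← Nat.mul_succ]; exact Nat.mul_div_cancel _ D.K.succ_pos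
    rw [if_pos rfl, h3, h1.2 rfl]
    split_ifs
    · rw [dg_small (Nat.one_lt_two_pow hw.ne')]; simp
    · simp [dg_zero_left]
  · rw [if_neg h2]
    split_ifs
    · rw [dg_small (Nat.one_lt_two_pow hw.ne'), if_neg (mt h1.1 h2)]; simp
    · simp [dg_zero_left]

theorem rank_idB [Fact D.p.Prime] (h : D.ok = true) (r : ℕ) (hr : r ≤ D.K) : (D.bM (D.idB r)).rank = r := by
  classical
  rw [bM_idB' h r hr, Matrix.rank_diagonal, Fintype.card_subtype]
  simp only [ne_eq, ite_eq_right_iff, one_ne_zero, imp_false, not_not]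
  rw [Fin.card_filter_val_lt]; exact min_eq_right hr

/-- A rank certificate `(r, U, W, U', W')`. -/
noncomputable def chkRk (D : BP) (mc M : ℕ) (c : ℕ × ℕ × ℕ × ℕ × ℕ) : Bool :=
  andB (Nat.ble c.1 D.K) (andB (allL [D.idB c.1, c.2.1, c.2.2.1, c.2.2.2.1, c.2.2.2.2] (D.okV mc))
    (andB (Nat.beq (D.mulB (D.mulB c.2.1 M) c.2.2.1) (D.idB c.1))
      (Nat.beq (D.mulB (D.mulB c.2.2.2.1 (D.idB c.1)) c.2.2.2.2) M)))

theorem rank_of_chkRk [Fact D.p.Prime] (h : D.ok = true) {mc M : ℕ} (hM : D.Good M) {c : ℕ × ℕ × ℕ × ℕ × ℕ}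
    (hc : D.chkRk mc M c = true) : (D.bM M).rank = c.1 := by
  simp only [chkRk, andB_eq_true] at hc
  obtain ⟨h1, h2, h3, h4⟩ := hc
  have hG := fun E hE' => good_of_okV h (allL_spec h2 E hE')
  have a1 := mulB_spec h (hG c.2.1 (by simp)) hM
  have a2 := mulB_spec h a1.1 (hG c.2.2.1 (by simp))
  have a3 := mulB_spec h (hG c.2.2.2.1 (by simp)) (hG (D.idB c.1) (by simp))
  have a4 := mulB_spec h a3.1 (hG c.2.2.2.2 (by simp))
  rw [Nat.eq_of_beq_eq_true h3, a1.2] at a2
  rw [Nat.eq_of_beq_eq_true h4, a3.2] at a4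
  have e := rank_idB h c.1 (Nat.le_of_ble_eq_true h1)
  refine le_antisymm ?_ ?_
  · rw [← e, a4.2]; exact (Matrix.rank_mul_le_left _ _).trans (Matrix.rank_mul_le_right _ _)
  · conv_lhs => rw [← e, a2.2]
    exact (Matrix.rank_mul_le_left _ _).trans (Matrix.rank_mul_le_right _ _)

end BP

namespace BRep
variable {G : Type} [Group G] {g : ℕ → G} {D : BP} {As iv : List ℕ} {nb nf : ℕ} {ren : List (List ℕ)}
  {ρ : G →* (Matrix (Fin D.K) (Fin D.K) (ZMod D.p))ˣ} (h : BRep D As nb iv g nf ren ρ) [Fact D.p.Prime]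
include h

theorem idem {mc E : ℕ} (hc : andB (D.okV mc E) (Nat.beq (D.mulB E E) E) = true) : D.bM E * D.bM E = D.bM E := by
  rw [andB_eq_true] at hc
  have hE := BP.good_of_okV h.ok.ok hc.1
  rw [← (BP.mulB_spec h.ok.ok hE hE).2, Nat.eq_of_beq_eq_true hc.2]

theorem tri {mc E P : ℕ} (hE : andB (D.okV mc E) (Nat.beq (D.mulB E E) E) = true)
    (hP : andB (D.okV mc P) (Nat.beq (D.mulB P P) P) = true) {ws : List (List ℕ)}
    (hl : chkLet (List.range nf) ws = true)
    (hc : allL ws (fun w => seq (D.appB As (renW ren w) (D.idB D.K)) fun A => andB (D.okV mc (D.idB D.K))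
      (andB (Nat.beq (D.mulB E A) (D.mulB (D.mulB E A) E)) (Nat.beq (D.mulB A P) (D.mulB P (D.mulB A P))))) = true) :
    ∀ a ∈ genW g ws, ρ a ∈ triS (D.bM E) (D.bM P) (h.idem hE) (h.idem hP) := by
  refine fun a ha => genW_le (H := (triS _ _ (h.idem hE) (h.idem hP)).comap ρ) (fun w hw => ?_) ha
  have h0 := allL_spec hc w hw
  simp only [seq_eq, andB_eq_true] at h0 hE hP
  have gE := BP.good_of_okV h.ok.ok hE.1
  have gP := BP.good_of_okV h.ok.ok hP.1
  have a0 := h.ok.appB (renW ren w) (BP.good_of_okV h.ok.ok h0.1)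
  rw [BP.bM_idB h.ok.ok, mul_one, ← h.map w (lt_of_chkLet hl w hw)] at a0
  have a1 := BP.mulB_spec h.ok.ok gE a0.1
  have a2 := BP.mulB_spec h.ok.ok a1.1 gE
  have a3 := BP.mulB_spec h.ok.ok a0.1 gP
  have a4 := BP.mulB_spec h.ok.ok gP a3.1
  rw [← Nat.eq_of_beq_eq_true h0.2.1, a1.2, a0.2] at a2
  rw [← Nat.eq_of_beq_eq_true h0.2.2, a3.2, a0.2] at a4
  exact ⟨a2.2, a4.2⟩

theorem sepRk {mc E P : ℕ} (hE : allL [E, P] (D.okV mc) = true) (pw : ℕ → List ℕ) {cs : List (ℕ × ℕ × ℕ × ℕ × ℕ)}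
    (hl : allN cs.length (fun i => allL (pw i) fun x => Nat.blt x nf) = true)
    (hv : ∀ i < cs.length, seq (D.mulB E (D.appB As (renW ren (pw i)) P))
      (fun M => D.chkRk mc M (getL cs (0, 0, 0, 0, 0) i)) = true)
    (hn : (cs.map (·.1)).Nodup) : ∀ i < cs.length, ∀ j < i,
      rkJ (D.bM E) (D.bM P) (ρ (ev g (pw i))) ≠ rkJ (D.bM E) (D.bM P) (ρ (ev g (pw j))) := by
  have hG := fun E hE' => BP.good_of_okV h.ok.ok (allL_spec hE E hE')
  have := ne_of_vals (f := fun i => rkJ (D.bM E) (D.bM P) (ρ (ev g (pw i)))) (fun i hi => ?_) hn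
  · rwa [List.length_map] at this
  rw [List.length_map] at hi
  have a0 := h.ok.appB (renW ren (pw i)) (hG P (by simp))
  have a1 := BP.mulB_spec h.ok.ok (hG E (by simp)) a0.1
  have a2 := BP.rank_of_chkRk h.ok.ok a1.1 ((seq_eq _ _).symm.trans (hv i hi))
  rw [a1.2, a0.2, ← h.map _ fun x hx => Dce.blt_spec (allL_spec (allN_spec hl i hi) x hx), ← mul_assoc] at a2
  rw [rkJ, a2, getL_eq_getD, List.getD_eq_getElem _ _ hi, List.getElem?_map, List.getElem?_eq_getElem hi]; rfl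

end BRep

end Cfsg.Agent.Spor
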