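import Cfsg.Agent.Spor.J.Fi22a
import Cfsg.Prelude.Def_Spor_Fi22

/-! The presented group Fi22 on 3510 points (generated certificate, helper23). -/

set_option maxRecDepth 100000
set_option exponentiation.threshold 100000

namespace Cfsg.Agent.Spor.Fi22M

open Equiv

def lts : List (Cfsg.Spor.Fi22.Gen × Bool) := [(.a, true), (.b, true), (.c, true), (.d, true), (.e, true), (.f, true), (.g, true), (.h, true), (.i, true)]

theorem lt : LtOk Cfsg.Spor.Fi22.edges Cfsg.Spor.Fi22.extra lts :=
  ⟨by intro a; cases a <;> decide, by decide +kernel, by decide⟩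

/-- The letters: inverses of the generators. -/
noncomputable abbrev g : ℕ → Cfsg.Spor.Fi22 := letG (RS Cfsg.Spor.Fi22.edges Cfsg.Spor.Fi22.extra) lts

theorem he : g 255 = 1 := letG_of_le _ (by decide)

theorem hg : ∀ r ∈ JFi22a.rels, ev g r = 1 := lt.rels_of_relsG (by decide +kernel)

theorem rp : relsP Cfsg.Spor.Fi22.edges Cfsg.Spor.Fi22.extra lts JFi22a.rels = true := by decide +kernel

/-- The permutation representation of degree 3510. -/
noncomputable def φ : Cfsg.Spor.Fi22 →* Perm ℕ := lt.toHom rp JFi22a.hP

theorem rep : PermRep g JFi22a.nets 3510 9 φ := ⟨JFi22a.ok, fun _ hx => lt.toHom_letG rp _ hx, lt.genL_top⟩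

/-- The point stabiliser. -/
noncomputable abbrev H : Subgroup Cfsg.Spor.Fi22 := genW g JFi22a.subs

theorem stab : IsStab φ H 3488 :=
  rep.isStab (by decide +kernel) (by decide +kernel) (JFi22a.mem he hg rep.hφ)

theorem mapH : H.map φ = genW (PP JFi22a.nets) JFi22a.subs := rep.map_genW (by decide +kernel)

theorem otr : OrbSub (genW (PP JFi22a.nets) (sing (List.range 9))) 3488 (ivl 0 3510) :=
  (orbSub_base _ _).run JFi22a.ok (prog := [1, 0, 2, 3, 4, 7, 1, 2, 5, 6, 8, 3, 2, 4, 7, 3, 2, 4, 7, 5, 4, 6, 1, 2, 0, 3, 2, 4, 7, 8, 7, 3, 2, 4, 7, 1, 0, 2, 5, 6, 3, 2, 7]) (by decide +kernel)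

theorem trans : Trans φ 3510 3488 := rep.trans (by decide) otr

theorem index : H.index = 3510 := rep.index_eq stab trans

noncomputable def A0 : ℕ := (nat_lit 0x3ffffefffffffff00ff0f0f00f000f0f0f00fffff000fff00ff00ffff0f00000000000ff000000000000ff0000ffff000000ff0000ff00ffff00ff0000ff00000000ffffffff0000ff00ff0000ff00ffffff000000000000ffffffffff0000ff00000000000000000000ffffffffffffff00ff00ffff0000ff0000ffff00000000ff0000ffff00ff00ff00000000000000000000000000000000000000000000000000000000000000000000000000ffff0000000000000000ffff0000000000000000000000000000000000000000000000000000ffff0000ffff000000000000ffffffff000000000000ffff0000ffff00000000000000000000000000000000000000000000ffff00000000ffff0000ffff0000000000000000ffff00000000000000000000000000000000000000000000000000000000000000000000000000000000000000000000000000000000000000000000000000000000000000000000000000000000000000000000000000000000000000000000000000000000000000000000000000000000000000000000000000000000000000000000000000000000000000000000000000000000000000000000)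

theorem o0 : OrbSub (genW (PP JFi22a.nets) JFi22a.subs) 1232 A0 :=
  (orbSub_base _ _).run JFi22a.ok (prog := [1, 3, 5, 6, 2, 1, 3, 6, 4, 3, 5, 7, 6, 2, 1, 6, 7, 2, 3, 6, 4, 2, 8, 4, 3, 2, 7]) (by decide +kernel)

theorem cl0 : chkClosed JFi22a.nets JFi22a.subs A0 = true := by decide +kernel

theorem pop0 : chkPop 12 A0 693 = true := by decide +kernel

theorem orb0 : IsOrb (H.map φ) (1232, A0, 693) := by
  rw [mapH]; exact isOrb_of_chk JFi22a.ok o0 (by decide +kernel) cl0 pop0

noncomputable def A1 : ℕ := (nat_lit 0xff00f0f0ff0fff0f0f0ff00000fff000ff00ff0000f0fffffffffff00ffffffffffff00ffff0000ffffff00ffff00ff0000ff00ffff00ffffffff00000000ffff00ff00ffff00ff000000ffffffffffff0000000000ffff00ffffffffffffffffffff00000000000000ff00ff0000ffff00ffff0000ffffffff00ffff0000ff00ff00ffffffffffffffffffffffffffffffffffffffffffffffffffffffffffffffffffffffffff0000ffffffffffffffff0000ffffffffffffffffffffffffffffffffffffffffffffffffffff0000ffff0000ffffffffffff00000000ffffffffffff0000ffff0000ffffffffffffffffffffffffffffffffffffffffffff0000ffffffff0000ffff0000ffffffffffffffff0000ffffffffffffffffffffffffffffffffffffffffffffffffffffffffffffffffffffffffffffffffffffffffffffffffffffffffffffffffffffffffffffffffffffffffffffffffffffffffffffffffffffffffffffffffffffffffffffffffffffffffffffffffffffffffffffffffffffffffffffffffffffffffffffffffffffffffffffffffffffffffffffffffffffffffffffffffffff)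

theorem o1 : OrbSub (genW (PP JFi22a.nets) JFi22a.subs) 0 A1 :=
  (orbSub_base _ _).run JFi22a.ok (prog := [0, 1, 3, 5, 6, 2, 1, 3, 6, 4, 3, 5, 7, 6, 2, 1, 6, 3, 8, 4, 3, 5, 7, 6, 2, 1]) (by decide +kernel)

theorem cl1 : chkClosed JFi22a.nets JFi22a.subs A1 = true := by decide +kernel

theorem pop1 : chkPop 12 A1 2816 = true := by decide +kernel

theorem orb1 : IsOrb (H.map φ) (0, A1, 2816) := by
  rw [mapH]; exact isOrb_of_chk JFi22a.ok o1 (by decide +kernel) cl1 pop1

theorem coatom : IsCoatom H :=
  rep.isCoatom stab trans (by decide) (orbs := [(1232, A0, 693), (0, A1, 2816)])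
    (by simp only [List.forall_mem_cons, List.not_mem_nil, IsEmpty.forall_iff, implies_true, and_true]
        exact ⟨orb0, orb1⟩) (by decide +kernel) (ns := [693, 2816]) rfl (by decide +kernel)

end Cfsg.Agent.Spor.Fi22M
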