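import Cfsg.Agent.Spor.J.He1
import Cfsg.Prelude.Def_Spor_He

/-! The presented Held group on 2058 points (generated certificate, helper23). -/

set_option maxRecDepth 100000
set_option exponentiation.threshold 100000

namespace Cfsg.Agent.Spor.HeM

open Equiv

def lts : List (Cfsg.Spor.He.Gen × Bool) := [(.a, true), (.b, true), (.c, true), (.d, true), (.e, true), (.f, true), (.g, true)]

theorem lt : LtOk Cfsg.Spor.He.edges Cfsg.Spor.He.extra lts :=
  ⟨by intro a; cases a <;> decide, by decide +kernel, by decide⟩

/-- The letters: inverses of the generators. -/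
noncomputable abbrev g : ℕ → Cfsg.Spor.He := letG (RS Cfsg.Spor.He.edges Cfsg.Spor.He.extra) lts

theorem he : g 255 = 1 := letG_of_le _ (by decide)

theorem hg : ∀ r ∈ JHe1.rels, ev g r = 1 := lt.rels_of_relsG (by decide +kernel)

theorem rp : relsP Cfsg.Spor.He.edges Cfsg.Spor.He.extra lts JHe1.rels = true := by decide +kernel

/-- The permutation representation of degree 2058. -/
noncomputable def φ : Cfsg.Spor.He →* Perm ℕ := lt.toHom rp JHe1.hP

theorem rep : PermRep g JHe1.nets 2058 7 φ := ⟨JHe1.ok, fun _ hx => lt.toHom_letG rp _ hx, lt.genL_top⟩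

/-- The point stabiliser. -/
noncomputable abbrev H : Subgroup Cfsg.Spor.He := genW g JHe1.subs

theorem stab : IsStab φ H 2052 :=
  rep.isStab (by decide +kernel) (by decide +kernel) (JHe1.mem he hg rep.hφ)

theorem mapH : H.map φ = genW (PP JHe1.nets) JHe1.subs := rep.map_genW (by decide +kernel)

theorem otr : OrbSub (genW (PP JHe1.nets) (sing (List.range 7))) 2052 (ivl 0 2058) :=
  (orbSub_base _ _).run JHe1.ok (prog := [6, 1, 2, 3, 2, 4, 5, 3, 2, 4, 1, 2, 5, 3, 2, 4, 5, 6, 3, 2, 4, 5, 1, 2, 6, 3, 2]) (by decide +kernel)

theorem trans : Trans φ 2058 2052 := rep.trans (by decide) otr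

theorem index : H.index = 2058 := rep.index_eq stab trans

noncomputable def A0 : ℕ := (nat_lit 0xcfc000000000000000000fff0f0f000000f0f00000f0000000000000000000000000000000000000000000000000000000000000000ff00000000ff000000000000000000ff00000000000000ff00000000000000000000000000000000000000000000000000000000000000000000000000000000000000000000000000000000000000000000000000000000000000000000000000000000000000ffff0000ffff0000000000000000000000000000000000000000000000000000000000000000000000000000000000000000000000000000000000000000ffff000000000000000000000000000000000000ffff00000000000000000000000000000000)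

theorem o0 : OrbSub (genW (PP JHe1.nets) JHe1.subs) 128 A0 :=
  (orbSub_base _ _).run JHe1.ok (prog := [0, 1, 3, 4, 2, 1, 3, 4, 2, 1, 3, 4, 2, 6, 4]) (by decide +kernel)

theorem cl0 : chkClosed JHe1.nets JHe1.subs A0 = true := by decide +kernel

theorem pop0 : chkPop 12 A0 136 = true := by decide +kernel

theorem orb0 : IsOrb (H.map φ) (128, A0, 136) := by
  rw [mapH]; exact isOrb_of_chk JHe1.ok o0 (by decide +kernel) cl0 pop0

noncomputable def A1 : ℕ := (nat_lit 0xf0000000ff00f000000000f00000f0f000000f0ffff0f0f0000000000000ff00000000ffff00000000ffffff0000000000ff0000ffff000000000000000000000000ff000000000000000000000000000000000000000000000000000000000000000000000000000000000000000000000000000000000000000000000000000000000000000000000000000000000000000000000000000000000000000000000000000000000000000000000000000000000000000000000000000000000000000000000000000000000000000000000000000000000000000000000000000000000000000000000000000000000000000000000000000000000000)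

theorem o1 : OrbSub (genW (PP JHe1.nets) JHe1.subs) 1488 A1 :=
  (orbSub_base _ _).run JHe1.ok (prog := [0, 1, 3, 2, 1, 4, 3, 2, 1, 2, 1, 6, 0, 4, 2, 1, 3, 2, 3]) (by decide +kernel)

theorem cl1 : chkClosed JHe1.nets JHe1.subs A1 = true := by decide +kernel

theorem pop1 : chkPop 12 A1 136 = true := by decide +kernel

theorem orb1 : IsOrb (H.map φ) (1488, A1, 136) := by
  rw [mapH]; exact isOrb_of_chk JHe1.ok o1 (by decide +kernel) cl1 pop1

noncomputable def A2 : ℕ := (nat_lit 0x3e3030000000f000f00000f00000f0000f000000ff0000000000000000f0000000000000000000000000000000000000000000000ff0000000000000000000000000000000000000000ff000000000000ff000000ff000000000000ffff0000ffff00000000000000000000000000000000ffff000000000000000000000000ffffffffffff0000000000000000ffffffff0000ffff0000000000000000000000000000ffff0000000000000000000000000000ffffffffffff000000000000000000000000ffff00000000ffff00000000ffff00000000000000000000ffff000000000000ffff0000ffff000000000000000000000000ffffffff00000000ffff)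

theorem o2 : OrbSub (genW (PP JHe1.nets) JHe1.subs) 0 A2 :=
  (orbSub_base _ _).run JHe1.ok (prog := [0, 1, 3, 4, 2, 1, 3, 4, 2, 1, 3, 4, 2, 1, 2, 4, 6, 4, 2]) (by decide +kernel)

theorem cl2 : chkClosed JHe1.nets JHe1.subs A2 = true := by decide +kernel

theorem pop2 : chkPop 12 A2 425 = true := by decide +kernel

theorem orb2 : IsOrb (H.map φ) (0, A2, 425) := by
  rw [mapH]; exact isOrb_of_chk JHe1.ok o2 (by decide +kernel) cl2 pop2

noncomputable def A3 : ℕ := (nat_lit 0xffff0ff0fff000ff00000f000f0f0ff000000ff0f0f0000f0f0ff0ffffffffff00ffffffff0000ffffffff000000ffffffff000000ff0000ff00ffffffffffffffffff0000ffff00ffffff00ffff00ffffff00ffffffffffff0000ffff0000ffffffffffffffffffffffffffffffff0000ffffffffffffffffffffffff000000000000ffffffffffffffff00000000ffff0000ffffffffffffffff0000ffff00000000ffffffffffffffffffffffffffff000000000000ffffffffffffffffffffffff0000ffffffff0000ffffffff0000ffffffffffffffff00000000ffffffffffff0000ffff0000ffffffff0000ffffffffffff00000000ffffffff0000)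

theorem o3 : OrbSub (genW (PP JHe1.nets) JHe1.subs) 16 A3 :=
  (orbSub_base _ _).run JHe1.ok (prog := [0, 1, 3, 4, 2, 1, 3, 4, 2, 1, 3, 4, 2, 1, 3, 4, 6, 0, 4, 2, 1, 4, 3, 2, 1]) (by decide +kernel)

theorem cl3 : chkClosed JHe1.nets JHe1.subs A3 = true := by decide +kernel

theorem pop3 : chkPop 12 A3 1360 = true := by decide +kernel

theorem orb3 : IsOrb (H.map φ) (16, A3, 1360) := by
  rw [mapH]; exact isOrb_of_chk JHe1.ok o3 (by decide +kernel) cl3 pop3

theorem coatom : IsCoatom H :=
  rep.isCoatom stab trans (by decide) (orbs := [(128, A0, 136), (1488, A1, 136), (0, A2, 425), (16, A3, 1360)])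
    (by simp only [List.forall_mem_cons, List.not_mem_nil, IsEmpty.forall_iff, implies_true, and_true]
        exact ⟨orb0, orb1, orb2, orb3⟩) (by decide +kernel) (ns := [136, 136, 425, 1360]) rfl (by decide +kernel)

end Cfsg.Agent.Spor.HeM
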