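import Cfsg.Agent.Spor.EqS44
import Cfsg.Agent.Spor.Embed
import Cfsg.Agent.Known.HeTab

/-! `Sp4(4)` has index two in the point stabiliser of He (helper23). -/

set_option Elab.async false
set_option maxRecDepth 100000
set_option exponentiation.threshold 100000

namespace Cfsg.Agent.Spor.HeM

open Equiv

def ren : List (List ℕ) := [[2, 3, 2, 4, 5, 3, 2, 3, 2, 1, 2, 3, 4, 1, 2, 3, 4, 1, 2, 3, 4, 1, 2, 3, 4, 1, 2, 3, 4, 1, 2, 3, 4, 1, 2, 3, 4, 5, 3, 2, 3, 4, 3, 1, 2, 3, 4, 1, 2, 3, 4, 1, 2, 3, 4, 1, 2, 3, 4, 1, 2, 3, 4, 1, 2, 3, 4, 1, 2, 3, 4, 5, 3, 1, 2, 3, 4, 1, 2, 3, 4, 1, 2, 3, 4, 1, 2, 3, 4, 1, 2, 3, 4, 1, 2, 3, 4, 1, 2, 3, 4], [3, 1, 2, 3, 4, 1, 2, 3, 4, 1, 2, 3, 4, 1, 2, 3, 4, 1, 2, 3, 4, 1, 2, 3, 4, 1, 2, 3, 4,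 4, 5, 3, 2, 4, 3, 2, 5, 1, 2, 3, 4, 1, 2, 3, 4, 1, 2, 3, 4, 1, 2, 3, 4, 1, 2, 3, 4, 1, 2, 3, 4, 1, 2, 3, 4, 5, 3, 2, 3, 2, 4, 5, 3, 2], [0, 1, 2, 3, 4, 1, 2, 3, 4, 1, 2, 3, 4, 1, 2, 3, 4, 1, 2, 3, 4, 1, 2, 3, 4, 1, 2, 3, 4, 3, 2, 5, 3, 2, 4, 1, 2, 3, 4, 1, 2, 3, 4, 1, 2, 3, 4, 1, 2, 3, 4, 1, 2, 3, 4, 1, 2, 3, 4, 1, 2, 3, 4, 3, 5, 3, 2, 3, 1, 2, 3, 4, 1, 2, 3, 4, 1, 2, 3, 4, 1, 2, 3, 4, 1, 2, 3, 4, 1, 2, 3, 4, 1, 2, 3, 4, 5, 3, 2, 1, 2, 3, 4, 1, 2, 3, 4, 1, 2, 3, 4, 1, 2, 3, 4, 1, 2, 3, 4, 1, 2, 3, 4, 1, 2, 3, 4, 3], [0, 3, 2, 1, 2, 3, 4, 1, 2, 3, 4, 1, 2, 3, 4, 1, 2, 3, 4, 1, 2, 3, 4, 1, 2, 3, 4, 1, 2, 3, 4, 3, 5, 3, 2, 3, 1, 2, 3, 4, 1, 2, 3, 4, 1, 2, 3, 4, 1, 2, 3, 4, 1, 2, 3, 4, 1, 2, 3, 4, 1, 2, 3, 4, 5, 3, 2, 4,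 3, 2, 1, 2, 3, 4, 1, 2, 3, 4, 1, 2, 3, 4, 1, 2, 3, 4, 1, 2, 3, 4, 1, 2, 3, 4, 1, 2, 3, 4, 5, 3, 1, 2, 3, 4, 1, 2, 3, 4, 1, 2, 3, 4, 1, 2, 3, 4, 1, 2, 3, 4, 1, 2, 3, 4, 1, 2, 3, 4], [0, 3, 2, 4, 3, 2, 3, 5, 3, 2, 3, 2, 4, 3], [2, 4, 1, 2, 3, 4, 1, 2, 3, 4, 1, 2, 3, 4, 1, 2, 3, 4, 1, 2, 3, 4, 1, 2, 3, 4, 1, 2, 3, 4, 3, 2, 5, 3, 2, 3, 2, 5, 3, 2, 4, 1, 2, 3, 4, 1, 2, 3, 4, 1, 2, 3, 4, 1, 2, 3, 4, 1, 2, 3, 4, 1, 2, 3, 4, 1, 2, 3, 4]]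

theorem pa : PtAct φ 2058 [0,1376,1860,2032,2055,2054,2053,2056,2052] (renG Known.HeT.y ren) (renA Known.HeT.act ren) := (ptAct_of_mdl Known.HeT.mdl).ren ren

theorem sp44 : ∃ N : Subgroup H, N.Normal ∧ N.index = 2 ∧ Nonempty (N ≃* Matrix.symplecticGroup (Fin 2) F4) := by
  obtain ⟨e⟩ := MdS44.model.equiv_sub (renG_255 _ (by decide)) (pa.rels (by decide +kernel)) (w := [0]) (by decide)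
    (pa.ne_one 0 (by decide) (by decide +kernel))
  obtain ⟨e'⟩ := EqS44.equiv
  exact exists_index_two (pa.genL_le_stab stab (by decide) (by decide +kernel)) (e'.symm.trans e)
    ((Nat.card_congr e'.toEquiv).symm.trans MdS44.card) (cardH.trans (by decide)) (by decide)

end Cfsg.Agent.Spor.HeM
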