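import Cfsg.Agent.Spor.HnU

/-! An alphabet for the group generated by x, y (helper23). -/

set_option Elab.async false
set_option maxRecDepth 100000
set_option exponentiation.threshold 100000

namespace Cfsg.Agent.Spor.HnA

open Equiv

def renK : List (List ℕ) := [[0], [1], [2], [3], [3, 0, 2, 2, 0, 2, 2, 0, 3, 3, 0, 2, 2, 0, 2, 1, 2], [3, 0, 3, 0, 3, 3, 0, 2, 2, 0, 3, 3, 0, 3, 3, 1, 2], [0, 3, 0, 2, 2, 0, 3, 0, 3, 3, 0, 2, 2, 0, 2, 0, 2, 2, 0, 3, 3, 0, 3, 0, 3], [2, 0, 2, 0, 2, 2, 0, 3, 3, 0, 3, 0, 3, 3, 0, 2, 2, 0, 2, 0, 3, 3, 0, 2, 0], [2, 0, 2, 0, 3, 0, 3, 0, 2, 0, 2, 2, 0, 2, 2, 0, 2, 0, 3, 1, 3], [2, 0, 2, 0, 3, 0, 3, 3, 0, 3, 3, 0, 3, 0, 2, 0, 2, 0, 3, 0, 3], [2, 0, 2, 0, 3, 0, 3, 0, 2, 0, 2, 2, 0, 2, 2, 0, 2, 0, 3, 0, 3], [2, 0, 2, 0, 3, 0, 3, 3, 0, 3, 3, 0, 3, 0, 2, 0, 2, 0, 3, 1, 3]]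

noncomputable def y : ℕ → HnU.G := renG HnU.g renK

noncomputable def act : ℕ → ℕ → ℕ := tabR JHnP.nets 1512 11 HnU.iv renK

theorem pa : PtAct HnU.φ 1512 [0, 1, 3] y act :=
  ptAct_ren HnU.rep HnU.invOk (by decide +kernel) (by decide) (by decide) HnU.base (by decide)

end Cfsg.Agent.Spor.HnA
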