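import Cfsg.Agent.Spor.HnA

/-! The centre of order 3 collapses (generated certificate, helper23). -/

set_option Elab.async false
set_option maxRecDepth 100000
set_option exponentiation.threshold 100000

namespace Cfsg.Agent.Spor.HnB

open Equiv

noncomputable def tab : BT := (.node (.node (.node (.node (.leaf (nat_lit 0xd00010000))
 (.leaf (nat_lit 0xa20924824728724700000000)))
 (.leaf (nat_lit 0x2862472882481830c534a1ca2062491c61c314300040003)))
 (.node (.leaf (nat_lit 0xd0c10c800030000))
 (.leaf (nat_lit 0xa20924824728724700040004))))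
 (.node (.node (.leaf (nat_lit 0x34320100020000))
 (.leaf (nat_lit 0x92481491450c61cd1452872872450c100040002)))
 (.node (.leaf (nat_lit 0x34300040001))
 (.leaf (nat_lit 0xa20924824728724700010001)))))

def ivc : ℕ := 605728907615742478127163846336690649049022037395941866804996873203182254337115014162779941914316975543831868485633

def sgc : ℕ := 219304678792364032

def rels : List (List (List ℕ)) := [[[3, 1, 3, 1, 3, 3, 3], [2, 2, 2, 0, 2, 0, 2, 0, 3, 1, 3, 1, 3, 3, 3], [2, 2, 2, 0, 2, 0, 2, 0, 3, 1, 3, 1, 3, 3, 3], [2, 2, 2, 0, 2, 0, 2, 0]], [[2, 2, 2, 0, 2, 0, 2, 0, 3, 1, 3, 1, 3, 3, 3], [2, 2, 2, 0, 2, 0, 2, 0], [3, 1, 3, 1, 3, 3, 3], [2, 2, 2, 0, 2, 0, 2, 0, 3, 1, 3, 1, 3, 3, 3]], [[], []]]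

def subs : List (List ℕ) := []

def nm : List ℕ := [0]

def sz : List ℕ := [504000]

def cnts : List (List ℕ) := [[0]]

noncomputable abbrev chk : ℕ → ℕ → Bool := Dce.chkD tab.at HnA.act [0, 1, 3] 12 ivc sgc 66 73786976294838206463 [12] rels subs


theorem st0 : Dce.chkDs chk
  [0,
  0,
  0,
  0,
  (nat_lit 0x1c91ca20924728000000000000000000000000000014a20000000a1891c91c90001c91ca2092472800180000001403002),
  (nat_lit 0x81892091c91c51c000000000000000000000000000018a1400091472492091470081892091c91c51c00200010000c03006),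
  (nat_lit 0xa1c01c91ca1c62471870002482482471891400000000001c624800000000000000a1c002800080014002404002),
  (nat_lit 0xa20920a1c924724800000000000000000001c003000180300a),
  (nat_lit 0xa20920a1c9247248000000000000000000004003800000300a)] 9 0 = true := by decide +kernel

theorem steps : Dce.Steps chk 9 :=
  (Dce.steps_zero _).more st0

end Cfsg.Agent.Spor.HnB
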