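import Cfsg.Agent.Spor.HnO

/-! The alphabet of the double coset enumeration for the Harada-Norton group (helper23). -/

set_option Elab.async false
set_option maxRecDepth 100000
set_option exponentiation.threshold 100000

namespace Cfsg.Agent.Spor.HnL

open Equiv

def renK : List (List ℕ) := (sing (List.range 5) ++ HnO.defs) ++ []

noncomputable def y : ℕ → HnK.G := renG HnK.g renK

noncomputable def act : ℕ → ℕ → ℕ := tabR HnK.nets 1408 11 HnK.iv renK

theorem pa : PtAct HnK.φ 1408 [0, 99, 21, 3] y act :=
  ptAct_ren HnK.rep HnK.invOk (by decide +kernel) (by decide) (by decide) HnK.base (by decide)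

end Cfsg.Agent.Spor.HnL
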