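import Cfsg.Agent.Spor.Dce5
import Cfsg.Agent.Spor.J.HnP
import Cfsg.Agent.Spor.J.HnP0
import Cfsg.Agent.Spor.J.HnC8

/-! The group generated by x, y on 1512 points, for the Harada-Norton group (generated certificate, helper23). -/

set_option Elab.async false
set_option maxRecDepth 100000
set_option exponentiation.threshold 100000

namespace Cfsg.Agent.Spor.HnU

open Equiv

/-- The model. -/
noncomputable abbrev G : Type := MG JHnP.nets 4

/-- The letters. -/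
noncomputable abbrev g : ℕ → G := mg JHnP.nets 4

theorem he : g 255 = 1 := mg_255 _ (by decide)

/-- The permutation representation of degree 1512. -/
noncomputable abbrev φ : G →* Perm ℕ := (MG JHnP.nets 4).subtype

theorem rep : PermRep g JHnP.nets 1512 4 φ := mrep JHnP.ok _

theorem inj : Function.Injective φ := Subtype.val_injective

theorem hg : ∀ r ∈ JHnP.rels, ev g r = 1 := rep.ev_eq_one inj (by decide +kernel) JHnP.hP

/-- The point stabiliser. -/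
noncomputable abbrev H : Subgroup G := genW g JHnP.subs

theorem stab : IsStab φ H 0 :=
  rep.isStab (by decide +kernel) (by decide +kernel) (JHnP.mem he hg rep.hφ)

theorem mapH : H.map φ = genW (PP JHnP.nets) JHnP.subs := rep.map_genW (by decide +kernel)


theorem trans : Trans φ 1512 0 :=
  rep.trans (by decide) ((orbSub_base _ _).run JHnP.ok (prog := [0, 2, 0, 2, 0, 2, 0, 2, 0, 2, 0, 2, 0, 2, 0, 2, 0, 2, 0, 2, 0, 2, 0, 2, 2, 0]) (by decide +kernel))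

theorem up (G : Type) [Group G] (g : ℕ → G) (_ : g 255 = 1) (hg : ∀ r ∈ JHnP.rels, ev g r = 1) :
    CardLe (genW g (sing (List.range 4))) 1512000 :=
  have hi : InvOk g 4 [1, 0, 3, 2] := invOk_of_rels hg (by decide +kernel)
  have u0 : CardLe (genW g [[0, 2], [3, 1]]) 8 :=
    (cardLe_genW_nil g).job (JHnC8.relIndex_le (renG_255 g (by decide))
      (renG_rels (hi.rels hg (by decide +kernel) (by decide +kernel)))) (by decide +kernel) rfl (by decide)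
  u0.job (JHnP0.relIndex_le (renG_255 g (by decide)) (renG_rels (rels_of_sub hg (by decide +kernel))))
    (by decide +kernel) rfl (by decide)

theorem lo2 : BaseGe (genW (PP JHnP.nets) [[2, 0, 3, 0, 3, 3, 1, 3, 3, 1, 3, 0, 2, 0, 2, 0, 2, 0, 3, 0, 2, 2, 0, 3, 0, 2, 1, 3, 0, 2, 0, 2, 0, 3, 2, 0, 3, 0, 3, 3, 1, 3, 3, 1, 3, 0, 2, 0, 2, 0, 2, 0, 3, 0, 2, 2, 0, 3, 0, 2, 1, 3, 0, 2, 0, 2, 0, 3, 0, 2, 2, 0, 3, 0, 2, 1, 3, 0, 2, 0, 2, 0, 3, 0, 2, 2, 0, 3, 0, 2, 1, 3, 0, 2, 0, 2, 0, 3, 2, 0, 3, 0, 3, 3, 1, 3, 3, 1, 3, 0, 2, 0, 2, 0, 2, 0, 3, 0, 2, 2, 0, 3, 0, 2, 1, 3, 0, 2, 0, 2, 0, 3, 0, 2, 2, 0, 3, 0, 2, 1, 3, 0, 2, 0, 2, 0, 3]]) 4 [3] :=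
  BaseGe.stepW (L := 11) (n := 4) JHnP.ok (genW_nil_base _) [] [0, 0, 0] (by decide +kernel)

theorem lo1 : BaseGe (genW (PP JHnP.nets) [[0, 2, 2, 0, 3, 0, 2, 1, 3, 0, 2, 0, 2, 0, 3], [2, 0, 3, 0, 3, 3, 1, 3, 3, 1, 3, 0, 2, 0, 2, 0, 2, 0, 3]]) 1000 [1, 3] :=
  BaseGe.stepW (L := 11) (n := 250) JHnP.ok lo2 [[1, 0, 1, 0, 0, 0, 1, 0, 0]] [0, 1, 0, 1, 0, 1, 0, 1, 0, 1, 0, 1, 0, 0, 0] (by decide +kernel)

theorem lo0 : BaseGe (genW (PP JHnP.nets) (sing (List.range 4))) 1512000 [0, 1, 3] :=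
  BaseGe.stepW (L := 11) (n := 1512) JHnP.ok lo1 [[0, 2, 2, 0, 3, 0, 2, 1, 3, 0, 2, 0, 2, 0, 3], [2, 0, 3, 0, 3, 3, 1, 3, 3, 1, 3, 0, 2, 0, 2, 0, 2, 0, 3]] [0, 2, 0, 2, 0, 2, 0, 2, 0, 2, 0, 2, 0, 2, 0, 2, 0, 2, 0, 2, 0, 2, 0, 2, 2, 0] (by decide +kernel)

theorem lo : BaseGe (genL (PP JHnP.nets) (List.range 4)) 1512000 [0, 1, 3] := by rw [← genW_sing]; exact lo0

theorem card : Nat.card G = 1512000 := (rep.card_eq (up _ g he hg) lo.cardGe).1

theorem base : ∀ c : G, (∀ b ∈ [0, 1, 3], φ c b = b) → c = 1 := rep.base inj card (by decide) lo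

theorem lifts : Known.Lifts g 4 JHnP.rels :=
  Known.lifts_of_cardLe rep.top hg (by decide +kernel) (by decide) card fun H _ h he hg => genW_sing h _ ▸ up H h he hg

def iv : List ℕ := [1, 0, 3, 2]

theorem invOk : InvOk g 4 iv := invOk_of_rels hg (by decide +kernel)

end Cfsg.Agent.Spor.HnU
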