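import Cfsg.Agent.Spor.J4G
import Cfsg.Agent.Spor.Cent3
import Cfsg.Agent.Known.M22Eq

/-! The centraliser of an involution in the fourth Janko group (generated certificate, helper23). -/

set_option Elab.async false
set_option maxRecDepth 100000
set_option exponentiation.threshold 100000

namespace Cfsg.Agent.Spor.J4C

open Equiv

theorem lc2 : BaseGe (genW (PP J4H.nets) [[1, 0, 2, 0, 2, 0, 2, 0, 1, 0, 1, 0, 2, 0, 2, 0, 1, 0, 1, 0, 1, 0, 2], [0, 1, 0, 2, 0, 2, 0, 2, 0, 1, 0, 1, 0, 2, 0, 2, 0, 1, 0, 1, 0, 1, 0, 2, 0], [1, 0, 1, 0, 1, 0, 1, 0, 2, 0, 2, 0, 2, 0, 1, 0, 2, 0, 2, 0, 1, 0, 1, 0, 1, 0, 2, 0, 2, 0, 1, 0, 2, 0, 1, 0, 2], [0, 1, 0, 1, 0, 1, 0, 1, 0, 2, 0, 2, 0, 2, 0, 1, 0, 2, 0, 2, 0, 1, 0, 1, 0, 1, 0, 2, 0, 2,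 0, 1, 0, 2, 0, 1, 0, 2, 0]]) 96 [3] :=
  BaseGe.stepW (L := 11) (n := 96) J4H.ok (genW_nil_base _) [] [0, 1, 2, 0, 3, 1, 2, 0, 3, 2] (by decide +kernel)

theorem lc1 : BaseGe (genW (PP J4H.nets) [[1, 0, 2, 0, 2, 0, 2, 0, 1, 0, 1, 0, 2, 0, 2, 0, 1, 0, 1, 0, 1, 0, 2], [0, 1, 0, 2, 0, 2, 0, 2, 0, 1, 0, 1, 0, 2, 0, 2, 0, 1, 0, 1, 0, 1, 0, 2, 0], [1, 0, 1, 0, 1, 0, 1, 0, 2, 0, 2, 0, 2, 0, 1, 0, 2, 0, 2, 0, 1, 0, 1, 0, 1, 0, 2, 0, 2, 0, 1, 0, 2, 0, 1, 0, 2], [0, 1, 0, 1, 0, 1, 0, 1, 0, 2, 0, 2, 0, 2, 0, 1, 0, 2, 0, 2, 0, 1, 0, 1, 0, 1, 0, 2, 0, 2, 0, 1, 0, 2, 0, 1, 0, 2, 0], [1]]) 138240 [2, 3] :=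
  BaseGe.stepW (L := 11) (n := 1440) J4H.ok lc2 [[0], [1], [2], [3]] [4, 4, 0, 4, 4, 1, 4, 4, 2, 4, 4, 3, 4, 4, 1, 4, 4, 3, 4, 4, 1] (by decide +kernel)

theorem lc0 : BaseGe (genW (PP J4H.nets) [[1, 0, 2, 0, 2, 0, 2, 0, 1, 0, 1, 0, 2, 0, 2, 0, 1, 0, 1, 0, 1, 0, 2], [0, 1, 0, 2, 0, 2, 0, 2, 0, 1, 0, 1, 0, 2, 0, 2, 0, 1, 0, 1, 0, 1, 0, 2, 0], [1, 0, 1, 0, 1, 0, 1, 0, 2, 0, 2, 0, 2, 0, 1, 0, 2, 0, 2, 0, 1, 0, 1, 0, 1, 0, 2, 0, 2, 0, 1, 0, 2, 0, 1, 0, 2], [0, 1, 0, 1, 0, 1, 0, 1, 0, 2, 0, 2, 0, 2, 0, 1, 0, 2, 0, 2, 0, 1, 0, 1, 0, 1, 0, 2, 0, 2, 0, 1, 0, 2, 0, 1, 0, 2, 0], [1], [0, 3, 0]]) 283115520 [0, 2, 3] :=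
  BaseGe.stepW (L := 11) (n := 2048) J4H.ok lc1 [[0], [1], [2], [3], [4]] [5, 4, 4, 0, 4, 4, 1, 4, 4, 5, 4, 4, 3, 4, 4, 0, 4, 4, 5, 4, 4, 2, 4, 0] (by decide +kernel)

end Cfsg.Agent.Spor.J4C
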