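import Cfsg.Agent.Spor.J4G
import Cfsg.Agent.Spor.Cent3
import Cfsg.Agent.Known.M22Eq
import Cfsg.Agent.Spor.J4CM0

/-! The centraliser of an involution in the fourth Janko group (generated certificate, helper23). -/

set_option Elab.async false
set_option maxRecDepth 100000
set_option exponentiation.threshold 100000

namespace Cfsg.Agent.Spor.J4C

open Equiv

def eM0 : List (Ex × List Ex) := [((.mul (.lt 20) (.lt 0)), [(.mul (.lt 0) (.lt 20))]),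
  ((.mul (.lt 0) (.lt 20)), [(.mul (.lt 20) (.lt 0))]),
  ((.mul (.lt 1) (.lt 20)), [(.mul (.mul (.lt 20) (.mul (.lt 0) (.lt 4))) (.mul (.lt 8) (.mul (.lt 10) (.lt 11))))]),
  ((.mul (.lt 2) (.lt 20)), [(.mul (.lt 20) (.mul (.lt 4) (.lt 9)))]),
  ((.mul (.lt 3) (.lt 20)), [(.mul (.mul (.lt 20) (.mul (.lt 1) (.lt 2))) (.mul (.lt 3) (.mul (.lt 7) (.lt 10))))]),
  ((.mul (.lt 4) (.lt 20)), [(.mul (.lt 20) (.lt 4))]),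
  ((.mul (.lt 5) (.lt 20)), [(.mul (.mul (.lt 20) (.mul (.lt 5) (.lt 7))) (.mul (.lt 8) (.mul (.lt 9) (.lt 11))))]),
  ((.mul (.lt 6) (.lt 20)), [(.mul (.lt 20) (.lt 6))]),
  ((.mul (.lt 7) (.lt 20)), [(.mul (.mul (.lt 20) (.mul (.lt 2) (.lt 6))) (.mul (.lt 9) (.mul (.lt 11) (.lt 12))))]),
  ((.mul (.lt 8) (.lt 20)), [(.mul (.mul (.lt 20) (.mul (.lt 0) (.lt 4))) (.mul (.lt 6) (.mul (.lt 9) (.lt 12))))]),
  ((.mul (.lt 9) (.lt 20)), [(.mul (.lt 20) (.mul (.lt 2) (.lt 4)))]),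
  ((.mul (.lt 10) (.lt 20)), [(.mul (.mul (.lt 20) (.mul (.lt 1) (.lt 6))) (.mul (.lt 8) (.mul (.lt 7) (.lt 12))))]),
  ((.mul (.lt 11) (.lt 20)), [(.mul (.mul (.lt 20) (.lt 7)) (.mul (.lt 8) (.lt 9)))]),
  ((.mul (.lt 12) (.lt 20)), [(.mul (.mul (.lt 20) (.lt 0)) (.mul (.lt 2) (.mul (.lt 6) (.lt 8))))]),
  ((.mul (.lt 13) (.lt 20)), [(.mul (.lt 20) (.lt 13))]),
  ((.lt 14), [(.mul (.mul (.mul (.lt 27) (.lt 31)) (.mul (.lt 15) (.lt 26))) (.mul (.mul (.lt 15) (.lt 1)) (.mul (.lt 7) (.mul (.lt 9) (.lt 10)))))]),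
  ((.lt 16), [(.mul (.mul (.mul (.lt 28) (.mul (.lt 31) (.lt 15))) (.mul (.lt 29) (.mul (.lt 31) (.lt 15)))) (.mul (.mul (.lt 28) (.mul (.lt 15) (.lt 6))) (.mul (.mul (.lt 7) (.lt 13)) (.mul (.lt 8) (.lt 13)))))]),
  ((.lt 17), [(.mul (.mul (.mul (.lt 32) (.mul (.lt 27) (.lt 31))) (.mul (.lt 15) (.mul (.lt 26) (.lt 15)))) (.mul (.mul (.lt 32) (.mul (.lt 0) (.lt 4))) (.mul (.mul (.lt 10) (.lt 11)) (.mul (.lt 13) (.lt 6)))))]),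
  ((.lt 18), [(.mul (.mul (.mul (.lt 28) (.mul (.lt 29) (.lt 31))) (.mul (.mul (.lt 26) (.lt 32)) (.mul (.lt 27) (.lt 29)))) (.mul (.mul (.lt 8) (.mul (.lt 13) (.lt 6))) (.mul (.mul (.lt 13) (.lt 4)) (.mul (.lt 7) (.lt 13)))))]),
  ((.lt 19), [(.mul (.mul (.mul (.lt 26) (.lt 31)) (.mul (.lt 32) (.mul (.lt 31) (.lt 15)))) (.mul (.mul (.lt 32) (.mul (.lt 15) (.lt 2))) (.mul (.lt 6) (.mul (.lt 11) (.lt 12)))))]),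
  ((.lt 20), [(.mul (.mul (.lt 29) (.mul (.lt 31) (.lt 29))) (.mul (.mul (.lt 3) (.lt 12)) (.mul (.lt 13) (.lt 3))))]),
  ((.mul (.lt 26) (.lt 15)), [(.mul (.mul (.mul (.lt 15) (.mul (.lt 27) (.lt 28))) (.mul (.mul (.lt 26) (.lt 30)) (.mul (.lt 28) (.lt 29)))) (.mul (.mul (.lt 2) (.mul (.lt 3) (.lt 6))) (.mul (.mul (.lt 7) (.lt 8)) (.mul (.lt 9) (.lt 12)))))]),
  ((.mul (.lt 27) (.lt 15)), [(.mul (.mul (.mul (.lt 15) (.mul (.lt 27) (.lt 29))) (.mul (.mul (.lt 27) (.lt 30)) (.mul (.lt 26) (.lt 29)))) (.mul (.mul (.lt 1) (.mul (.lt 13) (.lt 6))) (.mul (.mul (.lt 10) (.lt 13)) (.mul (.lt 8) (.lt 13)))))]),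
  ((.mul (.lt 28) (.lt 15)), [(.mul (.mul (.mul (.lt 15) (.lt 26)) (.sq (.mul (.lt 32) (.lt 31)))) (.mul (.mul (.mul (.lt 27) (.lt 28)) (.mul (.lt 0) (.lt 7))) (.mul (.mul (.lt 13) (.lt 4)) (.mul (.lt 13) (.lt 2)))))]),
  ((.mul (.lt 29) (.lt 15)), [(.mul (.mul (.mul (.lt 15) (.mul (.lt 27) (.lt 31))) (.mul (.mul (.lt 32) (.lt 31)) (.mul (.lt 28) (.lt 30)))) (.mul (.mul (.lt 29) (.mul (.lt 32) (.lt 13))) (.mul (.mul (.lt 13) (.lt 12)) (.mul (.lt 13) (.lt 10)))))]),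
  ((.mul (.lt 30) (.lt 15)), [(.mul (.mul (.mul (.lt 15) (.mul (.lt 31) (.lt 32))) (.mul (.lt 31) (.mul (.lt 29) (.lt 31)))) (.mul (.mul (.lt 32) (.mul (.lt 31) (.lt 0))) (.mul (.mul (.lt 13) (.lt 13)) (.mul (.lt 2) (.lt 12)))))]),
  ((.mul (.lt 31) (.lt 15)), [(.mul (.lt 15) (.lt 31))]),
  ((.mul (.lt 32) (.lt 15)), [(.mul (.mul (.mul (.lt 15) (.lt 30)) (.mul (.lt 32) (.mul (.lt 26) (.lt 29)))) (.mul (.mul (.lt 27) (.lt 30)) (.mul (.lt 32) (.mul (.lt 1) (.lt 3)))))]),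
  ((.mul (.lt 15) (.lt 15)), []),
  ((.mul (.lt 26) (.lt 27)), []),
  ((.mul (.lt 27) (.lt 26)), []),
  ((.mul (.sq (.lt 26)) (.lt 26)), [(.mul (.lt 0) (.mul (.lt 3) (.lt 7)))]),
  ((.mul (.lt 28) (.lt 28)), [(.mul (.lt 0) (.mul (.lt 2) (.lt 9)))]),
  ((.mul (.lt 29) (.lt 29)), [(.mul (.mul (.lt 13) (.lt 3)) (.mul (.lt 13) (.lt 12)))]),
  ((.sq (.mul (.lt 28) (.lt 29))), [(.mul (.mul (.lt 0) (.mul (.lt 6) (.lt 12))) (.mul (.lt 13) (.mul (.lt 13) (.lt 3))))]),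
  ((.mul (.sq (.mul (.lt 26) (.lt 28))) (.mul (.lt 26) (.lt 28))), [(.mul (.lt 3) (.mul (.lt 7) (.lt 9)))])]

theorem heM0 : allL eM0 (fun e => Nat.beq (J4M.D.evE m2As e.1) (Ct.evO J4M.D m2As e.2)) = true := by decide +kernel

def eM1 : List (Ex × List Ex) := [((.mul (.sq (.mul (.lt 26) (.lt 29))) (.mul (.lt 26) (.lt 29))), [(.mul (.mul (.lt 2) (.mul (.lt 3) (.lt 5))) (.mul (.lt 6) (.mul (.lt 7) (.lt 11))))]),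
  ((.sq (.mul (.mul (.lt 26) (.lt 28)) (.mul (.lt 27) (.lt 29)))), [(.mul (.mul (.lt 7) (.lt 13)) (.mul (.lt 1) (.mul (.lt 13) (.lt 2))))]),
  ((.mul (.lt 30) (.lt 30)), [(.mul (.mul (.lt 3) (.lt 8)) (.mul (.lt 13) (.mul (.lt 13) (.lt 2))))]),
  ((.mul (.sq (.mul (.lt 28) (.lt 30))) (.mul (.lt 28) (.lt 30))), [(.mul (.mul (.lt 2) (.mul (.lt 3) (.lt 4))) (.mul (.lt 7) (.mul (.lt 10) (.lt 9))))]),
  ((.sq (.mul (.mul (.lt 26) (.lt 29)) (.mul (.lt 30) (.lt 28)))), [(.mul (.mul (.lt 5) (.lt 6)) (.mul (.lt 13) (.mul (.lt 11) (.lt 13))))]),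
  ((.mul (.sq (.mul (.lt 26) (.mul (.lt 30) (.lt 29)))) (.mul (.lt 26) (.mul (.lt 30) (.lt 29)))), [(.mul (.mul (.lt 4) (.lt 8)) (.mul (.lt 10) (.mul (.lt 9) (.lt 11))))]),
  ((.mul (.mul (.mul (.lt 26) (.lt 30)) (.mul (.lt 27) (.mul (.lt 28) (.lt 30)))) (.mul (.mul (.lt 28) (.lt 26)) (.mul (.lt 30) (.mul (.lt 27) (.lt 29))))), [(.mul (.mul (.lt 5) (.lt 6)) (.mul (.lt 10) (.mul (.lt 13) (.lt 11))))]),
  ((.mul (.lt 31) (.lt 31)), []),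
  ((.sq (.sq (.mul (.lt 28) (.lt 31)))), []),
  ((.sq (.mul (.lt 26) (.sq (.mul (.lt 28) (.lt 31))))), [(.mul (.mul (.lt 13) (.lt 13)) (.mul (.lt 12) (.mul (.lt 13) (.lt 3))))]),
  ((.mul (.mul (.mul (.lt 26) (.lt 29)) (.mul (.lt 31) (.mul (.lt 28) (.lt 31)))) (.mul (.mul (.lt 27) (.mul (.lt 30) (.lt 27))) (.mul (.lt 31) (.mul (.lt 26) (.lt 30))))), [(.mul (.mul (.lt 13) (.mul (.lt 4) (.lt 9))) (.mul (.lt 13) (.mul (.lt 6) (.lt 13))))]),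
  ((.mul (.lt 32) (.lt 32)), [(.mul (.mul (.lt 0) (.mul (.lt 4) (.lt 13))) (.mul (.lt 12) (.mul (.lt 13) (.lt 2))))]),
  ((.mul (.mul (.mul (.lt 28) (.lt 30)) (.mul (.lt 28) (.lt 32))) (.mul (.mul (.lt 28) (.lt 30)) (.mul (.lt 32) (.mul (.lt 28) (.lt 32))))), [(.mul (.mul (.lt 3) (.mul (.lt 4) (.lt 5))) (.mul (.lt 13) (.mul (.lt 6) (.lt 13))))]),
  ((.mul (.mul (.lt 26) (.sq (.mul (.lt 28) (.lt 31)))) (.mul (.mul (.lt 32) (.lt 27)) (.mul (.lt 31) (.mul (.lt 26) (.lt 32))))), [(.mul (.mul (.lt 13) (.lt 2)) (.mul (.lt 4) (.mul (.lt 13) (.lt 8))))]),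
  ((.mul (.mul (.lt 26) (.sq (.mul (.lt 28) (.lt 32)))) (.mul (.mul (.lt 29) (.lt 26)) (.mul (.lt 32) (.mul (.lt 28) (.lt 32))))), [(.mul (.mul (.lt 1) (.mul (.lt 2) (.lt 12))) (.mul (.lt 13) (.mul (.lt 6) (.lt 11))))]),
  ((.mul (.mul (.mul (.lt 26) (.lt 29)) (.mul (.lt 30) (.mul (.lt 32) (.lt 27)))) (.mul (.mul (.lt 28) (.mul (.lt 26) (.lt 31))) (.mul (.lt 32) (.mul (.lt 31) (.lt 28))))), [(.mul (.mul (.lt 0) (.mul (.lt 2) (.lt 5))) (.mul (.lt 7) (.mul (.lt 10) (.lt 13))))]),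
  (.mul (.mul (.mul (.lt 24) (.lt 23)) (.mul (.lt 21) (.mul (.lt 18) (.lt 21)))) (.lt 0), [.mul (.mul (.mul (.mul (.mul (.sq (.mul (.lt 18) (.lt 21))) (.mul (.lt 18) (.lt 21))) (.lt 23)) (.sq (.mul (.sq (.mul (.lt 21) (.lt 18))) (.mul (.mul (.lt 21) (.lt 23)) (.mul (.lt 21) (.lt 18)))))) (.mul (.sq (.mul (.mul (.lt 21) (.lt 23)) (.mul (.lt 21) (.lt 18)))) (.mul (.mul (.sq (.mul (.lt 21) (.lt 18))) (.mul (.sq (.mul (.lt 21) (.lt 23))) (.mul (.lt 21) (.lt 23)))) (.mul (.mul (.mul (.mul (.mul (.lt 21) (.lt 18)) (.mul (.lt 21) (.lt 0))) (.sq (.mul (.lt 21) (.lt 23)))) (.sq (.mul (.lt 0) (.mul (.lt 21) (.lt 18))))) (.lt 0))))) (.mul (.mul (.lt 24) (.lt 23)) (.mul (.lt 21) (.mul (.lt 18) (.lt 21))))])]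

theorem heM1 : allL eM1 (fun e => Nat.beq (J4M.D.evE m2As e.1) (Ct.evO J4M.D m2As e.2)) = true := by decide +kernel

def eM2 : List (Ex × List Ex) := [(.mul (.mul (.mul (.mul (.lt 24) (.lt 23)) (.mul (.sq (.mul (.lt 21) (.lt 18))) (.mul (.lt 21) (.lt 18)))) (.mul (.lt 21) (.mul (.lt 23) (.lt 21)))) (.lt 0), [.mul (.mul (.mul (.sq (.mul (.mul (.lt 21) (.lt 23)) (.mul (.lt 21) (.lt 18)))) (.mul (.mul (.lt 21) (.lt 23)) (.mul (.lt 21) (.lt 18)))) (.mul (.mul (.mul (.mul (.mul (.mul (.lt 21) (.lt 18)) (.mul (.lt 21) (.lt 23))) (.mul (.sq (.mul (.lt 21) (.lt 18))) (.mul (.lt 21) (.lt 18)))) (.mul (.lt 21) (.lt 23))) (.sq (.mul (.mul (.sq (.mul (.lt 21) (.lt 23))) (.mul (.lt 21) (.lt 23))) (.mul (.lt 21) (.lt 18))))) (.mul (.mul (.sq (.mul (.lt 21) (.lt 23))) (.mul (.sq (.mul (.lt 21) (.lt 18))) (.mul (.lt 21) (.lt 18))))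 (.mul (.mul (.mul (.mul (.lt 21) (.lt 0)) (.mul (.lt 21) (.lt 18))) (.mul (.sq (.mul (.lt 21) (.lt 23))) (.mul (.lt 21) (.lt 23)))) (.mul (.lt 21) (.lt 18)))))) (.mul (.mul (.mul (.lt 24) (.lt 23)) (.mul (.sq (.mul (.lt 21) (.lt 18))) (.mul (.lt 21) (.lt 18)))) (.mul (.lt 21) (.mul (.lt 23) (.lt 21))))]),
  (.mul (.mul (.mul (.mul (.lt 24) (.mul (.lt 18) (.lt 24))) (.sq (.sq (.mul (.lt 18) (.lt 21))))) (.mul (.lt 23) (.lt 21))) (.lt 0), [.mul (.mul (.mul (.sq (.mul (.mul (.lt 21) (.lt 23)) (.mul (.lt 21) (.lt 18)))) (.mul (.mul (.lt 21) (.lt 23)) (.mul (.lt 21) (.lt 18)))) (.mul (.mul (.mul (.mul (.mul (.mul (.lt 21) (.lt 18)) (.mul (.lt 21) (.lt 23))) (.mul (.sq (.mul (.lt 21) (.lt 18))) (.mul (.lt 21) (.lt 18)))) (.mul (.lt 21) (.lt 23))) (.sq (.mul (.mul (.sq (.mul (.lt 21) (.lt 23))) (.mul (.lt 21) (.lt 23)))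 (.mul (.lt 21) (.lt 18))))) (.mul (.mul (.sq (.mul (.lt 21) (.lt 23))) (.mul (.sq (.mul (.lt 21) (.lt 18))) (.mul (.lt 21) (.lt 18)))) (.mul (.mul (.mul (.mul (.lt 21) (.lt 0)) (.mul (.lt 21) (.lt 18))) (.mul (.sq (.mul (.lt 21) (.lt 23))) (.mul (.lt 21) (.lt 23)))) (.mul (.lt 21) (.lt 18)))))) (.mul (.mul (.mul (.lt 24) (.mul (.lt 18) (.lt 24))) (.sq (.sq (.mul (.lt 18) (.lt 21))))) (.mul (.lt 23) (.lt 21)))]),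
  (.mul (.mul (.sq (.mul (.lt 24) (.lt 18))) (.mul (.mul (.mul (.lt 21) (.lt 18)) (.sq (.mul (.lt 21) (.lt 23)))) (.mul (.mul (.lt 21) (.lt 18)) (.mul (.lt 21) (.mul (.lt 23) (.lt 21)))))) (.lt 0), [.mul (.mul (.mul (.sq (.sq (.mul (.mul (.lt 21) (.lt 18)) (.mul (.lt 21) (.lt 23))))) (.mul (.mul (.lt 21) (.lt 18)) (.mul (.lt 21) (.lt 23)))) (.mul (.sq (.sq (.mul (.lt 21) (.lt 18)))) (.mul (.mul (.mul (.sq (.mul (.lt 21) (.lt 23))) (.lt 21)) (.sq (.mul (.lt 0) (.mul (.lt 21) (.lt 18))))) (.mul (.mul (.lt 0) (.sq (.mul (.lt 21) (.lt 23)))) (.mul (.lt 0) (.mul (.lt 21) (.lt 18))))))) (.mul (.sq (.mul (.lt 24) (.lt 18))) (.mul (.mul (.mul (.lt 21) (.lt 18)) (.sq (.mul (.lt 21) (.lt 23)))) (.mul (.mul (.lt 21) (.lt 18)) (.mul (.lt 21) (.mul (.lt 23) (.lt 21))))))]),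
  (.mul (.mul (.mul (.mul (.mul (.lt 24) (.lt 18)) (.mul (.lt 21) (.mul (.lt 18) (.lt 24)))) (.mul (.sq (.mul (.lt 21) (.lt 18))) (.mul (.lt 21) (.lt 18)))) (.mul (.mul (.sq (.mul (.lt 21) (.lt 23))) (.mul (.lt 21) (.lt 23))) (.lt 21))) (.lt 0), [.mul (.mul (.sq (.mul (.sq (.mul (.lt 18) (.lt 21))) (.mul (.lt 18) (.lt 21)))) (.mul (.mul (.mul (.mul (.mul (.mul (.lt 23) (.mul (.lt 21) (.lt 18))) (.mul (.mul (.lt 21) (.lt 23)) (.mul (.lt 21) (.lt 18)))) (.sq (.sq (.mul (.lt 21) (.lt 23))))) (.mul (.sq (.sq (.mul (.lt 21) (.lt 18)))) (.mul (.lt 21) (.lt 23)))) (.sq (.mul (.sq (.mul (.lt 21) (.lt 23))) (.mul (.lt 21) (.lt 18))))) (.mul (.mul (.mul (.mul (.lt 21) (.lt 0)) (.mul (.lt 21) (.lt 23))) (.sq (.sq (.mul (.lt 21) (.lt 18))))) (.mul (.lt 21) (.lt 23))))) (.mul (.mul (.mul (.mul (.lt 24) (.lt 18)) (.mul (.lt 21)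 (.mul (.lt 18) (.lt 24)))) (.mul (.sq (.mul (.lt 21) (.lt 18))) (.mul (.lt 21) (.lt 18)))) (.mul (.mul (.sq (.mul (.lt 21) (.lt 23))) (.mul (.lt 21) (.lt 23))) (.lt 21)))])]

theorem heM2 : allL eM2 (fun e => Nat.beq (J4M.D.evE m2As e.1) (Ct.evO J4M.D m2As e.2)) = true := by decide +kernel

def eM3 : List (Ex × List Ex) := [(.mul (.mul (.mul (.mul (.mul (.mul (.lt 24) (.lt 23)) (.mul (.lt 25) (.lt 0))) (.mul (.mul (.lt 18) (.lt 24)) (.mul (.lt 21) (.lt 18)))) (.mul (.sq (.mul (.lt 21) (.lt 23))) (.mul (.lt 21) (.lt 23)))) (.lt 21)) (.lt 0), [.mul (.mul (.mul (.mul (.mul (.mul (.sq (.mul (.mul (.lt 23) (.lt 21)) (.mul (.lt 18) (.lt 21)))) (.mul (.sq (.mul (.lt 23) (.lt 21))) (.lt 23))) (.sq (.sq (.mul (.lt 21) (.lt 18))))) (.mul (.mul (.sq (.mul (.lt 21) (.lt 23))) (.mul (.lt 21) (.lt 23))) (.mul (.lt 21) (.lt 18))))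 (.sq (.sq (.mul (.mul (.lt 21) (.lt 18)) (.mul (.lt 21) (.lt 23)))))) (.mul (.mul (.mul (.mul (.lt 21) (.lt 23)) (.mul (.lt 21) (.lt 0))) (.mul (.mul (.lt 21) (.lt 18)) (.mul (.lt 21) (.lt 23)))) (.mul (.mul (.mul (.lt 21) (.lt 18)) (.mul (.lt 21) (.lt 0))) (.mul (.mul (.lt 21) (.lt 23)) (.mul (.lt 0) (.lt 21)))))) (.mul (.mul (.mul (.mul (.mul (.lt 24) (.lt 23)) (.mul (.lt 25) (.lt 0))) (.mul (.mul (.lt 18) (.lt 24)) (.mul (.lt 21) (.lt 18)))) (.mul (.sq (.mul (.lt 21) (.lt 23))) (.mul (.lt 21) (.lt 23)))) (.lt 21))]),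
  ((.mul (.mul (.sq (.mul (.lt 21) (.lt 18))) (.mul (.lt 21) (.lt 18))) (.mul (.mul (.sq (.mul (.lt 21) (.lt 23))) (.mul (.lt 21) (.lt 23))) (.mul (.mul (.mul (.mul (.lt 21) (.mul (.lt 24) (.lt 23))) (.mul (.mul (.lt 25) (.lt 0)) (.mul (.lt 18) (.lt 24)))) (.mul (.sq (.mul (.lt 21) (.lt 18))) (.mul (.lt 21) (.lt 18)))) (.mul (.mul (.sq (.mul (.lt 21) (.lt 23))) (.mul (.lt 21) (.lt 23))) (.lt 21))))), [(.mul (.mul (.mul (.lt 20) (.lt 15)) (.sq (.mul (.lt 18) (.mul (.lt 15) (.lt 19))))) (.mul (.mul (.mul (.lt 18) (.lt 20)) (.mul (.lt 2) (.lt 5))) (.mul (.mul (.lt 12) (.lt 13)) (.mul (.lt 9) (.lt 13)))))])]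

theorem heM3 : allL eM3 (fun e => Nat.beq (J4M.D.evE m2As e.1) (Ct.evO J4M.D m2As e.2)) = true := by decide +kernel

end Cfsg.Agent.Spor.J4C
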