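import Cfsg.Agent.Spor.J4G
import Cfsg.Agent.Spor.Cent3
import Cfsg.Agent.Known.M22Eq
import Cfsg.Agent.Spor.J4CC0
import Cfsg.Agent.Spor.J4CR0
import Cfsg.Agent.Spor.J4CT0
import Cfsg.Agent.Spor.J4CL0
import Cfsg.Agent.Spor.J4CV0

/-! The centraliser of an involution in the fourth Janko group (generated certificate, helper23). -/

set_option Elab.async false
set_option maxRecDepth 100000
set_option exponentiation.threshold 100000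

namespace Cfsg.Agent.Spor.J4C

open Equiv

theorem m1c : ∀ i < 26, Nat.beq (J4M.D.evE J4M.As (getL m1E (.lt 0) i)) (getL m1As 0 i) = true
  | 0, _ => m1c0
  | 1, _ => m1c1
  | 2, _ => m1c2
  | 3, _ => m1c3
  | 4, _ => m1c4
  | 5, _ => m1c5
  | 6, _ => m1c6
  | 7, _ => m1c7
  | 8, _ => m1c8
  | 9, _ => m1c9
  | 10, _ => m1c10
  | 11, _ => m1c11
  | 12, _ => m1c12
  | 13, _ => m1c13
  | 14, _ => m1c14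
  | 15, _ => m1c15
  | 16, _ => m1c16
  | 17, _ => m1c17
  | 18, _ => m1c18
  | 19, _ => m1c19
  | 20, _ => m1c20
  | 21, _ => m1c21
  | 22, _ => m1c22
  | 23, _ => m1c23
  | 24, _ => m1c24
  | 25, _ => m1c25
  | n + 26, h => absurd h (by omega)

theorem m2c : ∀ i < 33, Nat.beq (J4M.D.evE m1As (getL m2E (.lt 0) i)) (getL m2As 0 i) = true
  | 0, _ => m2c0
  | 1, _ => m2c1
  | 2, _ => m2c2
  | 3, _ => m2c3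
  | 4, _ => m2c4
  | 5, _ => m2c5
  | 6, _ => m2c6
  | 7, _ => m2c7
  | 8, _ => m2c8
  | 9, _ => m2c9
  | 10, _ => m2c10
  | 11, _ => m2c11
  | 12, _ => m2c12
  | 13, _ => m2c13
  | 14, _ => m2c14
  | 15, _ => m2c15
  | 16, _ => m2c16
  | 17, _ => m2c17
  | 18, _ => m2c18
  | 19, _ => m2c19
  | 20, _ => m2c20
  | 21, _ => m2c21
  | 22, _ => m2c22
  | 23, _ => m2c23
  | 24, _ => m2c24
  | 25, _ => m2c25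
  | 26, _ => m2c26
  | 27, _ => m2c27
  | 28, _ => m2c28
  | 29, _ => m2c29
  | 30, _ => m2c30
  | 31, _ => m2c31
  | 32, _ => m2c32
  | n + 33, h => absurd h (by omega)

def W1 : List (List ℕ) := [[3], [0, 3, 0, 2, 0, 1, 0, 2, 0, 3, 0, 1, 0, 2, 0, 1], [0, 1, 0, 1, 0, 2, 0, 1, 0, 1, 0, 1, 0, 2, 0, 2, 0, 1, 0, 1, 0, 1, 0, 2, 0, 1, 0, 1, 0, 1, 3, 0, 1, 0, 1, 0, 2, 0, 2, 0, 2, 3], [0, 3, 1, 0, 2, 0, 2, 0, 3, 0, 1, 0, 1, 0, 2, 0], [0, 1, 0, 2, 0, 2, 0, 1, 0, 1, 0, 2, 0, 2, 0, 1, 0, 2, 0, 2, 0, 2, 0, 2, 0, 1, 0, 2, 0, 1, 0, 1, 0, 2, 0, 1, 0, 2, 0, 1, 0, 2, 0, 1], [1, 0, 3, 1, 0, 2, 0, 2, 0, 3, 0, 1, 0, 1, 0, 2, 0, 2], [1, 0, 2, 0, 1, 0, 1, 0, 2, 0, 2, 0, 1, 0, 1, 0, 2, 0, 1, 0, 2, 0, 2, 0, 2, 0, 1, 0, 2, 0, 1, 0, 1, 0, 2, 0, 2, 0, 1, 0, 1, 0, 1, 0, 2], [0, 1, 0, 3, 0, 2, 0, 1, 0, 2, 0, 1, 0, 3, 0, 2,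 0, 1, 0, 2], [2, 0, 1, 0, 2, 0, 2, 0, 2, 0, 1, 0, 2, 0, 2, 0, 2, 0, 1, 0, 1, 0, 1, 0, 1, 0, 1, 0, 2, 0, 2, 0, 2, 0, 2, 0, 2, 0, 1, 0, 2, 0, 1, 0, 1, 3, 0, 2, 0, 1, 0, 1, 0, 3, 0, 2, 0, 1], [1, 0, 1, 0, 1, 0, 2, 0, 2, 0, 3, 0, 1, 0, 1, 0, 2, 0, 2, 0, 2], [2, 0, 1, 0, 2, 0, 2, 0, 2, 0, 2, 0, 2, 0, 2, 0, 2, 0, 1, 0, 1, 0, 1, 0, 2, 0, 2, 0, 2, 0, 2, 0, 1, 0, 1, 0, 1, 0, 2, 0, 2, 3, 0, 1, 0, 2, 0, 2, 0, 1, 0, 2, 3, 0, 3], [1, 0, 2, 0, 3, 0, 1, 0, 2, 0, 2, 0, 2, 0, 2, 0, 3, 0, 1, 0, 1, 0, 1, 0], [2, 0, 2, 0, 2, 0, 2, 0, 1, 0, 1, 0, 2, 0, 2, 0, 2, 0, 2, 0, 1, 0, 1, 0, 1, 0, 1, 0, 1, 0, 2, 0, 2, 0, 2, 0, 1, 0, 2, 0, 1, 0, 1, 3, 0, 2, 0, 1, 0, 2, 0, 2, 3, 0, 2], [2, 0, 1, 0, 2, 0, 2, 0, 2, 0, 2, 0, 1, 0, 2, 0, 1, 0, 1, 0, 2, 0, 2, 0, 1, 0, 2, 0, 2, 0, 2, 0, 2, 0, 1, 0, 2, 0, 2, 0, 2, 0, 2, 0, 1], [1, 0, 2,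 0, 2, 0, 2, 0, 1, 0, 1, 0, 2, 0, 2, 0, 1, 0, 1, 0, 1, 0, 2], [0, 1, 0, 2, 0, 2, 0, 2, 0, 1, 0, 1, 0, 2, 0, 2, 0, 1, 0, 1, 0, 1, 0, 2, 0], [1, 0, 1, 0, 1, 0, 1, 0, 2, 0, 2, 0, 2, 0, 1, 0, 2, 0, 2, 0, 1, 0, 1, 0, 1, 0, 2, 0, 2, 0, 1, 0, 2, 0, 1, 0, 2], [0, 1, 0, 1, 0, 1, 0, 1, 0, 2, 0, 2, 0, 2, 0, 1, 0, 2, 0, 2, 0, 1, 0, 1, 0, 1, 0, 2, 0, 2, 0, 1, 0, 2, 0, 1, 0, 2, 0], [1], [0, 3, 0], [0, 1, 0, 2, 0, 2, 0, 2, 0, 2, 11, 1, 0, 1, 0, 1, 0, 1, 0, 2, 0], [0], [1], [2], [11], [6]]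

noncomputable abbrev Y : ℕ → Cfsg.Spor.J4 := renG (renG (Dce.gD J4G.ι J4L.yK J4G.T 11) W1) (m2E.map Ex.w)

theorem m2 : MAct J4M.D J4G.ρ m2As m2E.length Y :=
  (Ct.mAct J4G.rρ' J4G.main.2.1 (ws := W1) (es := m1E) 1 m1ok (by decide +kernel) m1c).ren 1 m2ok (by decide +kernel) m2c

def eME : List (List ℕ × List ℕ) := eM0.map (fun e => (e.1.w, Ct.ow e.2)) ++ eM1.map (fun e => (e.1.w, Ct.ow e.2)) ++ eM2.map (fun e => (e.1.w, Ct.ow e.2)) ++ eM3.map (fun e => (e.1.w, Ct.ow e.2))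

theorem eM : Ct.Eqs Y eME :=
  ((((Ct.eqs_M m2 (by decide +kernel) heM0).append (Ct.eqs_M m2 (by decide +kernel) heM1)).append (Ct.eqs_M m2 (by decide +kernel) heM2)).append (Ct.eqs_M m2 (by decide +kernel) heM3))

def eK : List (List ℕ × List ℕ) := [([0, 0], []),
  ([13, 13, 13], []),
  ([1, 0], [0, 1]),
  ([2, 0], [0, 2]),
  ([3, 0], [0, 3]),
  ([4, 0], [0, 4]),
  ([5, 0], [0, 5]),
  ([6, 0], [0, 6]),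
  ([7, 0], [0, 7]),
  ([8, 0], [0, 8]),
  ([9, 0], [0, 9]),
  ([10, 0], [0, 10]),
  ([11, 0], [0, 11]),
  ([12, 0], [0, 12]),
  ([13, 0], [0, 13]),
  ([14, 0], [0, 14]),
  ([15, 0], [0, 15]),
  ([16, 0], [0, 16]),
  ([17, 0], [0, 17]),
  ([18, 0], [0, 18]),
  ([19, 0], [0, 19]),
  ([1, 1], []),
  ([2, 2], []),
  ([2, 1], [1, 2, 0]),
  ([3, 3], []),
  ([3, 1], [1, 3]),
  ([3, 2], [2, 3]),
  ([4, 4], []),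
  ([4, 1], [1, 4]),
  ([4, 2], [2, 4]),
  ([4, 3], [3, 4, 0]),
  ([5, 5], []),
  ([5, 1], [1, 5]),
  ([5, 2], [2, 5]),
  ([5, 3], [3, 5]),
  ([5, 4], [4, 5]),
  ([6, 6], []),
  ([6, 1], [1, 6]),
  ([6, 2], [2, 6]),
  ([6, 3], [3, 6]),
  ([6, 4], [4, 6]),
  ([6, 5], [5, 6, 0]),
  ([7, 7], []),
  ([7, 1], [1, 7]),
  ([7, 2], [2, 7]),
  ([7, 3], [3, 7]),
  ([7, 4], [4, 7]),
  ([7, 5], [5, 7]),
  ([7, 6], [6, 7]),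
  ([8, 8], [0]),
  ([8, 1], [1, 8]),
  ([8, 2], [2, 8]),
  ([8, 3], [3, 8]),
  ([8, 4], [4, 8]),
  ([8, 5], [5, 8]),
  ([8, 6], [6, 8]),
  ([8, 7], [7, 8, 0]),
  ([9, 9], []),
  ([9, 1], [1, 9]),
  ([9, 2], [2, 9]),
  ([9, 3], [3, 9]),
  ([9, 4], [4, 9]),
  ([9, 5], [5, 9]),
  ([9, 6], [6, 9]),
  ([9, 7], [7, 9]),
  ([9, 8], [8, 9]),
  ([10, 10], [0]),
  ([10, 1], [1, 10]),
  ([10, 2], [2, 10]),
  ([10, 3], [3, 10]),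
  ([10, 4], [4, 10]),
  ([10, 5], [5, 10]),
  ([10, 6], [6, 10]),
  ([10, 7], [7, 10]),
  ([10, 8], [8, 10]),
  ([10, 9], [9, 10, 0]),
  ([11, 11], []),
  ([11, 1], [1, 11]),
  ([11, 2], [2, 11]),
  ([11, 3], [3, 11]),
  ([11, 4], [4, 11]),
  ([11, 5], [5, 11]),
  ([11, 6], [6, 11]),
  ([11, 7], [7, 11]),
  ([11, 8], [8, 11]),
  ([11, 9], [9, 11]),
  ([11, 10], [10, 11]),
  ([12, 12], [0]),
  ([12, 1], [1, 12]),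
  ([12, 2], [2, 12]),
  ([12, 3], [3, 12]),
  ([12, 4], [4, 12]),
  ([12, 5], [5, 12]),
  ([12, 6], [6, 12]),
  ([12, 7], [7, 12]),
  ([12, 8], [8, 12]),
  ([12, 9], [9, 12]),
  ([12, 10], [10, 12]),
  ([12, 11], [11, 12, 0]),
  ([0, 13], [13, 0]),
  ([1, 13], [13, 0, 5]),
  ([2, 13], [13, 0, 2, 3, 6, 7]),
  ([3, 13], [13, 7, 11]),
  ([4, 13], [13, 1, 4, 9, 10, 11, 12]),
  ([5, 13], [13, 1, 5]),
  ([6, 13], [13, 0, 2, 9]),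
  ([7, 13], [13, 7, 9, 11]),
  ([8, 13], [13, 0, 1, 4, 7, 10, 11]),
  ([9, 13], [13, 0, 3, 7, 9]),
  ([10, 13], [13, 3, 5, 8, 9, 12, 11]),
  ([11, 13], [13, 3, 9]),
  ([12, 13], [13, 3, 4, 7, 8, 9, 12, 11]),
  ([0, 14], [14, 0]),
  ([1, 14], [14, 0, 1]),
  ([2, 14], [14, 2, 3, 5, 10, 9, 11]),
  ([3, 14], [14, 0, 3]),
  ([4, 14], [14, 1, 4, 7, 9, 10]),
  ([5, 14], [14, 5]),
  ([6, 14], [14, 1, 6, 7, 8, 10, 12]),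
  ([7, 14], [14, 0, 5, 11]),
  ([8, 14], [14, 3, 5, 10, 11, 12]),
  ([9, 14], [14, 1, 3, 5, 7, 9, 11]),
  ([10, 14], [14, 1, 3, 10]),
  ([11, 14], [14, 0, 5, 7]),
  ([12, 14], [14, 1, 8, 7, 10]),
  ([0, 15], [15, 0]),
  ([1, 15], [15, 3, 7, 11]),
  ([2, 15], [15, 3, 4, 5, 7, 10, 11]),
  ([3, 15], [15, 0, 1, 5]),
  ([4, 15], [15, 1, 2, 7, 10]),
  ([5, 15], [15, 0, 7, 11]),
  ([6, 15], [15, 0, 1, 4, 8, 10, 11]),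
  ([7, 15], [15, 0, 5, 11]),
  ([8, 15], [15, 2, 1, 3, 6, 11]),
  ([9, 15], [15, 0, 1, 3, 5, 9, 11]),
  ([10, 15], [15, 10, 11]),
  ([11, 15], [15, 11]),
  ([12, 15], [15, 1, 2, 5, 6, 7, 8, 10, 9, 12]),
  ([0, 16], [16, 0]),
  ([1, 16], [16, 5]),
  ([2, 16], [16, 6, 9, 11]),
  ([3, 16], [16, 3]),
  ([4, 16], [16, 4, 7, 8, 9, 11]),
  ([5, 16], [16, 1]),
  ([6, 16], [16, 0, 2, 9]),
  ([7, 16], [16, 0, 3, 7]),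
  ([8, 16], [16, 3, 8, 11]),
  ([9, 16], [16, 0, 9, 11]),
  ([10, 16], [16, 1, 3, 5, 10, 11]),
  ([11, 16], [16, 11]),
  ([12, 16], [16, 1, 3, 7, 10, 9, 12]),
  ([0, 17], [17, 0]),
  ([1, 17], [17, 3]),
  ([2, 17], [17, 4, 8, 12]),
  ([3, 17], [17, 1]),
  ([4, 17], [17, 2, 8, 12]),
  ([5, 17], [17, 7, 11]),
  ([6, 17], [17, 7, 11, 12]),
  ([7, 17], [17, 1, 3, 7]),
  ([8, 17], [17, 6, 5, 8, 12]),
  ([9, 17], [17, 9]),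
  ([10, 17], [17, 10]),
  ([11, 17], [17, 1, 3, 5, 7]),
  ([12, 17], [17, 5, 6]),
  ([0, 18], [18, 0]),
  ([1, 18], [18, 3, 7, 11]),
  ([2, 18], [18, 0, 2, 3, 8, 10]),
  ([3, 18], [18, 0, 5, 7, 9, 11]),
  ([4, 18], [18, 1, 7, 8, 10, 12]),
  ([5, 18], [18, 3]),
  ([6, 18], [18, 4, 6, 7, 11, 12]),
  ([7, 18], [18, 0, 1, 3, 7, 11]),
  ([8, 18], [18, 1, 2, 3, 6, 5, 7, 10]),
  ([9, 18], [18, 0, 1, 3, 9, 11]),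
  ([10, 18], [18, 1, 3, 6, 7, 10, 11]),
  ([11, 18], [18, 0, 3, 5, 7, 9]),
  ([12, 18], [18, 5, 6, 7, 8, 9, 10, 11, 12]),
  ([0, 19], [19, 0]),
  ([1, 19], [19, 1]),
  ([2, 19], [19, 0, 2, 5]),
  ([3, 19], [19, 3]),
  ([4, 19], [19, 4, 7, 11]),
  ([5, 19], [19, 5]),
  ([6, 19], [19, 0, 1, 6]),
  ([7, 19], [19, 7]),
  ([8, 19], [19, 3, 8]),
  ([9, 19], [19, 9]),
  ([10, 19], [19, 10]),
  ([11, 19], [19, 11]),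
  ([12, 19], [19, 0, 3, 12]),
  ([13, 14], [14, 7, 13, 6, 8]),
  ([13, 15], [15, 3, 13, 12, 13, 4]),
  ([13, 16], [16, 7, 13, 8, 13, 6]),
  ([13, 17], [17, 2, 4, 8, 12, 13]),
  ([13, 18], [18, 4, 7, 13, 8]),
  ([13, 19], [19, 5, 9, 13])]

def eD : List (List ℕ × List ℕ) := [([26], [20, 17, 20, 19]),
  ([27], [19, 20, 17, 20]),
  ([28], [16, 14, 20, 17, 16, 18]),
  ([29], [15, 18, 17, 15]),
  ([30], [17, 18, 14, 19, 18]),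
  ([31], [14, 20, 14, 20]),
  ([32], [17, 19, 18, 14, 18, 19])]

def EE : List (List ℕ × List ℕ) := eK ++ eD ++ eME

theorem eqs : Ct.Eqs Y EE :=
  ((Ct.eqs_K J4L.paK (by decide) (by decide +kernel)).append (Ct.eqs_def (by decide +kernel))).append eM

theorem inj : Function.Injective J4G.ι := J4G.main.2.2.1

noncomputable abbrev t : J4H.G := ev J4L.yK tw

theorem zeq : Y 0 = J4G.ι t := Ct.let_K _ (by decide +kernel)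

noncomputable abbrev M : Subgroup Cfsg.Spor.J4 := genL Y [0, 1, 2, 3, 4, 5, 6, 7, 8, 9, 10, 11, 12, 13, 14, 15, 16, 17, 18, 19, 20]

theorem hM : M ≤ Subgroup.centralizer {J4G.ι t} := zeq ▸ eqs.comm (by decide +kernel)

noncomputable def ψ : J4H.G →* Perm ℕ := ex.choose

theorem rX : PermRep J4L.yK nets 2048 4 ψ := Ct.permRep_ren ex.choose_spec _ _

def cs : List (List ℕ) := [[1, 0, 2, 0, 2, 0, 2, 0, 1, 0, 1, 0, 2, 0, 2, 0, 1, 0, 1, 0, 1, 0, 2], [0, 1, 0, 2, 0, 2, 0, 2, 0, 1, 0, 1, 0, 2, 0, 2, 0, 1, 0, 1, 0, 1, 0, 2, 0], [1, 0, 1, 0, 1, 0, 1, 0, 2, 0, 2, 0, 2, 0, 1, 0, 2, 0, 2, 0, 1, 0, 1, 0, 1, 0, 2, 0, 2, 0, 1, 0, 2, 0, 1, 0, 2], [0, 1, 0, 1, 0, 1, 0, 1, 0, 2, 0, 2, 0, 2, 0, 1, 0, 2, 0, 2, 0, 1, 0, 1, 0, 1, 0, 2, 0, 2, 0, 1, 0, 2, 0, 1, 0, 2, 0], [1], [0, 3, 0]]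

theorem stab : Nat.card (genW J4L.yK cs) = 283115520 ∧ ∀ k, ψ k 1 = 1 → k ∈ genW J4L.yK cs :=
  Ct.stab_top rX (L := 11) (n := 1771) J4H.card (by decide)
    (Ct.cardGe_of_rep (Ct.permRep_ren J4H.rep _ _) lc0 (by decide +kernel)) [0, 1, 0, 1, 0, 1, 0, 1, 0, 1, 0, 1, 0, 1, 0, 1, 0, 1, 0, 1, 0, 1, 0, 1, 0, 1, 0, 1, 0, 1, 0, 1, 0, 1, 0, 1, 0] (by decide +kernel)

theorem hS : ∀ c ∈ genW J4L.yK cs, c * t = t * c := Ct.comm_of_keys J4L.paK (by decide) (by decide +kernel)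

theorem hC (k : J4H.G) (h : ψ k 1 = 1) : k * t = t * k := hS k (stab.2 k h)

theorem topX : genW J4L.yK (sing (List.range 4)) = ⊤ := (genW_sing _ _).trans rX.top

theorem h0K : ∀ k ∈ (⊤ : Subgroup J4H.G), k * t = t * k → k ∈ genW J4L.yK cs :=
  topX ▸ Ct.cent_step rX hS (A := orbRun nets (sing (List.range 4)) [0, 1, 0, 1, 0, 1, 0, 1, 0, 1, 0, 1, 0, 1, 0, 1, 0, 1, 0, 1, 0, 1, 0, 1, 0, 1, 0, 1, 0, 1, 0, 1, 0, 1, 0, 1, 0] 2) (fun k _ h => stab.2 k h) (fun _ h _ => h)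
    le_rfl (le_top.trans topX.ge) Ct.hZ_zero (reps := [(2, [0]), (28, [0, 1, 0, 1, 0]), (212, [0, 1, 0, 1, 0, 2, 0, 2, 0])]) (prog := [4, 4, 0, 4, 4, 1, 4, 4, 0, 4, 4, 1, 4, 4, 0, 4, 4, 1, 4, 4, 0, 4, 4]) (by decide +kernel)
    (List.forall_mem_cons.2 ⟨⟨topX.ge trivial, Ct.nc_of_comm hS (Ct.ncomm_of_keys J4L.paK (by decide) (by decide +kernel))⟩,
    List.forall_mem_cons.2 ⟨⟨topX.ge trivial, Ct.nc_of_comm hS (Ct.ncomm_of_keys J4L.paK (by decide) (by decide +kernel))⟩,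
    List.forall_mem_cons.2 ⟨⟨topX.ge trivial, Ct.nc_of_comm hS (Ct.ncomm_of_keys J4L.paK (by decide) (by decide +kernel))⟩,
    fun _ h => nomatch h⟩⟩⟩)

theorem h0 : ∀ c, c * t = t * c → J4G.ι c ∈ M := eqs.h0 h0K [[14], [15], [16], [17], [18], [19]] (by decide +kernel)

theorem hP (k : J4H.G) : (J4G.ρ (J4G.ι k)).val * J4M.D.bM J4M.P = J4M.D.bM J4M.P * ((J4G.ρ (J4G.ι k)).val * J4M.D.bM J4M.P) :=
  (J4G.rρ6.tri (mc := 1) (E := J4M.E) (P := J4M.P) (by decide +kernel) (by decide +kernel)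
    (ws := sing (List.range 4)) (by decide +kernel) (by decide +kernel) (J4G.ι k) (J4G.rng ▸ ⟨k, rfl⟩)).2

theorem G1 : ∀ r, Ct.Good J4G.ι (ev (Dce.gD J4G.ι J4L.yK J4G.T 11) (Dce.pw J4D.tab.at (getL J4D.nm 0 1))) t M r :=
  Ct.good_of_X rX hC F1 cv1 (List.forall_mem_append.2 ⟨(fun _ hr => Ct.good_of_not_mem (Ct.not_mem_Fd J4G.rρ' hP o1_0 _ (List.mem_map_of_mem hr))),
    (List.forall_mem_cons.2 ⟨eqs.g3 inj (Ct.nc_top rX (L := 11) (rw := [1, 0, 1, 0, 1, 0, 2, 0, 1, 0, 1, 0, 2, 0, 1, 0, 1, 0, 1, 0, 2, 0, 1, 0, 2, 0, 1, 0, 2, 0, 1, 0, 1, 0, 1, 0, 2, 0, 2, 0, 2, 0, 1, 0, 3, 0, 2, 0, 2, 3, 0, 1, 3, 0, 1, 3]) (by decide) (by decide +kernel) (by decide +kernel)) [] [24, 23, 21, 18, 21, 0] [18, 21, 18, 21, 18, 21, 23, 21, 18, 21, 18, 21, 23, 21, 18, 21, 18, 21, 18, 21, 23, 21, 18, 21, 23, 21, 18, 21, 23,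 21, 18, 21, 18, 21, 18, 21, 23, 21, 23, 21, 23, 21, 18, 21, 0, 21, 23, 21, 23, 0, 21, 18, 0, 21, 18, 0, 24, 23, 21, 18, 21] (by decide +kernel),
      List.forall_mem_cons.2 ⟨eqs.g4 inj rfl h0 hM [0, 1, 0, 2, 0, 2, 0, 2, 0, 2] [20] (by decide +kernel),
      List.forall_mem_cons.2 ⟨eqs.g3 inj (Ct.nc_top rX (L := 11) (rw := [0, 2, 0, 1, 0, 2, 0, 1, 0, 2, 0, 1, 0, 1, 0, 2, 0, 1, 0, 1, 0, 1, 0, 2, 0, 2, 0, 2, 0, 2, 0, 1, 0, 2, 0, 2, 0, 2, 0, 1, 0, 2, 0, 2, 0, 1, 0, 1, 0, 1, 0, 3, 0, 1, 0, 2, 0, 2, 0, 2, 0, 1]) (by decide) (by decide +kernel) (by decide +kernel)) [] [24, 23, 21, 18, 21, 18, 21, 18, 21, 23, 21, 0] [21, 23, 21, 18, 21, 23, 21, 18, 21, 23, 21, 18, 21, 18, 21, 23, 21, 18, 21, 18, 21, 18, 21, 23, 21, 23, 21, 23, 21, 23, 21, 18, 21, 23, 21, 23, 21, 23, 21, 18, 21, 23, 21, 23, 21, 18, 21, 18,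 21, 18, 21, 0, 21, 18, 21, 23, 21, 23, 21, 23, 21, 18, 24, 23, 21, 18, 21, 18, 21, 18, 21, 23, 21] (by decide +kernel),
      fun _ h => nomatch h⟩⟩⟩)⟩)

theorem G2 : ∀ r, Ct.Good J4G.ι (ev (Dce.gD J4G.ι J4L.yK J4G.T 11) (Dce.pw J4D.tab.at (getL J4D.nm 0 2))) t M r :=
  Ct.good_of_X rX hC F2 cv2 (List.forall_mem_append.2 ⟨(fun _ hr => Ct.good_of_not_mem (Ct.not_mem_Fd J4G.rρ' hP o2_0 _ (List.mem_map_of_mem hr))),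
    (List.forall_mem_cons.2 ⟨eqs.g3 inj (Ct.nc_top rX (L := 11) (rw := [0, 2, 0, 1, 0, 2, 0, 1, 0, 2, 0, 1, 0, 1, 0, 2, 0, 1, 0, 1, 0, 1, 0, 2, 0, 2, 0, 2, 0, 2, 0, 1, 0, 2, 0, 2, 0, 2, 0, 1, 0, 2, 0, 2, 0, 1, 0, 1, 0, 1, 0, 3, 0, 1, 0, 2, 0, 2, 0, 2, 0, 1]) (by decide) (by decide +kernel) (by decide +kernel)) [] [24, 18, 24, 18, 21, 18, 21, 18, 21, 18, 21, 23, 21, 0] [21, 23, 21, 18, 21, 23, 21, 18, 21, 23, 21, 18, 21, 18, 21, 23, 21, 18, 21, 18, 21, 18, 21, 23, 21, 23, 21, 23, 21, 23, 21, 18, 21, 23, 21, 23, 21, 23, 21, 18, 21, 23, 21, 23, 21, 18, 21, 18, 21, 18, 21, 0, 21, 18, 21, 23, 21, 23, 21, 23, 21, 18, 24, 18, 24, 18, 21, 18, 21, 18, 21, 18, 21, 23, 21] (by decide +kernel),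
      List.forall_mem_cons.2 ⟨eqs.g3 inj (Ct.nc_top rX (L := 11) (rw := [0, 1, 0, 2, 0, 1, 0, 2, 0, 1, 0, 2, 0, 1, 0, 2, 0, 1, 0, 2, 0, 1, 0, 1, 0, 1, 0, 1, 0, 2, 0, 2, 0, 3, 0, 1, 3, 0, 1, 3, 0, 2, 0, 2, 3, 0, 1]) (by decide) (by decide +kernel) (by decide +kernel)) [] [24, 18, 24, 18, 21, 18, 21, 23, 21, 23, 21, 18, 21, 23, 21, 0] [21, 18, 21, 23, 21, 18, 21, 23, 21, 18, 21, 23, 21, 18, 21, 23, 21, 18, 21, 23, 21, 18, 21, 18, 21, 18, 21, 18, 21, 23, 21, 23, 21, 0, 21, 18, 0, 21, 18, 0, 21, 23, 21, 23, 0, 21, 18, 24, 18, 24, 18, 21, 18, 21, 23, 21, 23, 21, 18, 21, 23, 21] (by decide +kernel),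
      fun _ h => nomatch h⟩⟩)⟩)

theorem G3 : ∀ r, Ct.Good J4G.ι (ev (Dce.gD J4G.ι J4L.yK J4G.T 11) (Dce.pw J4D.tab.at (getL J4D.nm 0 3))) t M r :=
  Ct.good_of_X rX hC F3 cv3 (List.forall_mem_append.2 ⟨(fun _ hr => Ct.good_of_not_mem (Ct.not_mem_Fd J4G.rρ' hP o3_0 _ (List.mem_map_of_mem hr))),
    (List.forall_mem_cons.2 ⟨eqs.g3 inj (Ct.nc_top rX (L := 11) (rw := [1, 0, 1, 0, 1, 0, 1, 0, 1, 0, 1, 0, 2, 0, 1, 0, 2, 0, 1, 0, 2, 0, 2, 0, 2, 0, 2, 0, 1, 0, 1, 0, 1, 0, 1, 0, 2, 0, 2, 0, 2, 0, 1, 0, 2, 0, 2, 0, 1, 0, 3, 0, 2, 0, 1, 0, 1, 0, 1, 0, 1, 0, 2]) (by decide) (by decide +kernel) (by decide +kernel)) [] [24, 18, 21, 18, 24, 21, 18, 21, 18, 21, 18, 21, 23, 21, 23, 21, 23, 21, 0] [18, 21, 18, 21, 18, 21, 18, 21, 18, 21, 18, 21, 23, 21, 18, 21, 23, 21, 18, 21, 23, 21, 23, 21, 23, 21, 23, 21, 18,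 21, 18, 21, 18, 21, 18, 21, 23, 21, 23, 21, 23, 21, 18, 21, 23, 21, 23, 21, 18, 21, 0, 21, 23, 21, 18, 21, 18, 21, 18, 21, 18, 21, 23, 24, 18, 21, 18, 24, 21, 18, 21, 18, 21, 18, 21, 23, 21, 23, 21, 23, 21] (by decide +kernel),
      fun _ h => nomatch h⟩)⟩)

theorem G4 : ∀ r, Ct.Good J4G.ι (ev (Dce.gD J4G.ι J4L.yK J4G.T 11) (Dce.pw J4D.tab.at (getL J4D.nm 0 4))) t M r :=
  Ct.good_of_X rX hC F4 cv4 (List.forall_mem_append.2 ⟨(fun _ hr => Ct.good_of_not_mem (Ct.not_mem_Fd J4G.rρ' hP o4_0 _ (List.mem_map_of_mem hr))),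
    (List.forall_mem_cons.2 ⟨eqs.g3 inj (Ct.nc_top rX (L := 11) (rw := [2, 0, 1, 0, 2, 0, 1, 0, 2, 0, 2, 0, 2, 0, 1, 0, 1, 0, 1, 0, 1, 0, 2, 0, 2, 0, 2, 0, 1, 0, 1, 0, 2, 0, 1, 0, 2, 0, 1, 0, 2, 0, 1, 0, 2, 0, 2, 0, 3, 0, 1, 0, 2, 0, 1, 0, 3, 0, 2, 3, 0]) (by decide) (by decide +kernel) (by decide +kernel)) [] [24, 23, 25, 0, 18, 24, 21, 18, 21, 23, 21, 23, 21, 23, 21, 0] [23, 21, 18, 21, 23, 21, 18, 21, 23, 21, 23, 21, 23, 21, 18, 21, 18, 21, 18, 21, 18, 21, 23, 21, 23, 21, 23, 21, 18, 21, 18, 21, 23, 21, 18, 21, 23, 21, 18, 21, 23, 21, 18, 21, 23, 21, 23, 21, 0, 21, 18, 21, 23, 21, 18, 21, 0, 21, 23, 0, 21, 24, 23, 25, 0, 18, 24, 21, 18, 21, 23, 21, 23, 21, 23, 21] (by decide +kernel),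
      List.forall_mem_cons.2 ⟨eqs.g4 inj rfl h0 hM [0, 1, 0, 1, 0, 1, 0, 2, 0, 2, 0, 2, 0] [21, 18, 21, 18, 21, 18, 21, 23, 21, 23, 21, 23, 21, 24, 23, 25, 0, 18, 24, 21, 18, 21, 18, 21, 18, 21, 23, 21, 23, 21, 23, 21] (by decide +kernel),
      fun _ h => nomatch h⟩⟩)⟩)

theorem G5 : ∀ r, Ct.Good J4G.ι (ev (Dce.gD J4G.ι J4L.yK J4G.T 11) (Dce.pw J4D.tab.at (getL J4D.nm 0 5))) t M r :=
  Ct.good_of_X rX hC F5 cv5 (List.forall_mem_append.2 ⟨(fun _ hr => Ct.good_of_not_mem (Ct.not_mem_Fd J4G.rρ' hP o5_0 _ (List.mem_map_of_mem hr))),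
    (fun _ h => nomatch h)⟩)

theorem G6 : ∀ r, Ct.Good J4G.ι (ev (Dce.gD J4G.ι J4L.yK J4G.T 11) (Dce.pw J4D.tab.at (getL J4D.nm 0 6))) t M r :=
  Ct.good_of_X rX hC F6 cv6 (List.forall_mem_append.2 ⟨(fun _ hr => Ct.good_of_not_mem (Ct.not_mem_Fd J4G.rρ' hP o6_0 _ (List.mem_map_of_mem hr))),
    (fun _ h => nomatch h)⟩)

theorem cent : Subgroup.centralizer {Y 0} = M := by
  rw [zeq]
  refine le_antisymm (Ct.cent_le (d := fun i => ev (Dce.gD J4G.ι J4L.yK J4G.T 11) (Dce.pw J4D.tab.at (getL J4D.nm 0 i)))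
    J4G.main0.1 fun i (hi : i < 7) => ?_) hM
  interval_cases i
  exacts [by rw [show getL J4D.nm 0 0 = 0 from rfl, Dce.pw_zero]; exact Ct.good_one inj h0, G1, G2, G3, G4, G5, G6]

instance finG : Finite Cfsg.Spor.J4 := Nat.finite_of_card_ne_zero (by rw [J4G.main.2.2.2.2.1]; decide)

theorem z1 : Y 0 ≠ 1 := Ct.let_ne J4L.paK (by decide) inj (by decide +kernel)

theorem ord : orderOf (Y 0) = 2 := orderOf_eq_prime (eqs.pow 0 2 (by decide +kernel)) z1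

theorem dvd : 283115520 ∣ Nat.card (Subgroup.centralizer ({Y 0} : Set Cfsg.Spor.J4)) := by
  rw [← stab.1, ← Subgroup.card_map_of_injective inj, cent]
  exact Subgroup.card_dvd_of_le (Subgroup.map_le_iff_le_comap.2 fun c hc => h0 c (hS c hc))

theorem struct : ∃ (Q N M : Subgroup (Subgroup.centralizer ({Y 0} : Set Cfsg.Spor.J4))), Q.Normal ∧ N.Normal ∧ Q ≤ N ∧
    N ≤ M ∧ Nat.card Q = 2 ^ 13 ∧ Cfsg.IsExtraspecial 2 Q ∧ Nat.card N = 3 * 2 ^ 13 ∧ M.index = 2 ∧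
    ∃ (_ : (N.subgroupOf M).Normal), Cfsg.IsM22 (M ⧸ N.subgroupOf M) := by
  have hc : genL Y [0, 1, 2, 3, 4, 5, 6, 7, 8, 9, 10, 11, 12, 13, 14, 15, 16, 17, 18, 19, 20, 26, 27, 28, 29, 30, 31, 32] ≤ Subgroup.centralizer {Y 0} := (eqs.le (by decide +kernel)).trans cent.ge
  have e := eqs.sub hc
  have t1 := Ct.subG_top cent
  have t2 := top_unique (t1.ge.trans (e.le (xs := [0, 1, 2, 3, 4, 5, 6, 7, 8, 9, 10, 11, 12, 13, 26, 27, 28, 29, 30, 31, 32] ++ [15]) (by decide +kernel)))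
  have hQ := e.normal (qs := [0, 1, 2, 3, 4, 5, 6, 7, 8, 9, 10, 11, 12]) t1 (by decide +kernel)
  have hN := e.normal (qs := [0, 1, 2, 3, 4, 5, 6, 7, 8, 9, 10, 11, 12, 13]) t1 (by decide +kernel)
  have hM := e.normal (qs := [0, 1, 2, 3, 4, 5, 6, 7, 8, 9, 10, 11, 12, 13, 26, 27, 28, 29, 30, 31, 32]) t2 (by decide +kernel)
  have es := (e.sub (xs := [0, 1, 2, 3, 4, 5, 6, 7, 8, 9, 10, 11, 12]) le_rfl).es (m := 5) (Ct.subG_top rfl) rfl (by decide +kernel)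
    (Ct.subG_ne (mem_genL _ (by decide)) (Ct.subG_ne (hc (mem_genL _ (by decide))) z1))
  have cN := Ct.card_ext Nat.prime_three (e.pow_mem (qs := [0, 1, 2, 3, 4, 5, 6, 7, 8, 9, 10, 11, 12]) 13 3 (by decide +kernel))
  rw [if_neg (Ct.not_mem_of_card es.2 (e.pow 13 3 (by decide +kernel)) (Ct.subG_ne (hc (mem_genL _ (by decide)))
    (Ct.let_ne J4L.paK (by decide) inj (by decide +kernel))) (by decide)), es.2] at cN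
  have cA := Ct.card_ext Nat.prime_two (e.pow_mem (qs := [0, 1, 2, 3, 4, 5, 6, 7, 8, 9, 10, 11, 12, 13, 26, 27, 28, 29, 30, 31, 32]) 15 2 (by decide +kernel))
  rw [t2, Subgroup.card_top] at cA
  have le : genL (subG (Subgroup.centralizer {Y 0}) Y) [0, 1, 2, 3, 4, 5, 6, 7, 8, 9, 10, 11, 12, 13] ≤ genL _ [0, 1, 2, 3, 4, 5, 6, 7, 8, 9, 10, 11, 12, 13, 26, 27, 28, 29, 30, 31, 32] := e.le (by decide +kernel)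
  have hd := cA ▸ dvd
  have hn := hN.subgroupOf (genL (subG (Subgroup.centralizer {Y 0}) Y) [0, 1, 2, 3, 4, 5, 6, 7, 8, 9, 10, 11, 12, 13, 26, 27, 28, 29, 30, 31, 32])
  obtain ⟨f⟩ := Known.M22T.equiv
  have : IsSimpleGroup Cfsg.Spor.M22 := Golay.simple_M22
  have := f.symm.isSimpleGroup
  obtain ⟨q⟩ := (e.sub (xs := [0, 1, 2, 3, 4, 5, 6, 7, 8, 9, 10, 11, 12, 13, 26, 27, 28, 29, 30, 31, 32]) le_rfl).quot_lifts _ (qs := [0, 1, 2, 3, 4, 5, 6, 7, 8, 9, 10, 11, 12, 13]) (xs := [26, 27, 28, 29, 30, 31, 32]) Known.M22P.lifts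
    (Ct.genL_subG le).le (Ct.subG_top rfl) (by decide +kernel) fun h => by
      rw [← le_antisymm le (Subgroup.subgroupOf_eq_top.1 h), show Nat.card (genL (subG (Subgroup.centralizer {Y 0}) Y) [0, 1, 2, 3, 4, 5, 6, 7, 8, 9, 10, 11, 12, 13]) = _ from cN] at hd
      split_ifs at hd <;> exact absurd hd (by decide)
  have c1 := (Nat.card_congr q.toEquiv).trans Known.M22P.card
  have c2 := Subgroup.card_eq_card_quotient_mul_card_subgroup ((genL (subG (Subgroup.centralizer {Y 0}) Y) [0, 1, 2, 3, 4, 5, 6, 7, 8, 9, 10, 11, 12, 13]).subgroupOf (genL (subG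
    (Subgroup.centralizer {Y 0}) Y) [0, 1, 2, 3, 4, 5, 6, 7, 8, 9, 10, 11, 12, 13, 26, 27, 28, 29, 30, 31, 32]))
  rw [c1, Nat.card_congr (Subgroup.subgroupOfEquivOfLe le).toEquiv, show Nat.card (genL (subG (Subgroup.centralizer {Y 0}) Y) [0, 1, 2, 3, 4, 5, 6, 7, 8, 9, 10, 11, 12, 13]) = _ from cN] at c2
  refine ⟨_, _, _, hQ, hN, e.le (by decide +kernel), le, es.2, es.1, cN, ?_, hn, q.isSimpleGroup, c1⟩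
  have c3 := (genL (subG (Subgroup.centralizer {Y 0}) Y) [0, 1, 2, 3, 4, 5, 6, 7, 8, 9, 10, 11, 12, 13, 26, 27, 28, 29, 30, 31, 32]).index_mul_card
  rw [cA, c2] at c3
  rw [c2] at hd
  by_cases hs : subG (Subgroup.centralizer {Y 0}) Y 15 ∈ genL (subG (Subgroup.centralizer {Y 0}) Y) [0, 1, 2, 3, 4, 5, 6, 7, 8, 9, 10, 11, 12, 13, 26, 27, 28, 29, 30, 31, 32]
  · rw [if_pos hs] at hd
    exact absurd hd (by decide +kernel)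
  · rw [if_neg hs] at c3
    exact Nat.eq_of_mul_eq_mul_right (Nat.succ_pos _) c3

end Cfsg.Agent.Spor.J4C
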