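import Cfsg.Agent.J4T.C1

/-! The centraliser of a 2B involution in the fourth Janko group (generated certificate, helper23). -/

set_option Elab.async false
set_option maxRecDepth 100000
set_option exponentiation.threshold 100000

namespace Cfsg.Agent.Spor.J4E

open Equiv

def tw : List ℕ := J4T.t0w

noncomputable abbrev nets : List Net := J4C.nets

theorem rX : PermRep J4L.yK nets 2048 4 J4C.ψ := J4C.rX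


def eM0 : List (Ex × List Ex) := [(.mul (.lt 24) (.mul (.mul (.lt 0) (.sq (.mul (.lt 21) (.lt 23)))) (.mul (.mul (.mul (.lt 21) (.lt 0)) (.sq (.mul (.lt 21) (.lt 18)))) (.lt 21))), [.mul (.mul (.mul (.mul (.mul (.mul (.lt 18) (.mul (.lt 21) (.lt 23))) (.sq (.sq (.mul (.lt 21) (.lt 18))))) (.mul (.mul (.mul (.mul (.lt 21) (.lt 23)) (.mul (.lt 21) (.lt 18))) (.sq (.mul (.lt 21) (.lt 23)))) (.mul (.lt 21) (.lt 18)))) (.sq (.sq (.mul (.mul (.lt 21) (.lt 18)) (.mul (.lt 21) (.lt 23)))))) (.mul (.sq (.mul (.lt 21) (.lt 23))) (.mul (.mul (.mul (.lt 21) (.lt 0)) (.sq (.mul (.lt 21) (.lt 18)))) (.mul (.lt 21) (.lt 0))))) (.lt 24)]),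
  (.mul (.mul (.mul (.lt 24) (.mul (.lt 23) (.lt 25))) (.mul (.lt 0) (.mul (.lt 18) (.lt 24)))) (.mul (.mul (.lt 0) (.sq (.mul (.lt 21) (.lt 23)))) (.mul (.mul (.mul (.lt 21) (.lt 0)) (.sq (.mul (.lt 21) (.lt 18)))) (.lt 21))), [.mul (.mul (.sq (.mul (.sq (.mul (.lt 18) (.lt 21))) (.mul (.lt 18) (.lt 21)))) (.mul (.mul (.mul (.mul (.lt 23) (.mul (.lt 21) (.lt 18))) (.mul (.mul (.lt 21) (.lt 23)) (.mul (.lt 21) (.lt 18)))) (.sq (.sq (.mul (.lt 21) (.lt 23))))) (.mul (.sq (.sq (.mul (.lt 21) (.lt 18)))) (.mul (.sq (.sq (.mul (.lt 21) (.lt 23)))) (.mul (.mul (.mul (.sq (.mul (.lt 21) (.lt 18))) (.lt 0)) (.sq (.mul (.mul (.lt 21) (.lt 18)) (.mul (.lt 0) (.mul (.lt 21) (.lt 23)))))) (.mul (.lt 21) (.lt 18))))))) (.mul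 (.mul (.lt 24) (.mul (.lt 23) (.lt 25))) (.mul (.lt 0) (.mul (.lt 18) (.lt 24))))])]

theorem heM0 : allL eM0 (fun e => Nat.beq (J4M.D.evE J4C.m2As e.1) (Ct.evO J4M.D J4C.m2As e.2)) = true := by decide +kernel

def eME : List (List ℕ × List ℕ) := eM0.map (fun e => (e.1.w, Ct.ow e.2))

theorem eM : Ct.Eqs J4C.Y eME :=
  (Ct.eqs_M J4C.m2 (by decide +kernel) heM0)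

def r1_0 : List (ℕ × List ℕ) := [(62, [2])]

theorem o1_0 : Ct.chkOut J4M.D J4M.As J4M.iv (J4G.R.map (renW J4G.Rp)) 11 1 J4M.P J4C.Yv (Dce.pw J4D.tab.at (getL J4D.nm 0 1)) tw
    (r1_0.map (·.2)) = true := by decide +kernel

def f1 : List (List ℕ) := [[0], [0, 1, 0, 1, 0, 2, 0, 2, 0, 1, 0, 1, 0, 1, 0, 2, 0, 1, 0, 2, 0, 1, 0, 2, 0, 1, 0, 2, 0, 2, 0, 2, 0, 1, 0, 1, 0, 2, 0, 2, 0, 2, 0, 2, 0, 1, 0, 2, 0, 3, 0, 1, 0, 2, 3, 0, 1, 0, 1], [0, 1, 0, 2, 0, 1, 0, 2, 0, 1, 0, 2, 0, 1, 0, 1, 0, 1, 0, 2, 0, 2, 0, 2, 0, 2, 0, 2, 0, 1, 0, 2, 0, 1, 0, 1, 0, 2, 0, 1, 0, 2, 0, 1, 0, 2, 0, 2, 0, 2, 0, 2, 0, 2, 3, 0, 1, 0, 2, 0, 1, 3, 0, 1, 0], [2, 0, 2, 0, 1, 0, 1, 0, 1, 0, 1, 0, 2, 0, 1, 0, 2, 0, 2, 0, 2, 0, 1, 0, 1, 0, 2, 0, 1, 0,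 2, 0, 1, 0, 2, 0, 1, 0, 1, 0, 1, 0, 2, 0, 1, 0, 2, 0, 1, 0, 1, 0, 2, 0, 1, 0, 3, 0, 1, 3, 0, 2, 0], [0, 1, 0, 2, 0, 1, 0, 1, 0, 2, 0, 1, 0, 1, 0, 2, 0, 2, 0, 2, 0, 2, 0, 2, 0, 1, 0, 1, 0, 2, 0, 2, 0, 2, 0, 1, 0, 2, 0, 2, 0, 1, 0, 1, 0, 1, 0, 3, 0, 2, 3, 0, 1, 0, 2, 3, 0, 1]]

theorem F1 : genW J4L.yK f1 ≤ Ct.Fd J4G.ι (ev (Dce.gD J4G.ι J4L.yK J4G.T 11) (Dce.pw J4D.tab.at (getL J4D.nm 0 1))) :=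
  Ct.genW_le_of_keys J4L.paK (by decide) (Ct.gens_Fd J4G.hyp J4D.steps (gens := [4, 5, 6, 7, 8])
    (fs := [[4, 6, 5, 6, 5, 6, 7, 4, 7, 5, 8, 4, 4, 7], [6, 8, 4, 6, 9, 6, 5, 9, 7, 6, 9], [5, 7, 4, 4, 7, 4, 6, 8, 9, 6, 8, 6, 9, 5], [6, 5, 8, 9, 4, 6, 9, 7, 5, 6, 9], [5, 6, 5, 6, 7, 5, 6, 5, 7, 6, 4, 6, 9, 6, 8, 6, 4]]) (by decide +kernel)) [[0], [1], [2], [3], [4]] (by decide +kernel)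

def s1 : List (ℕ × List ℕ) := [(36, [])]

theorem cv1 : Ct.chkCov nets 4 (sing (List.range 4)) f1 (r1_0 ++ s1) 36
    (orbRun nets f1 [0, 4, 0, 3, 0, 1, 0, 4, 0, 3, 0, 4, 0, 4] (Ct.startM (r1_0 ++ s1))) 0 [0, 4, 0, 3, 0, 1, 0, 4, 0, 3, 0, 4, 0, 4] = true := by decide +kernel

def r2_0 : List (ℕ × List ℕ) := [(36, []), (65, [0]), (321, [1, 0, 2, 0, 1, 0, 1, 0])]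

theorem o2_0 : Ct.chkOut J4M.D J4M.As J4M.iv (J4G.R.map (renW J4G.Rp)) 11 1 J4M.P J4C.Yv (Dce.pw J4D.tab.at (getL J4D.nm 0 2)) tw
    (r2_0.map (·.2)) = true := by decide +kernel

def f2 : List (List ℕ) := [[1, 0, 1, 0, 1, 0, 2, 0, 1, 0, 1, 0, 1, 0, 2, 0, 2, 0, 1, 0, 2, 0, 1, 0, 2, 0, 2, 0, 2, 0, 2, 0, 1, 0, 1, 0, 1, 0, 2, 0, 2, 0, 2, 0, 2, 0, 1, 3, 0, 1, 3, 0], [1, 0, 1, 0, 2, 0, 2, 0, 2, 0, 1, 0, 1, 0, 1, 0, 1, 0, 2, 0, 2, 0, 2, 0, 2, 0, 1, 0, 2, 0, 2, 0, 2, 0, 1, 0, 1, 0, 2, 0, 2, 0, 1, 0, 1, 0, 1, 3, 0, 1, 3, 0, 1, 0, 1, 0, 1, 3, 0], [0, 1, 0, 1, 0, 1, 0, 2, 0, 1, 0, 2, 0, 2, 0, 1, 0, 1, 0, 1, 0, 2, 0, 1, 0, 1, 0, 1, 0, 1, 0, 1, 0, 1, 0, 1, 0, 2, 0, 1, 0, 1, 0, 3, 0, 1, 0, 2, 3, 0, 2, 0, 2], [0, 1, 0, 1, 0, 2,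 0, 2, 0, 1, 0, 1, 0, 2, 0, 2, 0, 1, 0, 2, 0, 1, 0, 2, 0, 2, 0, 2, 0, 2, 0, 1, 0, 2, 0, 1, 0, 2, 0, 2, 0, 1, 0, 2, 0, 1, 0, 2, 3, 0, 1, 0, 2, 0, 1, 0, 1, 3, 0], [2, 0, 1, 0, 2, 0, 1, 0, 2, 0, 2, 0, 2, 0, 1, 0, 2, 0, 2, 0, 2, 0, 1, 0, 2, 0, 2, 0, 2, 0, 2, 0, 1, 0, 1, 0, 2, 3, 0, 1, 0, 2, 0, 1, 0, 2, 0, 1, 0, 1, 3], [0, 1, 0, 2, 0, 2, 0, 2, 0, 1, 0, 2, 0, 1, 0, 1, 0, 1, 0, 2, 0, 1, 0, 1, 0, 1, 0, 2, 0, 2, 0, 1, 0, 2, 0, 1, 0, 1, 0, 1, 0, 2, 0, 1, 0, 2, 0, 1, 0, 1, 0, 1, 0, 1, 0, 3, 0, 2, 0, 1, 0, 2, 3, 0, 2, 0, 2, 0, 2, 0], [0, 2, 0, 2, 0, 2, 0, 2, 0, 2, 0, 1, 0, 2, 0, 2, 0, 2, 0, 2, 0, 1, 0, 1, 0, 1, 0, 1, 0, 1, 0, 1, 0, 1, 0, 2, 0, 1, 0, 2, 0, 1, 0, 1, 0, 1, 0, 1, 0, 2, 0, 2, 0, 1, 3, 0, 1, 0, 1, 0, 1, 0, 2, 0, 3,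 0, 3], [0, 2, 0, 1, 0, 1, 0, 1, 0, 2, 0, 2, 0, 1, 0, 2, 0, 1, 0, 1, 0, 2, 0, 1, 0, 1, 0, 1, 0, 2, 0, 1, 0, 1, 0, 1, 0, 1, 0, 1, 0, 1, 0, 2, 0, 1, 0, 3, 0, 2, 0, 1, 3, 0, 1, 0, 3], [0, 1, 0, 2, 0, 2, 0, 2, 0, 1, 0, 2, 0, 1, 0, 1, 0, 2, 0, 2, 0, 2, 0, 2, 0, 2, 0, 1, 0, 2, 0, 2, 0, 2, 0, 2, 0, 1, 0, 2, 0, 2, 0, 2, 0, 1, 0, 3, 0, 1, 3, 0, 1, 0, 1, 0, 1, 0, 1]]

theorem F2 : genW J4L.yK f2 ≤ Ct.Fd J4G.ι (ev (Dce.gD J4G.ι J4L.yK J4G.T 11) (Dce.pw J4D.tab.at (getL J4D.nm 0 2))) :=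
  Ct.genW_le_of_keys J4L.paK (by decide) (Ct.gens_Fd J4G.hyp J4D.steps (gens := [13, 14, 15, 16, 17, 18, 21, 23, 28])
    (fs := [[4, 6, 4, 6, 4, 7, 5, 6, 7, 4, 8, 4, 9, 4, 6, 9, 4, 8], [5, 7, 4, 6, 5, 7, 6, 5, 8, 9, 4, 6, 8, 9, 6], [7, 5, 6, 7, 4, 8, 9, 5, 6, 7, 5, 9, 6, 4], [6, 4, 4, 7, 5, 6, 4, 7, 5, 6, 5, 7, 9, 5, 6, 7, 9, 7], [4, 6, 4, 6, 4, 6, 8, 5, 7, 5, 6, 7, 4, 9, 5, 6, 4, 9, 8, 6], [7, 4, 4, 6, 7, 6, 4, 6, 9, 6, 5, 9, 7, 6], [2, 9, 6, 9, 1, 6, 4, 4, 7, 4, 4, 7, 5, 6, 7, 4, 9, 4, 6, 8, 9, 7], [9, 2, 6, 1, 6, 7, 4, 6, 7, 5, 6, 5, 7, 6, 9, 5, 6, 4, 9, 6, 7], [2, 6, 1, 9, 2, 4, 4, 6, 4, 6, 7, 4, 6, 8, 5, 6, 5, 7, 9, 4, 4, 6, 9, 4, 6]]) (by decide +kernel)) [[0], [1], [2], [3], [4], [5], [6], [7], [8]] (by decide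 +kernel)

def s2 : List (ℕ × List ℕ) := []

theorem cv2 : Ct.chkCov nets 4 (sing (List.range 4)) f2 (r2_0 ++ s2) 36
    (orbRun nets f2 [4, 2, 1, 8, 7, 2, 6, 8, 0, 4, 2] (Ct.startM (r2_0 ++ s2))) 0 [4, 2, 1, 8, 7, 2, 6, 8, 0, 4, 2] = true := by decide +kernel

def r3_0 : List (ℕ × List ℕ) := [(36, []), (65, [0]), (64, [1])]

theorem o3_0 : Ct.chkOut J4M.D J4M.As J4M.iv (J4G.R.map (renW J4G.Rp)) 11 1 J4M.P J4C.Yv (Dce.pw J4D.tab.at (getL J4D.nm 0 3)) tw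
    (r3_0.map (·.2)) = true := by decide +kernel

def f3 : List (List ℕ) := [[1, 0, 2, 0, 2, 0, 1, 0, 2, 0, 2, 0, 2, 0, 2, 0, 2, 0, 1, 0, 2, 0, 1, 0, 1, 0, 1, 0, 2, 0, 1, 0, 1, 0, 2, 0, 2, 0, 1, 0, 1, 0, 2, 0, 1, 0, 3, 0, 2, 3, 0, 1, 0, 1, 0, 2, 3, 0, 1, 0, 2], [1, 0, 2, 0, 2, 0, 1, 0, 2, 0, 2, 0, 2, 0, 2, 0, 2, 0, 1, 0, 2, 0, 2, 0, 2, 0, 2, 0, 1, 0, 2, 0, 1, 0, 1, 0, 1, 0, 1, 0, 1, 0, 2, 0, 1, 0, 1, 0, 1, 0, 1, 0, 3, 0, 1, 0, 3, 0, 1, 3, 0, 1, 3, 0, 3], [2, 0, 1, 0, 1, 0, 2, 0, 2, 0, 2, 0, 1, 0, 1, 0, 1, 0, 1, 0, 2, 0, 2, 0, 2, 0, 1, 0, 1, 0, 1, 0, 1, 0, 1, 0, 2, 0, 1, 0, 2, 0, 2, 0, 2, 0, 2, 0, 1, 0, 1, 0, 2, 0, 1, 0, 2, 0, 3, 0, 1, 0, 2, 3, 0, 1, 3, 0, 2, 0, 1, 3], [0, 1, 0, 2, 0, 2, 0, 2, 0, 2, 0, 2, 0, 2, 0,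 2, 0, 1, 0, 1, 0, 1, 0, 1, 0, 1, 0, 2, 0, 2, 0, 2, 0, 1, 0, 2, 0, 2, 0, 2, 0, 1, 0, 1, 0, 2, 0, 2, 0, 2, 0, 2, 0, 2, 0, 1, 0, 2, 0, 3, 0, 1, 3, 0, 1, 0, 2, 0, 1, 0, 1, 0]]

theorem F3 : genW J4L.yK f3 ≤ Ct.Fd J4G.ι (ev (Dce.gD J4G.ι J4L.yK J4G.T 11) (Dce.pw J4D.tab.at (getL J4D.nm 0 3))) :=
  Ct.genW_le_of_keys J4L.paK (by decide) (Ct.gens_Fd J4G.hyp J4D.steps (gens := [32, 33, 34, 42])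
    (fs := [[4, 6, 7, 4, 4, 7, 4, 6, 4, 7, 9, 5, 6, 4, 6], [4, 6, 4, 4, 6, 7, 4, 4, 6, 4, 8, 4, 7, 4, 9, 4, 4, 6, 7, 9, 6, 4], [4, 6, 4, 6, 4, 7, 4, 6, 4, 4, 7, 9, 6, 8, 9, 6, 8], [4, 2, 9, 3, 7, 1, 6, 4, 6, 7, 5, 6, 7, 5, 6, 8, 9, 7, 6, 4, 9]]) (by decide +kernel)) [[0], [1], [2], [3]] (by decide +kernel)

def s3 : List (ℕ × List ℕ) := []

theorem cv3 : Ct.chkCov nets 4 (sing (List.range 4)) f3 (r3_0 ++ s3) 36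
    (orbRun nets f3 [0, 1, 0, 2, 3, 0, 1, 0, 3, 0, 0, 0] (Ct.startM (r3_0 ++ s3))) 0 [0, 1, 0, 2, 3, 0, 1, 0, 3, 0, 0, 0] = true := by decide +kernel

def r4_0 : List (ℕ × List ℕ) := [(64, [1])]

theorem o4_0 : Ct.chkOut J4M.D J4M.As J4M.iv (J4G.R.map (renW J4G.Rp)) 11 1 J4M.P J4C.Yv (Dce.pw J4D.tab.at (getL J4D.nm 0 4)) tw
    (r4_0.map (·.2)) = true := by decide +kernel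

def f4 : List (List ℕ) := [[1, 0, 1, 0, 2, 0, 2, 0, 2, 0, 2, 0, 1, 0, 1, 0, 1, 0, 1, 0, 1, 0, 1, 0, 2, 0, 1, 0, 2, 0, 2, 0, 2, 0, 2, 0, 1, 0, 2, 0, 1, 0, 2, 0, 2, 0, 1, 0, 2, 3, 0, 2, 0, 2, 3, 0, 1, 0, 1], [1, 0, 2, 0, 1, 0, 2, 0, 1, 0, 1, 0, 2, 0, 2, 0, 1, 0, 1, 0, 1, 0, 2, 0, 2, 0, 1, 0, 2, 0, 2, 0, 2, 0, 1, 0, 1, 0, 2, 0, 2, 0, 1, 3, 0, 1, 0, 2, 0, 2, 0, 2, 0, 2], [2, 0, 1, 0, 2, 0, 1, 0, 2, 0, 2, 0, 1, 0, 1, 0, 1, 0, 2, 0, 1, 0, 1, 0, 2, 0, 2, 0, 2, 0, 2, 0, 2, 0, 1, 0, 2, 0, 2, 0, 2, 0, 1, 0, 1, 0, 2, 0, 3, 0, 1, 3, 0, 2, 0, 2, 0, 1, 0, 2], [1, 0, 1, 0, 1, 0, 2, 0, 2, 0, 1, 0, 1, 0, 2, 0, 1, 0, 2, 0, 2, 0, 2, 0, 2, 0, 2, 0, 1, 0, 2, 0, 1, 0, 1, 0, 1, 0, 1, 0, 1, 0, 1, 0, 1, 0, 1, 0, 2, 0, 2, 0, 3, 0, 2, 0, 2,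 0, 2, 0, 1, 0], [0, 1, 0, 2, 0, 1, 0, 2, 0, 2, 0, 1, 0, 2, 0, 1, 0, 1, 0, 1, 0, 1, 0, 2, 0, 2, 0, 2, 0, 2, 0, 2, 0, 1, 0, 1, 0, 2, 0, 2, 0, 2, 0, 1, 0, 1, 0, 1, 0, 2, 0, 2, 0, 1, 3, 0, 1, 0, 2, 0, 1, 0, 1, 0, 3], [1, 0, 1, 0, 2, 0, 2, 0, 1, 0, 2, 0, 1, 0, 1, 0, 1, 0, 2, 0, 1, 0, 1, 0, 2, 0, 2, 0, 1, 0, 2, 0, 1, 0, 1, 0, 2, 0, 2, 0, 1, 0, 1, 0, 2, 0, 1, 0, 2, 0, 1, 0, 1, 0, 2, 3, 0, 2, 0, 1, 3, 0, 1, 0, 1, 0, 1, 0, 1], [0, 1, 0, 2, 0, 1, 0, 1, 0, 1, 0, 2, 0, 2, 0, 1, 0, 1, 0, 1, 0, 2, 0, 2, 0, 1, 0, 2, 0, 1, 0, 1, 0, 2, 0, 1, 0, 1, 0, 1, 0, 1, 0, 1, 0, 2, 0, 1, 0, 1, 0, 3, 0, 2, 0, 1, 0, 1, 0, 1, 0, 1, 3, 0]]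

theorem F4 : genW J4L.yK f4 ≤ Ct.Fd J4G.ι (ev (Dce.gD J4G.ι J4L.yK J4G.T 11) (Dce.pw J4D.tab.at (getL J4D.nm 0 4))) :=
  Ct.genW_le_of_keys J4L.paK (by decide) (Ct.gens_Fd J4G.hyp J4D.steps (gens := [49, 50, 51, 52, 53, 55, 57])
    (fs := [[4, 6, 4, 6, 4, 6, 7, 6, 4, 7, 5, 6, 5, 7, 9, 5, 6, 7, 5, 9, 6], [4, 4, 6, 4, 8, 6, 5, 8, 6, 7, 9, 4, 4, 9, 8], [5, 6, 7, 5, 8, 5, 6, 7, 5, 7, 9, 5, 8, 6, 9, 7], [6, 4, 4, 7, 4, 6, 8, 4, 7, 6, 8, 9, 6, 8, 9, 8, 6], [4, 6, 5, 6, 5, 7, 4, 6, 5, 7, 4, 9, 6, 5, 9, 6, 9], [6, 8, 1, 9, 2, 6, 5, 6, 5, 8, 5, 7, 5, 7, 6, 8, 5, 9, 4, 6, 9, 6], [7, 3, 4, 4, 6, 5, 7, 5, 8, 4, 6, 4, 7, 9, 5, 9, 6, 7]]) (by decide +kernel)) [[0], [1], [2], [3], [4], [5], [6]] (by decide +kernel)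

def s4 : List (ℕ × List ℕ) := [(36, [])]

theorem cv4 : Ct.chkCov nets 4 (sing (List.range 4)) f4 (r4_0 ++ s4) 36
    (orbRun nets f4 [1, 2, 6, 5, 4, 1, 6, 5, 3, 6, 2] (Ct.startM (r4_0 ++ s4))) 0 [1, 2, 6, 5, 4, 1, 6, 5, 3, 6, 2] = true := by decide +kernel

def r5_0 : List (ℕ × List ℕ) := [(36, []), (114, [0, 2]), (388, [0, 1, 0, 1])]

theorem o5_0 : Ct.chkOut J4M.D J4M.As J4M.iv (J4G.R.map (renW J4G.Rp)) 11 1 J4M.P J4C.Yv (Dce.pw J4D.tab.at (getL J4D.nm 0 5)) tw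
    (r5_0.map (·.2)) = true := by decide +kernel

def f5 : List (List ℕ) := [[1, 0, 2, 0, 1, 0, 2, 0, 2, 0, 2, 0, 1, 0, 2, 0, 2, 0, 2, 0, 2, 0, 1, 0, 1, 0, 2, 0, 1, 0, 2, 0, 1, 0, 2, 0, 2, 0, 2, 0, 1, 0, 1, 0, 3, 0, 1, 3, 0, 1, 0, 2, 0, 3, 0, 1, 3, 0], [0, 1, 0, 1, 0, 1, 0, 1, 0, 1, 0, 2, 0, 1, 0, 2, 0, 1, 0, 2, 0, 1, 0, 1, 0, 1, 0, 2, 0, 1, 0, 1, 0, 1, 0, 1, 0, 2, 0, 1, 0, 1, 0, 2, 0, 2, 0, 1, 0, 2, 0, 2, 0, 1, 3, 0, 1, 0, 1, 0, 1, 0, 1, 0, 1, 0, 1, 3], [1, 0, 1, 0, 2, 0, 1, 0, 1, 0, 1, 0, 1, 0, 2, 0, 2, 0, 2, 0, 1, 0, 1, 0, 1, 0, 1, 0, 2, 0, 1, 0, 2, 0, 1, 0, 2, 0, 2, 0, 1, 0, 1, 0, 1, 0, 1, 0, 2, 0, 2, 3, 0, 1, 3, 0, 1, 0, 2, 0, 2, 0, 2, 0, 3], [0, 2, 0, 2, 0, 1, 0, 2, 0, 1, 0, 1, 0, 1, 0, 1, 0, 1, 0, 2, 0, 2,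 0, 1, 0, 2, 0, 1, 0, 1, 0, 2, 0, 2, 0, 2, 0, 2, 0, 2, 0, 2, 0, 2, 0, 1, 0, 1, 0, 2, 0, 2, 0, 3, 0, 1, 0, 1, 0, 1, 0, 1, 0, 1, 0, 3], [0, 1, 0, 1, 0, 2, 0, 1, 0, 2, 0, 1, 0, 2, 0, 1, 0, 1, 0, 1, 0, 2, 0, 1, 0, 2, 0, 1, 0, 1, 0, 1, 0, 2, 0, 1, 0, 2, 0, 1, 0, 1, 0, 3, 0, 1, 0, 1, 0, 1, 3, 0], [2, 0, 1, 0, 2, 0, 1, 0, 2, 0, 2, 0, 1, 0, 1, 0, 1, 0, 1, 0, 2, 0, 1, 0, 2, 0, 2, 0, 2, 0, 2, 0, 1, 0, 1, 0, 1, 0, 1, 0, 1, 0, 2, 0, 1, 0, 1, 0, 1, 0, 1, 0, 3, 0, 1, 3, 0, 1, 0, 2, 0, 2, 0, 2, 0, 3], [0, 2, 0, 1, 0, 1, 0, 1, 0, 2, 0, 2, 0, 2, 0, 2, 0, 2, 0, 2, 0, 2, 0, 1, 0, 2, 0, 2, 0, 1, 0, 2, 0, 1, 0, 1, 0, 2, 0, 2, 0, 2, 0, 1, 0, 2, 0, 2, 0, 3, 0, 1, 0, 2, 0, 3, 0, 2, 0, 1], [0, 1, 0, 1, 0, 1, 0, 2, 0, 2, 0, 2, 0, 2, 0, 2, 0,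 1, 0, 1, 0, 2, 0, 1, 0, 1, 0, 1, 0, 1, 0, 1, 0, 1, 0, 2, 0, 1, 0, 1, 0, 2, 0, 2, 0, 2, 0, 1, 0, 1, 0, 3, 0, 2, 3, 0, 2, 0, 2, 0, 1, 0, 1, 3, 0]]

theorem F5 : genW J4L.yK f5 ≤ Ct.Fd J4G.ι (ev (Dce.gD J4G.ι J4L.yK J4G.T 11) (Dce.pw J4D.tab.at (getL J4D.nm 0 5))) :=
  Ct.genW_le_of_keys J4L.paK (by decide) (Ct.gens_Fd J4G.hyp J4D.steps (gens := [62, 63, 64, 65, 69, 74, 79, 81])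
    (fs := [[5, 6, 7, 6, 9, 6, 8, 9, 6, 4], [5, 6, 4, 4, 7, 5, 6, 7, 4, 4, 8, 9, 6, 8, 9, 6, 4, 6], [6, 5, 8, 6, 4, 4, 7, 9, 6, 5, 7, 5], [6, 4, 6, 5, 7, 6, 5, 6, 5, 8, 4, 9, 5, 6, 4, 8], [9, 2, 6, 1, 4, 6, 5, 6, 5, 7, 6, 4, 4, 8, 5, 8, 9, 5, 6, 7, 6], [5, 6, 0, 2, 0, 1, 6, 4, 6, 5, 7, 4, 4, 7, 6, 5, 6, 9, 6, 5, 7, 5], [5, 2, 9, 5, 6, 1, 5, 6, 4, 4, 6, 7, 4, 7, 5, 8, 4, 4, 6, 9, 4, 6, 9, 4, 8, 4], [8, 9, 0, 1, 8, 2, 6, 4, 4, 8, 4, 7, 4, 6, 4, 8, 9, 5, 6, 4]]) (by decide +kernel)) [[0], [1], [2], [3], [4], [5], [6], [7]] (by decide +kernel)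

def s5 : List (ℕ × List ℕ) := []

theorem cv5 : Ct.chkCov nets 4 (sing (List.range 4)) f5 (r5_0 ++ s5) 36
    (orbRun nets f5 [0, 7, 3, 6, 4, 7, 3, 0, 1, 2] (Ct.startM (r5_0 ++ s5))) 0 [0, 7, 3, 6, 4, 7, 3, 0, 1, 2] = true := by decide +kernel

def r6_0 : List (ℕ × List ℕ) := [(36, [])]

theorem o6_0 : Ct.chkOut J4M.D J4M.As J4M.iv (J4G.R.map (renW J4G.Rp)) 11 1 J4M.P J4C.Yv (Dce.pw J4D.tab.at (getL J4D.nm 0 6)) tw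
    (r6_0.map (·.2)) = true := by decide +kernel

def f6 : List (List ℕ) := [[1, 0, 2, 0, 1, 0, 1, 0, 1, 0, 1, 0, 1, 0, 1, 0, 1, 0, 2, 0, 1, 0, 1, 0, 1, 0, 1, 0, 1, 0, 1, 0, 2, 0, 1, 0, 1, 0, 1, 0, 1, 0, 2, 0, 2, 0, 2, 0, 1, 0, 2, 0, 3, 0, 1, 3, 0, 1, 0, 2, 3, 0, 2, 0, 3], [2, 0, 2, 0, 2, 0, 2, 0, 2, 0, 2, 0, 1, 0, 2, 0, 2, 0, 1, 0, 2, 0, 1, 0, 2, 0, 2, 0, 1, 0, 2, 0, 1, 0, 2, 0, 1, 0, 1, 0, 2, 0, 1, 0, 1, 3, 0, 1, 3, 0, 1, 3, 0, 1, 3, 0, 1, 0, 3], [0, 1, 0, 1, 0, 1, 0, 2, 0, 2, 0, 2, 0, 1, 0, 2, 0, 2, 0, 2, 0, 2, 0, 2, 0, 2, 0, 2, 0, 2, 0, 1, 0, 1, 0, 1, 0, 2, 0, 1, 0, 1, 0, 1, 0, 1, 0, 2, 0, 1, 0, 1, 0, 2, 0, 1, 0, 1, 3, 0, 2, 0, 2, 0, 2, 0, 1, 3]]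

theorem F6 : genW J4L.yK f6 ≤ Ct.Fd J4G.ι (ev (Dce.gD J4G.ι J4L.yK J4G.T 11) (Dce.pw J4D.tab.at (getL J4D.nm 0 6))) :=
  Ct.genW_le_of_keys J4L.paK (by decide) (Ct.gens_Fd J4G.hyp J4D.steps (gens := [92, 93, 97])
    (fs := [[4, 4, 6, 4, 7, 4, 6, 8, 5, 7, 6, 9, 6, 4, 6, 7], [6, 4, 6, 4, 7, 5, 8, 5, 6, 9, 6, 9, 7, 4], [9, 4, 3, 0, 1, 5, 8, 4, 6, 4, 7, 4, 8, 9, 6, 5, 8, 9, 6, 7]]) (by decide +kernel)) [[0], [1], [2]] (by decide +kernel)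

def s6 : List (ℕ × List ℕ) := []

theorem cv6 : Ct.chkCov nets 4 (sing (List.range 4)) f6 (r6_0 ++ s6) 36
    (orbRun nets f6 [1, 0, 2, 1, 0, 2, 1, 0, 2, 0, 1, 2, 0] (Ct.startM (r6_0 ++ s6))) 0 [1, 0, 2, 1, 0, 2, 1, 0, 2, 0, 1, 2, 0] = true := by decide +kernel

noncomputable abbrev t : J4H.G := ev J4L.yK tw

noncomputable abbrev M : Subgroup Cfsg.Spor.J4 := J4G.ι.range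

theorem hC (k : J4H.G) (h : J4C.ψ k 36 = 36) : k * t = t * k :=
  (J4T.C.comm_iff J4T.C.tv0_V).2 (by
    rw [J4T.C.co_tv0, J4T.C.lm, show J4T.C.icr 315 = 36 by decide +kernel, h]; decide +kernel)

theorem hP (k : J4H.G) : (J4G.ρ (J4G.ι k)).val * J4M.D.bM J4M.P = J4M.D.bM J4M.P * ((J4G.ρ (J4G.ι k)).val * J4M.D.bM J4M.P) :=
  J4C.hP k

theorem G1 : ∀ r, Ct.Good J4G.ι (ev (Dce.gD J4G.ι J4L.yK J4G.T 11) (Dce.pw J4D.tab.at (getL J4D.nm 0 1))) t M r :=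
  Ct.good_of_X rX hC F1 cv1 (List.forall_mem_append.2 ⟨(fun _ hr => Ct.good_of_not_mem (Ct.not_mem_Fd J4G.rρ' hP o1_0 _ (List.mem_map_of_mem hr))),
    (List.forall_mem_cons.2 ⟨eM.g3 J4C.inj (Ct.nc_top rX (L := 11) (rw := [1, 0, 2, 0, 1, 0, 1, 0, 1, 0, 1, 0, 2, 0, 1, 0, 2, 0, 2, 0, 1, 0, 1, 0, 2, 0, 1, 0, 2, 0, 1, 0, 2, 0, 1, 0, 2, 0, 2, 0, 2, 0, 3, 0, 1, 0, 1, 0, 3]) (by decide +kernel) (by decide +kernel) (by decide +kernel)) [] [24, 0, 21, 23, 21, 23, 21, 0, 21, 18, 21, 18, 21] [18, 21, 23, 21, 18, 21, 18, 21, 18, 21, 18, 21, 23, 21, 18, 21, 23, 21, 23, 21, 18, 21, 18, 21, 23, 21, 18, 21, 23, 21, 18, 21, 23, 21, 18, 21, 23, 21, 23, 21, 23, 21, 0, 21, 18, 21, 18, 21, 0, 24] (by decide +kernel),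
      fun _ h => nomatch h⟩)⟩)

theorem G2 : ∀ r, Ct.Good J4G.ι (ev (Dce.gD J4G.ι J4L.yK J4G.T 11) (Dce.pw J4D.tab.at (getL J4D.nm 0 2))) t M r :=
  Ct.good_of_X rX hC F2 cv2 (List.forall_mem_append.2 ⟨(fun _ hr => Ct.good_of_not_mem (Ct.not_mem_Fd J4G.rρ' hP o2_0 _ (List.mem_map_of_mem hr))),
    (fun _ h => nomatch h)⟩)

theorem G3 : ∀ r, Ct.Good J4G.ι (ev (Dce.gD J4G.ι J4L.yK J4G.T 11) (Dce.pw J4D.tab.at (getL J4D.nm 0 3))) t M r :=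
  Ct.good_of_X rX hC F3 cv3 (List.forall_mem_append.2 ⟨(fun _ hr => Ct.good_of_not_mem (Ct.not_mem_Fd J4G.rρ' hP o3_0 _ (List.mem_map_of_mem hr))),
    (fun _ h => nomatch h)⟩)

theorem G4 : ∀ r, Ct.Good J4G.ι (ev (Dce.gD J4G.ι J4L.yK J4G.T 11) (Dce.pw J4D.tab.at (getL J4D.nm 0 4))) t M r :=
  Ct.good_of_X rX hC F4 cv4 (List.forall_mem_append.2 ⟨(fun _ hr => Ct.good_of_not_mem (Ct.not_mem_Fd J4G.rρ' hP o4_0 _ (List.mem_map_of_mem hr))),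
    (List.forall_mem_cons.2 ⟨eM.g3 J4C.inj (Ct.nc_top rX (L := 11) (rw := [1, 0, 1, 0, 1, 0, 1, 0, 1, 0, 1, 0, 2, 0, 1, 0, 2, 0, 1, 0, 2, 0, 2, 0, 2, 0, 2, 0, 1, 0, 1, 0, 1, 0, 1, 0, 2, 0, 2, 0, 2, 0, 2, 0, 1, 0, 1, 3, 0, 1, 3, 0, 2, 0, 1, 3, 0, 2, 0, 1]) (by decide +kernel) (by decide +kernel) (by decide +kernel)) [] [24, 23, 25, 0, 18, 24, 0, 21, 23, 21, 23, 21, 0, 21, 18, 21, 18, 21] [18, 21, 18, 21, 18, 21, 18, 21, 18, 21, 18, 21, 23, 21, 18, 21, 23, 21, 18, 21, 23, 21, 23, 21, 23, 21, 23, 21, 18, 21, 18, 21, 18, 21, 18, 21, 23, 21, 23, 21, 23, 21, 23, 21, 18, 21, 18, 0, 21, 18, 0, 21, 23, 21, 18, 0, 21, 23, 21, 18, 24, 23, 25, 0, 18, 24] (by decide +kernel),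
      fun _ h => nomatch h⟩)⟩)

theorem G5 : ∀ r, Ct.Good J4G.ι (ev (Dce.gD J4G.ι J4L.yK J4G.T 11) (Dce.pw J4D.tab.at (getL J4D.nm 0 5))) t M r :=
  Ct.good_of_X rX hC F5 cv5 (List.forall_mem_append.2 ⟨(fun _ hr => Ct.good_of_not_mem (Ct.not_mem_Fd J4G.rρ' hP o5_0 _ (List.mem_map_of_mem hr))),
    (fun _ h => nomatch h)⟩)

theorem G6 : ∀ r, Ct.Good J4G.ι (ev (Dce.gD J4G.ι J4L.yK J4G.T 11) (Dce.pw J4D.tab.at (getL J4D.nm 0 6))) t M r :=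
  Ct.good_of_X rX hC F6 cv6 (List.forall_mem_append.2 ⟨(fun _ hr => Ct.good_of_not_mem (Ct.not_mem_Fd J4G.rρ' hP o6_0 _ (List.mem_map_of_mem hr))),
    (fun _ h => nomatch h)⟩)


theorem cent : Subgroup.centralizer {J4G.ι t} ≤ M := by
  refine Ct.cent_le (d := fun i => ev (Dce.gD J4G.ι J4L.yK J4G.T 11) (Dce.pw J4D.tab.at (getL J4D.nm 0 i)))
    J4G.main0.1 fun i (hi : i < 7) => ?_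
  interval_cases i
  exacts [by rw [show getL J4D.nm 0 0 = 0 from rfl, Dce.pw_zero]; exact Ct.good_one J4C.inj fun c _ => ⟨c, rfl⟩, G1, G2, G3, G4, G5, G6]

end Cfsg.Agent.Spor.J4E
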