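import Cfsg.Agent.Spor.J4D
import Cfsg.Agent.Spor.J4M
import Cfsg.Agent.Spor.J4B
import Cfsg.Prelude.Def_Spor_J4

/-! The fourth Janko group (generated certificate, helper23). -/

set_option Elab.async false
set_option maxRecDepth 100000
set_option exponentiation.threshold 100000

namespace Cfsg.Agent.Spor.J4G

open Equiv

theorem okO : netsOk 15180 J4O.nets = true := netsOk_append J4O.ok0 J4O.ok1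

theorem lw6 : BaseGe (genW (PP J4O.nets) [[4, 8, 4, 4, 6, 5, 7, 5, 7, 9, 4, 6, 8]]) 2 [8] :=
  BaseGe.stepW (L := 14) (n := 2) okO (genW_nil_base _) [] [0] (by decide +kernel)

theorem lw5 : BaseGe (genW (PP J4O.nets) [[4, 8, 4, 4, 6, 5, 7, 5, 7, 9, 4, 6, 8], [4, 6, 9, 8, 4, 9, 5, 7, 6, 5]]) 4 [7, 8] :=
  BaseGe.stepW (L := 14) (n := 2) okO lw6 [[0]] [1] (by decide +kernel)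

theorem lw4 : BaseGe (genW (PP J4O.nets) [[4, 8, 4, 4, 6, 5, 7, 5, 7, 9, 4, 6, 8], [4, 6, 9, 8, 4, 9, 5, 7, 6, 5], [8, 4, 7, 9, 5, 7, 4, 7, 5, 8], [5, 6, 9, 6, 8, 5, 9, 6, 9, 6, 8]]) 16 [6, 7, 8] :=
  BaseGe.stepW (L := 14) (n := 4) okO lw5 [[0], [1]] [2, 3] (by decide +kernel)

theorem lw3 : BaseGe (genW (PP J4O.nets) [[4, 8, 4, 4, 6, 5, 7, 5, 7, 9, 4, 6, 8], [4, 6, 9, 8, 4, 9, 5, 7, 6, 5], [8, 4, 7, 9, 5, 7, 4, 7, 5, 8], [5, 6, 9, 6, 8, 5, 9, 6, 9, 6, 8], [8, 4, 7, 9, 4, 6, 7, 9, 7], [4, 9, 7, 4, 8, 6, 9, 5, 8, 5, 7]]) 64 [4, 6, 7, 8] :=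
  BaseGe.stepW (L := 14) (n := 4) okO lw4 [[0], [1], [2], [3]] [4, 5] (by decide +kernel)

theorem lw2 : BaseGe (genW (PP J4O.nets) [[4, 8, 4, 4, 6, 5, 7, 5, 7, 9, 4, 6, 8], [4, 6, 9, 8, 4, 9, 5, 7, 6, 5], [8, 4, 7, 9, 5, 7, 4, 7, 5, 8], [5, 6, 9, 6, 8, 5, 9, 6, 9, 6, 8], [8, 4, 7, 9, 4, 6, 7, 9, 7], [4, 9, 7, 4, 8, 6, 9, 5, 8, 5, 7], [7, 6, 8], [4, 7, 4, 7, 6], [6, 5, 6, 9, 6, 4], [8, 4, 8, 6, 5, 5], [4, 4, 8, 5, 6, 8, 4]]) 8192 [2, 4, 6, 7, 8] :=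
  BaseGe.stepW (L := 14) (n := 128) okO lw3 [[0], [1], [2], [3], [4], [5]] [6, 7, 8, 9, 10, 0, 6, 9, 7] (by decide +kernel)

theorem lw1 : BaseGe (genW (PP J4O.nets) [[4], [5], [6], [7], [8], [9]]) 33030144 [1, 2, 4, 6, 7, 8] :=
  BaseGe.stepW (L := 14) (n := 4032) okO lw2 [[0, 4, 0, 0, 2, 1, 3, 1, 3, 5, 0, 2, 4], [0, 2, 5, 4, 0, 5, 1, 3, 2, 1], [4, 0, 3, 5, 1, 3, 0, 3, 1, 4], [1, 2, 5, 2, 4, 1, 5, 2, 5, 2, 4], [4, 0, 3, 5, 0, 2, 3, 5, 3], [0, 5, 3, 0, 4, 2, 5, 1, 4, 1, 3], [3, 2, 4], [0, 3, 0, 3, 2], [2, 1, 2, 5, 2, 0], [4, 0, 4, 2, 1, 1], [0, 0, 4, 1, 2, 4, 0]] [0, 2, 3, 5, 0, 2, 3, 0, 5, 2, 3, 0, 3, 2, 0, 3, 5, 0] (by decide +kernel)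

theorem lw0 : BaseGe (genW (PP J4O.nets) (sing (List.range 10))) 501397585920 [0, 1, 2, 4, 6, 7, 8] :=
  BaseGe.stepW (L := 14) (n := 15180) okO lw1 [[4], [5], [6], [7], [8], [9]] [1, 3, 7, 0, 1, 4, 6, 9, 7, 1, 0, 4, 6, 1, 7, 9, 0, 1, 4] (by decide +kernel)

def R6 : List (List ℕ) := [[0], [1], [2], [1, 0, 1, 0, 2, 0, 2, 0, 2, 0, 2, 3, 1, 0, 1, 0, 1, 0, 1, 0, 2, 0, 1, 0, 1, 0, 2, 0, 2, 0, 2, 0, 2, 3, 1, 0, 1, 0, 1, 0, 1, 0, 2, 0, 1, 0, 1, 0, 2, 0, 2, 0, 2, 0, 2, 3, 1, 0, 1, 0, 1, 0, 1, 0, 2, 0], [0, 1, 0, 2, 0, 2, 0, 2, 0, 2, 3, 1, 0, 1, 0, 1, 0, 1, 0, 2, 0, 2, 0, 1, 0, 2, 0, 2, 0, 2, 0, 2, 3, 1, 0, 1, 0, 1, 0, 1, 0, 2, 0, 2, 0, 1, 0, 2, 0, 2, 0, 2, 0, 2, 3, 1, 0, 1, 0, 1, 0, 1, 0, 2, 0, 2], [3]]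

def Rp : List (List ℕ) := [[0], [1], [2], [4], [4], [3]]

def R : List (List ℕ) := J4L.renK.map (renW (sing (List.range 4))) ++ [[5]]

noncomputable def cs : List (ℕ × ℕ × ℕ × ℕ × ℕ) := [(0, J4M.U00, J4M.U01, J4M.U02, J4M.U03),
  (22, J4M.U10, J4M.U11, J4M.U12, J4M.U13),
  (36, J4M.U20, J4M.U21, J4M.U22, J4M.U23),
  (42, J4M.U30, J4M.U31, J4M.U32, J4M.U33),
  (28, J4M.U40, J4M.U41, J4M.U42, J4M.U43),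
  (50, J4M.U50, J4M.U51, J4M.U52, J4M.U53),
  (56, J4M.U60, J4M.U61, J4M.U62, J4M.U63)]

theorem v0 : seq (J4M.D.mulB J4M.E (J4M.D.appB J4M.As (renW (R.map (renW Rp)) (Dce.pw J4D.tab.at (getL J4D.nm 0 0))) J4M.P))
    (fun M => J4M.D.chkRk 1 M (getL cs (0, 0, 0, 0, 0) 0)) = true := by decide +kernel

theorem v1 : seq (J4M.D.mulB J4M.E (J4M.D.appB J4M.As (renW (R.map (renW Rp)) (Dce.pw J4D.tab.at (getL J4D.nm 0 1))) J4M.P))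
    (fun M => J4M.D.chkRk 1 M (getL cs (0, 0, 0, 0, 0) 1)) = true := by decide +kernel

theorem v2 : seq (J4M.D.mulB J4M.E (J4M.D.appB J4M.As (renW (R.map (renW Rp)) (Dce.pw J4D.tab.at (getL J4D.nm 0 2))) J4M.P))
    (fun M => J4M.D.chkRk 1 M (getL cs (0, 0, 0, 0, 0) 2)) = true := by decide +kernel

theorem v3 : seq (J4M.D.mulB J4M.E (J4M.D.appB J4M.As (renW (R.map (renW Rp)) (Dce.pw J4D.tab.at (getL J4D.nm 0 3))) J4M.P))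
    (fun M => J4M.D.chkRk 1 M (getL cs (0, 0, 0, 0, 0) 3)) = true := by decide +kernel

theorem v4 : seq (J4M.D.mulB J4M.E (J4M.D.appB J4M.As (renW (R.map (renW Rp)) (Dce.pw J4D.tab.at (getL J4D.nm 0 4))) J4M.P))
    (fun M => J4M.D.chkRk 1 M (getL cs (0, 0, 0, 0, 0) 4)) = true := by decide +kernel

theorem v5 : seq (J4M.D.mulB J4M.E (J4M.D.appB J4M.As (renW (R.map (renW Rp)) (Dce.pw J4D.tab.at (getL J4D.nm 0 5))) J4M.P))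
    (fun M => J4M.D.chkRk 1 M (getL cs (0, 0, 0, 0, 0) 5)) = true := by decide +kernel

theorem v6 : seq (J4M.D.mulB J4M.E (J4M.D.appB J4M.As (renW (R.map (renW Rp)) (Dce.pw J4D.tab.at (getL J4D.nm 0 6))) J4M.P))
    (fun M => J4M.D.chkRk 1 M (getL cs (0, 0, 0, 0, 0) 6)) = true := by decide +kernel


def lts : List (Cfsg.Spor.J4.Gen × Bool) := [(.x, true), (.y, true), (.y, false), (.t, true)]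

theorem lt : LtOk Cfsg.Spor.J4.edges Cfsg.Spor.J4.extra lts :=
  ⟨by intro q; cases q <;> decide, by decide +kernel, by decide +kernel⟩

noncomputable abbrev g : ℕ → Cfsg.Spor.J4 := letG (RS Cfsg.Spor.J4.edges Cfsg.Spor.J4.extra) lts

def rels : List (List ℕ) := [[0, 0], [1, 2], [2, 1], [3, 3], [1, 1, 1], [0, 1, 0, 1, 0, 1, 0, 1, 0, 1, 0, 1, 0, 1, 0, 1, 0, 1, 0, 1, 0, 1, 0, 1, 0, 1, 0, 1, 0, 1, 0, 1, 0, 1, 0, 1, 0, 1, 0, 1, 0, 1, 0, 1, 0, 1], [0, 2, 0, 1, 0, 2, 0, 1, 0, 2, 0, 1, 0, 2, 0, 1, 0, 2, 0, 1, 0, 2, 0, 1, 0, 2, 0, 1, 0, 2, 0, 1, 0, 2, 0, 1, 0, 2, 0, 1, 0, 2, 0, 1, 0, 2, 0, 1], [0, 2, 0, 2, 0, 1, 0, 1, 0, 2, 0, 2, 0, 1, 0, 1, 0, 2, 0, 2, 0, 1, 0, 1, 0, 2, 0, 2, 0, 1, 0, 1, 0, 2, 0, 2, 0, 1, 0, 1], [0, 1, 0, 1, 0,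 2, 0, 1, 0, 2, 0, 1, 0, 2, 0, 1, 0, 1, 0, 2, 0, 1, 0, 2, 0, 1, 0, 2, 0, 1, 0, 1, 0, 2, 0, 1, 0, 2, 0, 1, 0, 2, 0, 1, 0, 1, 0, 2, 0, 1, 0, 2, 0, 1, 0, 2], [0, 1, 0, 1, 0, 2, 0, 1, 0, 1, 0, 2, 0, 1, 0, 1, 0, 2, 0, 1, 0, 2, 0, 2, 0, 1, 0, 2, 0, 2, 0, 1, 0, 2, 0, 2], [3, 2, 0, 2, 0, 2, 0, 1, 0, 1, 0, 2, 0, 2, 3, 1, 0, 1, 0, 2, 0, 2, 0, 1, 0, 1, 0, 1], [3, 0, 3, 0], [1, 0, 1, 0, 2, 0, 1, 0, 2, 3, 1, 0, 2, 0, 1, 0, 2, 0, 1, 0, 1, 0, 2, 0, 1, 0, 2, 3, 1, 0, 2, 0, 1, 0, 2, 0, 1, 0, 1, 0, 2, 0, 1, 0, 2, 3, 1, 0, 2, 0, 1, 0, 2, 0], [1, 0, 1, 0, 1, 0, 1, 1, 0, 1, 0, 1, 0, 1, 1, 0, 1, 0, 1, 0, 1, 3, 2, 2, 0, 2, 0, 2, 0, 2, 0, 2, 0, 2, 0, 2, 2, 0, 2, 0, 2, 0, 3, 0, 1, 0, 1, 0, 1, 1, 0, 1, 0, 1, 0, 1, 0, 1, 0, 1, 0, 1, 1, 1, 0, 1, 0,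 1, 0, 1, 1, 0, 1, 0, 1, 0, 1, 1, 0, 1, 0, 1, 0, 1, 3, 2, 2, 0, 2, 0, 2, 0, 2, 0, 2, 0, 2, 0, 2, 2, 0, 2, 0, 2, 0, 3, 0, 1, 0, 1, 0, 1, 1, 0, 1, 0, 1, 0, 1, 0, 1, 0, 1, 0, 1, 1]]

theorem hg : ∀ r ∈ rels, ev g r = 1 := lt.rels_of_relsG (by decide +kernel)

theorem hi : InvOk g 4 [0, 2, 1, 3] := invOk_of_rels hg (by decide +kernel)

theorem exρ : ∃ ρ, BRep J4M.D J4M.As 5 J4M.iv g 4 (sing (List.range 4)) ρ :=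
  lt.bRep (rels := rels) (by decide +kernel) J4M.ok J4M.hi (by decide +kernel)
    (J4M.hi.rels J4M.hb (by decide +kernel) (by decide +kernel))

noncomputable def ρ := exρ.choose

theorem rρ : BRep J4M.D J4M.As 5 J4M.iv g 4 (sing (List.range 4)) ρ := exρ.choose_spec

noncomputable def g6 : ℕ → Cfsg.Spor.J4 := renG g R6

theorem rρ6 : BRep J4M.D J4M.As 5 J4M.iv g6 6 Rp ρ :=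
  rρ.ren2 (fun _ _ => rfl) (by decide +kernel) (J4M.hi.rels J4M.hb (by decide +kernel) (by decide +kernel))

theorem exι0 : ∃ ι : J4K.G →* Cfsg.Spor.J4, ∀ x < 3, ι (J4K.g x) = renG g (sing (List.range 3)) x :=
  J4K.lifts _ _ (renG_rels (hi.rels hg (by decide +kernel) (by decide +kernel)))

noncomputable def ι0 : J4K.G →* Cfsg.Spor.J4 := exι0.choose

def R0 : List (List ℕ) := J4A.renK.map (renW (sing (List.range 3))) ++ [[3]]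

noncomputable def T0 : Cfsg.Spor.J4 := renG g R0 9

theorem h0 : ∀ x < 9, ι0 (J4A.yK x) = renG g R0 x := map_renG (ren := J4A.renK) exι0.choose_spec (by decide +kernel) _

theorem hyp0 : Dce.Hyp ι0 J4A.yK T0 J4K.φ 24 J4A.actK [0, 1, 2, 3, 4, 5, 6] 9 J4B.ivc J4B.sgc [9] J4B.rels :=
  ⟨J4A.paK, by decide, Dce.hyp_inv J4A.paK (by decide +kernel),
    Dce.invT_of_rel (Dce.rels_gD h0 rfl (by decide +kernel) (hi.rels hg (by decide +kernel) (by decide +kernel))),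
    (Dce.commP_of_rels h0 rfl hi (ps := List.zip [[0], [1, 0, 1, 0, 2, 0, 2, 0, 1, 0, 1, 0, 1], [2, 0, 2, 0, 2, 0, 1, 0, 1, 0, 2, 0, 2]] [[0], [1, 0, 1, 0, 2, 0, 2, 0, 1, 0, 1, 0, 1], [2, 0, 2, 0, 2, 0, 1, 0, 1, 0, 2, 0, 2]]) (by decide +kernel) (hi.prod hg
      [[([3], 22)],
    [([3, 2, 0, 2, 0, 2, 0, 1, 0, 1, 0, 2, 0, 2, 3], 20)],
    [([3], 20)]] (by decide +kernel))).comm J4A.paK (ws := [[], [], [], [0, 1, 0, 1, 1, 0, 2, 0, 2, 0, 2, 0, 2, 0, 1, 0, 1, 0, 2, 0, 1, 1], [0, 1, 1, 0, 1, 0, 1, 1, 0, 2, 0, 1, 0, 1, 0, 1, 0, 1, 1, 0, 1, 1], [0, 1, 0, 2, 0, 2, 0, 1, 0, 2, 0, 1, 0, 1, 0, 1, 1, 0, 1, 0, 1, 1], [0, 2, 0, 2, 0, 1, 0, 2, 0, 2, 0, 1, 0, 1, 0, 2, 0, 1], [0, 1, 0, 2, 0, 1, 0, 2, 0, 1, 0, 2, 0, 2, 0, 1, 1, 0, 1], [0,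 1, 1, 0, 1, 0, 1, 1, 0, 2, 0, 1, 0, 1, 0, 2, 0, 1, 1, 0, 2, 0, 2], [], [], [], [], [], [], [], [], [], [], [], [], [], [], [], [], [], [], [], [], [], [], [], [], [], [], [], [], [], [], [], [], [], [], [], [], [], [], [], [], [], [], [], [], [], [], [], [], [], [], [], [], [], []]) (by decide +kernel),
    Dce.hyp_rel (by decide +kernel) (Dce.rels_gD h0 rfl (by decide +kernel) (hi.prod hg [[],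
    [],
    [([1, 0, 1, 0, 2, 0, 1, 0, 2, 3], 24)],
    [([1, 0, 1, 0, 2, 0, 1, 0, 2, 3], 24)],
    [([1, 0, 1, 0, 1, 0, 1, 1, 0, 1, 0, 1, 0, 1, 1, 0, 1, 0, 1, 0, 1, 3], 26)],
    [([1, 0, 1, 0, 1, 0, 1, 1, 0, 1, 0, 1, 0, 1, 1, 0, 1, 0, 1, 0, 1, 3, 2, 2, 0, 2, 0, 2, 0, 2, 0, 2, 0, 2, 0, 2, 2, 0, 2, 0, 2, 0, 3], 26)],
    [([1, 0, 1, 0, 1, 0, 1, 1, 0, 1, 0, 1, 0, 1, 1, 0, 1, 0, 1, 0, 1, 3], 26)]] (by decide +kernel)))⟩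

theorem ne0 : ρ (ι0 (J4K.g 0)) ≠ 1 := by
  rw [show ι0 (J4K.g 0) = _ from exι0.choose_spec 0 (by decide)]
  intro e
  have h1 := rρ.map [0] (by decide)
  have e2 : ev g [0] = renG g (sing (List.range 3)) 0 := rfl
  rw [e2, e, Units.val_one, ← BP.bM_idB J4M.okD] at h1
  have h3 := J4M.ok.evE (.lt 0)
  have h2 := BP.bM_inj J4M.okD (BP.good_of_okV J4M.okD (mc := 1) (by decide +kernel)) h3.1 (h1.trans h3.2.symm)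
  revert h2; decide +kernel

theorem inj0 : Function.Injective ι0 :=
  have := J4A.simple
  injective_of_simple ι0 (x := J4K.g 0) fun e => ne0 (by rw [e, map_one])

def ts : List (ℕ × List (List ℕ × List ℕ) × List ℕ) := [(176, [([0, 6, 2, 8, 1, 3, 3, 5, 4, 6, 5, 7, 5, 3, 8, 7, 4, 7, 8], [1, 0, 1, 0, 2, 0, 2, 0, 2, 0, 2]), ([8, 2, 0, 1, 4, 5, 7, 3, 7, 5, 8, 7, 5, 7, 8], [1, 0, 1, 0, 1, 0, 1, 0, 2, 0, 1, 0, 1, 0, 2, 0, 2, 0, 2, 0, 2]), ([8, 2, 0, 1, 4, 5, 7, 3, 7, 5, 8, 7, 5, 7, 8], [1, 0, 1, 0, 1, 0, 1, 0, 2, 0, 1, 0, 1, 0, 2, 0, 2, 0, 2, 0, 2]), ([8, 2, 0, 1, 4, 5, 7, 3, 7, 5, 8, 7, 5, 7, 8], [1, 0, 1, 0, 1, 0, 1, 0, 2, 0, 1, 0, 1, 0, 2, 0, 2, 0, 2, 0, 2]), ([8, 2, 0, 1, 4, 5, 7, 3, 7, 5, 8, 7, 5, 7, 8], [1, 0, 1, 0, 1,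 0, 1, 0, 2, 0, 1, 0, 1, 0, 2, 0, 2, 0, 2, 0, 2]), ([8, 2, 0, 1, 4, 5, 7, 3, 7, 5, 8, 7, 5, 7, 8], [1, 0, 1, 0, 1, 0, 1, 0, 2, 0, 1, 0, 1, 0, 2, 0, 2, 0, 2, 0, 2])], [1, 0, 1, 0, 1, 0, 1, 0, 2, 0]),
  (177, [([0, 6, 2, 8, 1, 5, 3, 3, 5, 6, 5, 7, 4, 8, 7, 3, 7, 5, 8], [0, 1, 0, 2, 0, 1, 0, 2, 0, 1, 0, 2, 0, 2, 0, 2, 0, 1, 0, 2, 0, 2, 0, 1, 0, 2, 0, 1, 0, 1, 0, 2, 0, 2, 0, 2, 0, 2, 0, 1, 0, 1, 0, 1, 0, 2, 0, 1, 0, 1, 0, 2, 0, 2, 0, 2, 0, 2]), ([8, 2, 0, 1, 4, 5, 7, 3, 7, 5, 8, 7, 5, 7, 8], [1, 0, 1, 0, 1, 0, 1, 0, 2, 0, 1, 0, 1, 0, 2, 0, 2, 0, 2, 0, 2]), ([8, 2, 0, 1, 4, 5, 7, 3, 7, 5, 8, 7, 5, 7, 8], [1, 0, 1, 0, 1, 0, 1, 0, 2, 0, 1, 0, 1, 0, 2, 0, 2, 0, 2, 0, 2]), ([8, 2, 0, 1, 3, 3, 5, 4, 6, 5, 8, 7, 4, 7, 4, 8], [1, 0,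 1, 0, 1, 0, 1, 0, 2, 0, 0, 1, 0, 2, 0, 2, 0, 2, 0, 1, 0, 1, 0, 1, 0, 1, 0, 2, 0, 2, 0, 1, 0, 2, 0, 1, 0, 1, 0, 2, 0, 1, 0, 1, 0, 1, 0, 2, 0, 1, 0, 2, 0, 1, 0, 2, 0, 1, 0, 1, 0, 2, 0, 2, 0, 2, 0, 2]), ([8, 2, 0, 1, 4, 5, 7, 3, 7, 5, 8, 7, 5, 7, 8], [1, 0, 1, 0, 1, 0, 1, 0, 2, 0, 1, 0, 1, 0, 2, 0, 2, 0, 2, 0, 2]), ([8, 2, 0, 1, 4, 5, 7, 3, 7, 5, 8, 7, 5, 7, 8], [1, 0, 1, 0, 1, 0, 1, 0, 2, 0, 1, 0, 1, 0, 2, 0, 2, 0, 2, 0, 2])], [1, 0, 1, 0, 1, 0, 1, 0, 2, 0]),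
  (178, [([3, 0, 1, 4, 0, 1, 4, 5, 4, 6, 3, 5, 7, 3, 7, 8, 7, 3, 7, 5, 8], [2, 0, 1, 0, 1, 0, 2, 0, 1, 0, 1, 0, 1, 0, 2, 0, 2, 0, 2, 0, 1, 0, 1, 0, 1, 0, 2, 0, 2, 0, 2, 0, 1, 0, 1, 0, 1, 0, 1, 0, 1, 0, 1, 0, 1, 0, 2, 0, 2, 0, 1, 0, 1, 0, 2, 0, 2, 1, 0, 1, 0, 2, 0, 2, 0, 2, 0, 2]), ([8, 2, 0, 1, 4, 5, 7, 3, 7, 5, 8, 7, 5, 7, 8], [1, 0, 1, 0, 1, 0, 1, 0, 2, 0, 1, 0, 1, 0, 2, 0, 2, 0, 2, 0, 2]), ([8, 2, 0, 1, 4, 5, 7, 3, 7, 5, 8, 7, 5, 7, 8], [1, 0, 1, 0, 1, 0, 1, 0, 2, 0, 1, 0, 1, 0, 2, 0, 2, 0, 2, 0, 2]), ([2, 0, 1, 5, 3, 3, 6, 7, 6, 8, 7, 5, 7, 8], [1, 0, 1, 0, 1, 0, 1, 0, 2, 0, 1, 0, 1, 0, 2, 0, 2, 0, 1, 0, 1, 0, 2, 0, 2, 0, 2, 0, 2, 0, 2, 0, 2, 0, 2, 0, 1, 0, 1, 0, 1, 0, 2, 0, 2, 0, 2, 0, 1, 0, 1, 0, 1, 0, 2, 0, 2, 0,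 2, 0, 1, 0, 2, 0, 2, 0, 1, 1, 0, 1, 0, 2, 0, 2, 0, 2, 0, 2]), ([8, 2, 0, 1, 4, 5, 7, 3, 7, 5, 8, 7, 5, 7, 8], [1, 0, 1, 0, 1, 0, 1, 0, 2, 0, 1, 0, 1, 0, 2, 0, 2, 0, 2, 0, 2]), ([8, 2, 0, 1, 4, 5, 7, 3, 7, 5, 8, 7, 5, 7, 8], [1, 0, 1, 0, 1, 0, 1, 0, 2, 0, 1, 0, 1, 0, 2, 0, 2, 0, 2, 0, 2])], [1, 0, 1, 0, 1, 0, 1, 0, 2, 0]),
  (179, [([6, 2, 7, 8, 7, 1, 4, 5, 3, 6, 3, 7, 3, 3, 7, 8, 7, 3, 7, 8], [0, 1, 0, 1, 0, 1, 0, 2, 0, 2, 0, 2, 0, 1, 0, 2, 0, 2, 0, 2, 0, 2, 0, 1, 0, 2, 0, 2, 0, 1, 0, 2, 0, 2, 0, 2, 0, 1, 0, 2, 0, 2, 0, 2, 0, 2, 0, 2, 0, 2, 0, 1, 0, 1, 0, 2, 0, 2, 0, 2, 0, 2]), ([8, 2, 0, 1, 4, 5, 7, 3, 7, 5, 8, 7, 5, 7, 8], [1, 0, 1, 0, 1, 0, 1, 0, 2, 0, 1, 0, 1, 0, 2, 0, 2, 0, 2, 0, 2]), ([8, 2, 0, 1, 4, 5, 7, 3, 7, 5,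 8, 7, 5, 7, 8], [1, 0, 1, 0, 1, 0, 1, 0, 2, 0, 1, 0, 1, 0, 2, 0, 2, 0, 2, 0, 2]), ([2, 0, 7, 1, 3, 3, 5, 4, 6, 5, 3, 8, 7, 4], [1, 0, 1, 0, 1, 0, 1, 0, 2, 0, 0, 1, 0, 1, 0, 1, 0, 1, 0, 1, 0, 1, 0, 2, 0, 1, 0, 1, 0, 1, 0, 2, 0, 1, 0, 1, 0, 2, 0, 1, 0, 1, 0, 1, 0, 1, 0, 2, 0, 1, 0, 1, 0, 1, 0, 2, 0, 2, 0, 2, 0, 1, 0, 1, 0, 2, 0, 2, 0, 2, 0, 2]), ([8, 2, 0, 1, 4, 5, 7, 3, 7, 5, 8, 7, 5, 7, 8], [1, 0, 1, 0, 1, 0, 1, 0, 2, 0, 1, 0, 1, 0, 2, 0, 2, 0, 2, 0, 2]), ([8, 2, 0, 1, 4, 5, 7, 3, 7, 5, 8, 7, 5, 7, 8], [1, 0, 1, 0, 1, 0, 1, 0, 2, 0, 1, 0, 1, 0, 2, 0, 2, 0, 2, 0, 2])], [1, 0, 1, 0, 1, 0, 1, 0, 2, 0]),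
  (180, [([6, 7, 2, 8, 1, 3, 3, 5, 6, 5, 3, 7, 3, 7, 5, 8, 7, 6, 4], [1, 0, 2, 0, 2, 0, 2, 0, 1, 0, 1, 0, 2, 0, 2, 0, 1, 0, 1, 0, 1, 0, 1, 0, 1, 0, 2, 0, 2, 0, 2, 0, 2, 0, 1, 0, 1, 0, 1, 0, 1, 0, 2, 0, 2, 1, 0, 1, 0, 2, 0, 2, 0, 2, 0, 2]), ([8, 2, 0, 1, 4, 5, 7, 3, 7, 5, 8, 7, 5, 7, 8], [1, 0, 1, 0, 1, 0, 1, 0, 2, 0, 1, 0, 1, 0, 2, 0, 2, 0, 2, 0, 2]), ([8, 2, 0, 1, 4, 5, 7, 3, 7, 5, 8, 7, 5, 7, 8], [1, 0, 1, 0, 1, 0, 1, 0, 2, 0, 1, 0, 1, 0, 2, 0, 2, 0, 2, 0, 2]), ([2, 7, 0, 7, 1, 3, 5, 4, 6, 7, 6, 8, 7, 4, 7, 4], [1, 0, 1, 0, 1, 0, 1, 0, 2, 0, 1, 0, 1, 0, 2, 0, 2, 0, 2, 0, 2, 0, 1, 0, 1, 0, 1, 0, 1, 0, 2, 0, 2, 0, 2, 0, 2, 0, 2, 0, 1, 0, 1, 0, 2, 0, 2, 0, 1, 0, 1, 0, 1, 0, 2, 1, 0, 1, 0, 2, 0, 2, 0, 2, 0, 2]), ([8, 2, 0,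 1, 4, 5, 7, 3, 7, 5, 8, 7, 5, 7, 8], [1, 0, 1, 0, 1, 0, 1, 0, 2, 0, 1, 0, 1, 0, 2, 0, 2, 0, 2, 0, 2]), ([8, 2, 0, 1, 4, 5, 7, 3, 7, 5, 8, 7, 5, 7, 8], [1, 0, 1, 0, 1, 0, 1, 0, 2, 0, 1, 0, 1, 0, 2, 0, 2, 0, 2, 0, 2])], [1, 0, 1, 0, 1, 0, 1, 0, 2, 0]),
  (181, [([6, 2, 7, 8, 7, 1, 4, 5, 3, 6, 7, 4, 8, 7, 3, 7, 8], [2, 0, 1, 0, 1, 0, 1, 0, 1, 0, 2, 0, 2, 0, 2, 0, 2, 0, 1, 0, 2, 0, 2, 0, 2, 0, 1, 0, 2, 0, 2, 0, 2, 0, 1, 0, 2, 0, 2, 0, 2, 0, 2, 0, 2, 0, 2, 0, 2, 0, 2, 0, 1, 0, 1, 0, 2, 0, 2, 0, 2, 0, 2]), ([8, 2, 0, 1, 4, 5, 7, 3, 7, 5, 8, 7, 5, 7, 8], [1, 0, 1, 0, 1, 0, 1, 0, 2, 0, 1, 0, 1, 0, 2, 0, 2, 0, 2, 0, 2]), ([8, 2, 0, 1, 4, 5, 7, 3, 7, 5, 8, 7, 5, 7, 8], [1, 0, 1, 0, 1, 0, 1, 0, 2, 0, 1, 0, 1, 0, 2, 0, 2, 0, 2, 0, 2]),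 ([2, 0, 7, 1, 3, 3, 5, 4, 6, 5, 8], [1, 0, 1, 0, 1, 0, 1, 0, 2, 0, 0, 1, 0, 1, 0, 1, 0, 1, 0, 1, 0, 1, 0, 1, 0, 1, 0, 2, 0, 1, 0, 1, 0, 1, 0, 2, 0, 1, 0, 1, 0, 1, 0, 2, 0, 1, 0, 1, 0, 1, 0, 1, 0, 2, 0, 2, 0, 2, 0, 2, 0, 1, 1, 0, 1, 0, 2, 0, 2, 0, 2, 0, 2]), ([8, 2, 0, 1, 4, 5, 7, 3, 7, 5, 8, 7, 5, 7, 8], [1, 0, 1, 0, 1, 0, 1, 0, 2, 0, 1, 0, 1, 0, 2, 0, 2, 0, 2, 0, 2]), ([8, 2, 0, 1, 4, 5, 7, 3, 7, 5, 8, 7, 5, 7, 8], [1, 0, 1, 0, 1, 0, 1, 0, 2, 0, 1, 0, 1, 0, 2, 0, 2, 0, 2, 0, 2])], [1, 0, 1, 0, 1, 0, 1, 0, 2, 0]),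
  (182, [([6, 2, 7, 8, 7, 1, 5, 3, 3, 5, 6, 5, 3, 7, 6, 4, 8, 7, 3, 7, 5, 8], [0, 2, 0, 1, 0, 2, 0, 2, 0, 2, 0, 1, 0, 1, 0, 1, 0, 1, 0, 1, 0, 1, 0, 2, 0, 2, 0, 1, 0, 2, 0, 2, 0, 2, 0, 2, 0, 1, 0, 1, 0, 2, 0, 1, 0, 1, 0, 2, 0, 2, 0, 1, 0, 1, 0, 2, 0, 2, 0, 2, 0, 2]), ([8, 2, 0, 1, 4, 5, 7, 3, 7, 5, 8, 7, 5, 7, 8], [1, 0, 1, 0, 1, 0, 1, 0, 2, 0, 1, 0, 1, 0, 2, 0, 2, 0, 2, 0, 2]), ([8, 2, 0, 1, 4, 5, 7, 3, 7, 5, 8, 7, 5, 7, 8], [1, 0, 1, 0, 1, 0, 1, 0, 2, 0, 1, 0, 1, 0, 2, 0, 2, 0, 2, 0, 2]), ([2, 0, 7, 1, 5, 3, 6, 3, 7, 6, 7, 8, 7, 5, 7], [1, 0, 1, 0, 1, 0, 1, 0, 2, 0, 0, 1, 0, 1, 0, 2, 0, 2, 0, 1, 0, 2, 0, 2, 0, 1, 0, 1, 0, 1, 0, 1, 0, 2, 0, 1, 0, 1, 0, 2, 0, 2, 0, 2, 0, 2, 0, 2, 0, 2, 0, 1, 0, 1, 0, 1, 0, 2, 0, 1, 0, 1,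 0, 1, 0, 2, 0, 2, 0, 2, 0, 2]), ([8, 2, 0, 1, 4, 5, 7, 3, 7, 5, 8, 7, 5, 7, 8], [1, 0, 1, 0, 1, 0, 1, 0, 2, 0, 1, 0, 1, 0, 2, 0, 2, 0, 2, 0, 2]), ([8, 2, 0, 1, 4, 5, 7, 3, 7, 5, 8, 7, 5, 7, 8], [1, 0, 1, 0, 1, 0, 1, 0, 2, 0, 1, 0, 1, 0, 2, 0, 2, 0, 2, 0, 2])], [1, 0, 1, 0, 1, 0, 1, 0, 2, 0]),
  (322, [([0, 6, 2, 8, 1, 3, 3, 5, 4, 6, 5, 7, 5, 3, 8, 7, 4, 7, 8], [1, 0, 1, 0, 2, 0, 2, 0, 2, 0, 2]), ([8, 2, 0, 1, 4, 5, 7, 3, 7, 5, 8, 7, 5, 7, 8], [1, 0, 1, 0, 1, 0, 1, 0, 2, 0, 1, 0, 1, 0, 2, 0, 2, 0, 2, 0, 2]), ([8, 2, 0, 1, 4, 5, 7, 3, 7, 5, 8, 7, 5, 7, 8], [1, 0, 1, 0, 1, 0, 1, 0, 2, 0, 1, 0, 1, 0, 2, 0, 2, 0, 2, 0, 2]), ([6, 5, 1, 5, 2, 5, 3, 3, 5, 6, 7, 4, 7, 8, 7, 4, 7, 8], [1, 0, 1, 0, 1, 0, 1, 0, 2, 0, 0, 1, 0, 1, 0,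 2, 0, 2, 0, 2, 0, 2]), ([8, 2, 0, 1, 4, 5, 7, 3, 7, 5, 8, 7, 5, 7, 8], [1, 0, 1, 0, 1, 0, 1, 0, 2, 0, 1, 0, 1, 0, 2, 0, 2, 0, 2, 0, 2]), ([8, 2, 0, 1, 4, 5, 7, 3, 7, 5, 8, 7, 5, 7, 8], [1, 0, 1, 0, 1, 0, 1, 0, 2, 0, 1, 0, 1, 0, 2, 0, 2, 0, 2, 0, 2]), ([2, 0, 8, 3, 5, 1, 3, 3, 5, 3, 3, 6, 3, 5, 7, 4, 7, 8, 7, 4, 7], [1, 0, 1, 0, 1, 0, 1, 0, 2, 0, 0, 1, 0, 2, 0, 1, 0, 1, 0, 1, 0, 1, 0, 2, 0, 2, 0, 2, 0, 1, 0, 1, 0, 2, 0, 2, 0, 2, 0, 2]), ([8, 2, 0, 1, 4, 5, 7, 3, 7, 5, 8, 7, 5, 7, 8], [1, 0, 1, 0, 1, 0, 1, 0, 2, 0, 1, 0, 1, 0, 2, 0, 2, 0, 2, 0, 2]), ([8, 2, 0, 1, 4, 5, 7, 3, 7, 5, 8, 7, 5, 7, 8], [1, 0, 1, 0, 1, 0, 1, 0, 2, 0, 1, 0, 1, 0, 2, 0, 2, 0, 2, 0, 2])], [1, 0, 1, 0, 1, 0, 1, 0, 2, 0, 0, 1, 0, 1, 0, 1, 0, 2, 0, 2,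 0, 2, 0, 2, 0, 1, 0, 2]),
  (237, [([], []), ([6, 3, 1, 4, 0, 2, 5, 4, 6, 5, 3, 7, 4, 7, 8, 7, 3, 7, 5, 8], [2, 0, 1, 0, 1, 0, 1, 0, 2, 0, 2, 0, 2, 0, 2]), ([8, 2, 0, 1, 4, 5, 7, 3, 7, 5, 8, 7, 5, 7, 8], [1, 0, 1, 0, 1, 0, 1, 0, 2, 0, 1, 0, 1, 0, 2, 0, 2, 0, 2, 0, 2]), ([8, 2, 0, 1, 4, 5, 7, 3, 7, 5, 8, 7, 5, 7, 8], [1, 0, 1, 0, 1, 0, 1, 0, 2, 0, 1, 0, 1, 0, 2, 0, 2, 0, 2, 0, 2]), ([8, 1, 6, 3, 1, 4, 5, 6, 5, 3, 7, 8, 7, 3, 7, 5], [1, 0, 1, 0, 1, 0, 1, 0, 2, 0, 0, 2, 0, 1]), ([0, 1, 8, 4, 0, 1, 5, 4, 6, 3, 5, 7, 5, 7, 8, 7, 6, 4], [0, 1, 0, 1, 0, 2, 0, 1, 0, 1, 0, 1, 0, 2, 0, 2, 0, 0, 1, 0, 2, 0, 2, 0, 2, 0, 2]), ([2, 0, 1, 4, 7, 3, 7, 8], [1, 0, 1, 0, 1, 0, 1, 0, 2, 0, 2, 0, 1, 0, 2, 0, 2, 0, 2, 0, 2]), ([2, 0, 1, 4, 7,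 3, 7, 8], [1, 0, 1, 0, 1, 0, 1, 0, 2, 0, 2, 0, 1, 0, 2, 0, 2, 0, 2, 0, 2])], [1, 0, 1, 0, 1, 0, 1, 0, 2, 0, 2, 0, 1, 0, 1, 0, 2, 0, 2, 0, 2, 0, 1, 0, 2, 0, 2, 0, 2, 0, 2, 0, 2, 0, 1, 0, 1, 0, 2, 0, 2, 0, 2, 0, 1, 0, 2, 0, 1, 0, 2, 0, 1, 0, 2, 0, 2, 0, 2, 0, 1, 0, 2, 0, 2, 0, 1, 0, 2, 0, 2, 0, 2])]

def tg : List (List ℕ) := [[3, 3], [0, 1, 0, 2, 0, 1, 0, 2, 0, 1, 0, 2, 0, 2, 0, 2, 0, 1, 0, 2, 0, 2, 0, 1, 0, 2, 0, 1, 0, 1, 0, 2, 0, 2, 0, 2, 0, 2, 0, 1, 0, 1, 0, 1, 0, 2, 0, 3, 0, 1, 0, 2, 0, 2, 0, 2, 0, 1, 0, 1, 0, 1, 0, 1, 0, 2, 0, 2, 0, 1, 0, 2, 0, 1, 0, 1, 0, 2, 0, 1, 0, 1, 0, 1, 0, 2, 0, 1, 0, 2, 0, 1, 0, 2, 0, 3], [2, 0, 1, 0, 1, 0, 2, 0, 1, 0, 1, 0, 1, 0, 2, 0, 2, 0, 2, 0, 1, 0, 1, 0, 1, 0, 2, 0, 2, 0, 2, 0, 1, 0, 1,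 0, 1, 0, 1, 0, 1, 0, 1, 0, 1, 0, 2, 0, 2, 0, 1, 0, 1, 0, 2, 0, 2, 3, 1, 0, 1, 0, 2, 0, 2, 0, 1, 0, 1, 0, 2, 0, 2, 0, 2, 0, 2, 0, 2, 0, 2, 0, 2, 0, 1, 0, 1, 0, 1, 0, 2, 0, 2, 0, 2, 0, 1, 0, 1, 0, 1, 0, 2, 0, 2, 0, 2, 0, 1, 0, 2, 0, 2, 0, 1, 3], [0, 1, 0, 1, 0, 1, 0, 2, 0, 2, 0, 2, 0, 1, 0, 2, 0, 2, 0, 2, 0, 2, 0, 1, 0, 2, 0, 2, 0, 1, 0, 2, 0, 2, 0, 2, 0, 1, 0, 2, 0, 2, 0, 2, 0, 2, 0, 2, 0, 2, 0, 3, 0, 1, 0, 1, 0, 1, 0, 1, 0, 1, 0, 1, 0, 2, 0, 1, 0, 1, 0, 1, 0, 2, 0, 1, 0, 1, 0, 2, 0, 1, 0, 1, 0, 1, 0, 1, 0, 2, 0, 1, 0, 1, 0, 1, 0, 2, 0, 2, 0, 2, 0, 3], [1, 0, 2, 0, 2, 0, 2, 0, 1, 0, 1, 0, 2, 0, 2, 0, 1, 0, 1, 0, 1, 0, 1, 0, 1, 0, 2, 0, 2, 0, 2, 0, 2, 0, 1, 0, 1, 0, 1, 0, 1, 0, 2, 0, 2, 3, 1, 0, 1, 0, 2, 0, 2, 0, 2, 0, 2,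 0, 1, 0, 1, 0, 1, 0, 1, 0, 2, 0, 2, 0, 2, 0, 2, 0, 2, 0, 1, 0, 1, 0, 2, 0, 2, 0, 1, 0, 1, 0, 1, 0, 2, 3], [2, 0, 1, 0, 1, 0, 1, 0, 1, 0, 2, 0, 2, 0, 2, 0, 2, 0, 1, 0, 2, 0, 2, 0, 2, 0, 1, 0, 2, 0, 2, 0, 2, 0, 1, 0, 2, 0, 2, 0, 2, 0, 2, 0, 2, 0, 2, 0, 2, 0, 2, 0, 3, 0, 1, 0, 1, 0, 1, 0, 1, 0, 1, 0, 1, 0, 1, 0, 1, 0, 2, 0, 1, 0, 1, 0, 1, 0, 2, 0, 1, 0, 1, 0, 1, 0, 2, 0, 1, 0, 1, 0, 1, 0, 1, 0, 2, 0, 2, 0, 2, 0, 2, 0, 1, 3], [0, 2, 0, 1, 0, 2, 0, 2, 0, 2, 0, 1, 0, 1, 0, 1, 0, 1, 0, 1, 0, 1, 0, 2, 0, 2, 0, 1, 0, 2, 0, 2, 0, 2, 0, 2, 0, 1, 0, 1, 0, 2, 0, 1, 0, 1, 0, 2, 0, 2, 0, 3, 0, 1, 0, 1, 0, 2, 0, 2, 0, 1, 0, 2, 0, 2, 0, 1, 0, 1, 0, 1, 0, 1, 0, 2, 0, 1, 0, 1, 0, 2, 0, 2, 0, 2, 0, 2, 0, 2, 0, 2, 0, 1, 0, 1, 0, 1, 0, 2, 0,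 1, 0, 3], [3, 0, 3, 0, 1, 0, 2, 0, 1, 0, 1, 0, 1, 0, 1, 0, 2, 0, 2, 0, 2, 0, 3, 0, 1, 0, 1, 0, 1, 0, 2, 0, 2, 0, 2, 0, 2, 0, 1, 0, 2], [5, 2, 0, 1, 0, 3, 0, 2, 0, 1, 5, 0, 1, 0, 1, 0, 2, 0, 1, 0, 1, 0, 1, 0, 2, 0, 2, 0, 4, 0, 1, 0, 1, 0, 2, 0, 2, 0, 2, 0, 1, 0, 2, 0, 2, 0, 2, 0, 2, 0, 2, 0, 1, 0, 1, 0, 2, 0, 2, 0, 2, 0, 1, 0, 2, 0, 1, 0, 2, 0, 1, 0, 2, 0, 2, 0, 2, 0, 1, 0, 2, 0, 2, 0, 1, 0, 2, 0, 2, 0, 2]]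

theorem hT : ∀ r ∈ tg, ev g6 r = 1 := by
  have := J4A.simple
  refine rρ6.rels_of_mem (inj_range_of_simple ι0 ρ ne0) (fun r hr => ?_) (by decide +kernel)
    (J4M.hi.rels J4M.hb (by decide +kernel) (by decide +kernel))
  have h1 := hyp0.mem2 J4B.steps (by decide +kernel) (ts := ts) (by decide +kernel)
  have h2 : tg.map (renW R6) = (ts.map fun t => Dce.flatT 9 (t.2.1.map (·.2)) ++ t.2.2).map (renW R0) := by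
    decide +kernel
  have h3 : chkLet (List.range (9 + 1)) (ts.map fun t => Dce.flatT 9 (t.2.1.map (·.2)) ++ t.2.2) = true := by
    decide +kernel
  obtain ⟨w, hw, e⟩ := List.mem_map.1 (h2 ▸ List.mem_map_of_mem hr)
  rw [g6, ev_renG, ← e, ← Dce.ev_gD_ren h0 rfl (lt_of_chkLet h3 w hw)]
  exact h1 w hw

def b0 : List (List ℕ) := [[0, 0], [1, 2], [2, 1], [3, 4], [4, 3], [5, 5], [0, 0], [1, 2], [2, 1], [5, 5], [1, 1, 1], [0, 1, 0, 1, 0, 1, 0, 1, 0, 1, 0, 1, 0, 1, 0, 1, 0, 1, 0, 1, 0, 1, 0, 1, 0, 1, 0, 1, 0, 1, 0, 1, 0, 1, 0, 1, 0, 1, 0, 1, 0, 1, 0, 1, 0, 1], [0, 2, 0, 1, 0, 2, 0, 1, 0, 2, 0, 1, 0, 2, 0, 1, 0, 2, 0, 1, 0, 2, 0, 1, 0, 2, 0, 1, 0, 2, 0, 1, 0, 2, 0, 1, 0, 2, 0, 1, 0, 2, 0, 1, 0, 2, 0, 1], [0, 2, 0, 2, 0, 1, 0,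 1, 0, 2, 0, 2, 0, 1, 0, 1, 0, 2, 0, 2, 0, 1, 0, 1, 0, 2, 0, 2, 0, 1, 0, 1, 0, 2, 0, 2, 0, 1, 0, 1], [0, 1, 0, 1, 0, 2, 0, 1, 0, 2, 0, 1, 0, 2, 0, 1, 0, 1, 0, 2, 0, 1, 0, 2, 0, 1, 0, 2, 0, 1, 0, 1, 0, 2, 0, 1, 0, 2, 0, 1, 0, 2, 0, 1, 0, 1, 0, 2, 0, 1, 0, 2, 0, 1, 0, 2], [0, 1, 0, 1, 0, 2, 0, 1, 0, 1, 0, 2, 0, 1, 0, 1, 0, 2, 0, 1, 0, 2, 0, 2, 0, 1, 0, 2, 0, 2, 0, 1, 0, 2, 0, 2], [5, 2, 0, 2, 0, 2, 0, 1, 0, 1, 0, 2, 0, 2, 5, 1, 0, 1, 0, 2, 0, 2, 0, 1, 0, 1, 0, 1], [5, 0, 5, 0], [1, 0, 1, 0, 2, 0, 1, 0, 2, 5, 1, 0, 2, 0, 1, 0, 2, 0, 1, 0, 1, 0, 2, 0, 1, 0, 2, 5, 1, 0, 2, 0, 1, 0, 2, 0, 1, 0, 1, 0, 2, 0, 1, 0, 2, 5, 1, 0, 2, 0, 1, 0, 2, 0], [1, 0, 1, 0, 1, 0, 1, 1, 0, 1, 0, 1, 0, 1, 1, 0, 1, 0, 1, 0, 1, 5, 2, 2, 0, 2, 0, 2, 0,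 2, 0, 2, 0, 2, 0, 2, 2, 0, 2, 0, 2, 0, 5, 0, 1, 0, 1, 0, 1, 1, 0, 1, 0, 1, 0, 1, 0, 1, 0, 1, 0, 1, 1, 1, 0, 1, 0, 1, 0, 1, 1, 0, 1, 0, 1, 0, 1, 1, 0, 1, 0, 1, 0, 1, 5, 2, 2, 0, 2, 0, 2, 0, 2, 0, 2, 0, 2, 0, 2, 2, 0, 2, 0, 2, 0, 5, 0, 1, 0, 1, 0, 1, 1, 0, 1, 0, 1, 0, 1, 0, 1, 0, 1, 0, 1, 1], [1, 0, 1, 0, 2, 0, 2, 0, 2, 0, 2, 5, 1, 0, 1, 0, 1, 0, 1, 0, 2, 0, 1, 0, 1, 0, 2, 0, 2, 0, 2, 0, 2, 5, 1, 0, 1, 0, 1, 0, 1, 0, 2, 0, 1, 0, 1, 0, 2, 0, 2, 0, 2, 0, 2, 5, 1, 0, 1, 0, 1, 0, 1, 0, 2, 0, 4]]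

theorem hb : ∀ r ∈ b0 ++ tg, ev g6 r = 1 :=
  rels_append (renG_rels (hi.rels hg (by decide +kernel) (by decide +kernel))) hT

theorem hi6 : InvOk g6 6 [0, 2, 1, 4, 3, 5] := invOk_of_rels hb (by decide +kernel)

theorem exι : ∃ ι : J4H.G →* Cfsg.Spor.J4, ∀ x < 4, ι (J4H.g x) = renG g6 (sing (List.range 4)) x :=
  J4H.lifts _ _ (renG_rels (hi6.rels hb (by decide +kernel) (by decide +kernel)))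

noncomputable def ι : J4H.G →* Cfsg.Spor.J4 := exι.choose

noncomputable def T : Cfsg.Spor.J4 := renG g6 R 11

theorem h1 : ∀ x < 11, ι (J4L.yK x) = renG g6 R x := map_renG (ren := J4L.renK) exι.choose_spec (by decide +kernel) _

theorem cp : Dce.CommP ι J4L.yK T [[0], [1, 0, 1, 0, 2, 0, 2, 0, 1, 0, 1, 0, 1], [2, 0, 2, 0, 2, 0, 1, 0, 1, 0, 2, 0, 2], [2, 0, 1, 0, 3, 0, 2, 0, 1]] [[0], [1, 0, 1, 0, 2, 0, 2, 0, 1, 0, 1, 0, 1], [2, 0, 2, 0, 2, 0, 1, 0, 1, 0, 2, 0, 2], [1, 0, 1, 0, 1, 0, 2, 0, 1, 0, 1, 0, 2, 0, 1, 0, 1, 0, 1, 0, 2, 0, 1, 0, 2, 0, 1, 0, 2, 0, 1, 0, 1, 0, 1, 0, 2, 0, 2, 0, 1, 0, 1, 0, 1, 0, 1, 0, 1, 0, 2, 0, 1, 0, 1, 0, 1, 0, 2, 0, 2, 0, 3, 0, 1, 0, 1, 0, 2, 0, 2, 0, 2, 0, 1, 0, 2, 0, 2, 0]] :=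
  Dce.commP_of_rels h1 rfl hi6 (ps := List.zip [[0], [1, 0, 1, 0, 2, 0, 2, 0, 1, 0, 1, 0, 1], [2, 0, 2, 0, 2, 0, 1, 0, 1, 0, 2, 0, 2], [2, 0, 1, 0, 3, 0, 2, 0, 1]] [[0], [1, 0, 1, 0, 2, 0, 2, 0, 1, 0, 1, 0, 1], [2, 0, 2, 0, 2, 0, 1, 0, 1, 0, 2, 0, 2], [1, 0, 1, 0, 1, 0, 2, 0, 1, 0, 1, 0, 2, 0, 1, 0, 1, 0, 1, 0, 2, 0, 1, 0, 2, 0, 1, 0, 2, 0, 1, 0, 1, 0, 1, 0, 2, 0, 2, 0, 1, 0, 1, 0, 1, 0, 1, 0, 1, 0, 2, 0, 1, 0, 1, 0, 1, 0, 2, 0, 2, 0, 3, 0, 1, 0, 1, 0, 2, 0, 2, 0, 2, 0, 1, 0, 2, 0, 2, 0]]) (by decide +kernel) (hi6.prod hb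
   [[([5], 34)],
    [([5, 2, 0, 2, 0, 2, 0, 1, 0, 1, 0, 2, 0, 2, 5], 32)],
    [([5], 32)],
    [([5], 58)]] (by decide +kernel))

theorem comm : ∀ x, 0 < Dce.tb J4D.sgc x → T * ι (J4L.yK x) = ι (J4L.yK (Dce.sgm J4D.sgc x)) * T :=
  cp.comm J4L.paK (ws := [[], [], [], [], [0, 1, 0, 1, 1, 0, 1, 0, 1, 1, 0, 2, 0, 2, 0, 2, 0, 1, 1], [1, 1, 0, 1, 0, 1, 0, 1, 0, 1, 1, 0, 2, 0, 1, 1, 0, 2, 0], [2, 0, 2, 0, 1, 0, 1, 0, 1, 1, 0, 2, 0, 2, 0, 1, 0, 1], [0, 2, 0, 2, 0, 1, 1, 0, 1, 1, 0, 1, 1, 0, 1, 0, 1, 0, 1, 0, 2, 0], [0, 1, 0, 2, 0, 2, 0, 2, 0, 1, 1, 0, 1, 1, 0, 1, 1, 0, 1, 0, 1, 0], [1, 0, 2, 0, 1, 1, 0, 2, 3, 0, 2, 0, 3, 1, 1, 0, 3, 2, 0, 1, 0, 1, 0], [], [], [], [], [], [], [], [], [], [], [], [], [], [], [], [], [], [], [],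 [], [], [], [], [], [], [], [], [], [], [], [], [], [], [], [], [], [], [], [], [], [], [], [], [], [], [], [], [], [], [], [], [], []]) (by decide +kernel)

theorem hr : ∀ w ∈ J4D.rels.map (Dce.flatT 11), ev (Dce.gD ι J4L.yK T 11) w = 1 :=
  Dce.rels_gD h1 rfl (by decide +kernel) (hi6.prod hb [[],
    [([1, 0, 1, 0, 2, 0, 1, 0, 2, 5], 36)],
    [([1, 0, 1, 0, 2, 0, 2, 0, 2, 0, 2, 5, 1, 0, 1, 0, 1, 0, 1, 0, 2, 0, 1, 0, 1, 0, 2, 0, 2, 0, 2, 0, 2, 5, 1, 0, 1, 0, 1, 0, 1, 0, 2, 0, 1, 0, 1, 0, 2, 0, 2, 0, 2, 0, 2, 5], 40), ([1, 0, 1, 0, 2, 0, 2, 0, 2, 0, 2, 5, 1, 0, 1, 0, 1, 0, 1, 0, 2, 0, 1, 0, 1, 0, 2, 0, 2, 0, 2, 0, 2, 5, 1, 0, 1, 0, 1, 0, 1, 0, 2, 0, 1, 0, 1, 0, 2, 0, 2, 0, 2, 0, 2, 5], 42)],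
    [([1, 0, 1, 0, 2, 0, 1, 0, 2, 5], 36)],
    [([1, 0, 1, 0, 1, 0, 1, 1, 0, 1, 0, 1, 0, 1, 1, 0, 1, 0, 1, 0, 1, 5, 2, 2, 0, 2, 0, 2, 0, 2, 0, 2, 0, 2, 0, 2, 2, 0, 2, 0, 2, 0, 5], 38)],
    [([1, 0, 1, 0, 1, 0, 1, 1, 0, 1, 0, 1, 0, 1, 1, 0, 1, 0, 1, 0, 1, 5], 38)],
    [([1, 0, 1, 0, 1, 0, 1, 1, 0, 1, 0, 1, 0, 1, 1, 0, 1, 0, 1, 0, 1, 5], 38)],
    [([1, 0, 1, 0, 1, 0, 1, 1, 0, 1, 0, 1, 0, 1, 1, 0, 1, 0, 1, 0, 1, 5, 2, 2, 0, 2, 0, 2, 0, 2, 0, 2, 0, 2, 0, 2, 2, 0, 2, 0, 2, 0, 5], 38)],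
    [([1, 0, 1, 0, 2, 0, 2, 0, 2, 0, 2, 5, 1, 0, 1, 0, 1, 0, 1, 0, 2, 0, 1, 0, 1, 0, 2, 0, 2, 0, 2, 0, 2, 5], 40), ([1, 0, 1, 0, 2, 0, 2, 0, 2, 0, 2, 5, 1, 0, 1, 0, 1, 0, 1, 0, 2, 0, 1, 0, 1, 0, 2, 0, 2, 0, 2, 0, 2, 5], 42)],
    []] (by decide +kernel))

theorem hTT : ∀ w ∈ [[11, 11]], ev (Dce.gD ι J4L.yK T 11) w = 1 :=
  Dce.rels_gD h1 rfl (by decide +kernel) (hi6.rels hb (by decide +kernel) (by decide +kernel))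

theorem hyp : Dce.Hyp ι J4L.yK T J4H.φ 2048 J4L.actK [0, 1, 2, 3] 11 J4D.ivc J4D.sgc [11] J4D.rels :=
  ⟨J4L.paK, by decide, Dce.hyp_inv J4L.paK (by decide +kernel), Dce.invT_of_rel hTT, comm,
    Dce.hyp_rel (by decide +kernel) hr⟩

noncomputable def ψ : J4H.G →* Perm ℕ := J4O.ex.choose

theorem rψ : PermRep J4L.yK J4O.nets 15180 10 ψ := J4O.ex.choose_spec.congr fun _ hx => renG_append _ _ hx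

theorem stabC : IsStab ψ (genW J4L.yK (sing [4, 5, 6, 7, 8, 9])) 0 :=
  rψ.stab_le (rψ.trans (by decide) J4O.otr) (fun c hc => fix_of_chkClosed rψ.ok (ws := sing [4, 5, 6, 7, 8, 9]) (by decide +kernel)
    ((rψ.map_genW (by decide +kernel)).le (Subgroup.mem_map_of_mem ψ hc))) (m := 33030144) J4H.card (by decide)
    (CardGe.of_map ψ (by rw [rψ.map_genW (by decide +kernel)]; exact lw1.cardGe))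

theorem injψ : Function.Injective ψ :=
  (rψ.card_eq (cardLe_of_card J4H.card (by decide) _) (by rw [← genW_sing]; exact lw0.cardGe)).2

instance finK : Finite J4H.G := Nat.finite_of_card_ne_zero (by rw [J4H.card]; decide)

theorem cert : Dce.Cert ι J4L.yK T 11 J4D.subs J4D.tab.at ψ 15180 0 J4D.sz.length J4D.nm J4D.sz :=
  hyp.cert J4D.steps rψ (by decide) (by decide)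
    (fun k hk => Dce.hC_of_comm comm (xs := [4, 5, 6, 7, 8, 9]) (by decide +kernel) ((genW_sing _ _).le ((stabC k).2 hk)))
    (by decide) rfl (by decide) J4D.tree J4D.rows

theorem top : genW g [[0], [1], [2], [3]] = ⊤ := eq_top_iff.2 (lt.genL_top.ge.trans (genW_sing g _).ge)

theorem gen : ∀ S : Subgroup Cfsg.Spor.J4, (∀ k, ι k ∈ S) → T ∈ S → S = ⊤ :=
  Dce.gen_top h1 rfl (by decide +kernel) (eq_top_iff.2 (top.ge.trans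
    ((genW_renG g R6 [[0], [1], [2], [5]]).ge.trans (genW_mono _ (by decide +kernel)))))

theorem rρ' : BRep J4M.D J4M.As 5 J4M.iv (Dce.gD ι J4L.yK T 11) (11 + 1) (R.map (renW Rp)) ρ :=
  rρ6.ren2 (gD_ren h1 rfl) (by decide +kernel) (J4M.hi.rels J4M.hb (by decide +kernel) (by decide +kernel))

theorem rng : ι.range = genW g6 (sing (List.range 4)) := range_eq_genW J4H.rep.top exι.choose_spec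

instance fp : Fact J4M.D.p.Prime := ⟨Nat.prime_two⟩

theorem main0 : Dce.Orbs ι (fun i => Dce.P (Dce.gD ι J4L.yK T 11) (basePt ι.range) J4D.tab.at (getL J4D.nm 0 i))
      J4D.sz.length J4D.sz ∧ ι.range.index = 173067389 ∧ Function.Injective ρ ∧ Function.Injective ι ∧
    Nat.card ι.range = 501397585920 ∧ Nat.card Cfsg.Spor.J4 = 501397585920 * 173067389 ∧ IsCoatom ι.range ∧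
    ∀ N : Subgroup Cfsg.Spor.J4, N.Normal → N ≤ ι.range → N = ⊥ :=
  have tr := fun k => rρ6.tri (mc := 1) (E := J4M.E) (P := J4M.P) (by decide +kernel) (by decide +kernel)
    (ws := sing (List.range 4)) (by decide +kernel) (by decide +kernel) (ι k) (rng ▸ ⟨k, rfl⟩)
  cert.main' gen (by decide) ρ (rkJ _ _) (fun k a k' => rkJ_mul (tr k) (tr k') a)
    (rρ'.sepRk (mc := 1) (by decide +kernel) (fun i => Dce.pw J4D.tab.at (getL J4D.nm 0 i)) (cs := cs)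
      (by decide +kernel) (fun i (hi : i < 7) => by interval_cases i; exacts [v0, v1, v2, v3, v4, v5, v6]) (by decide))
    (by decide +kernel) rfl (fun k hk => injψ (hk.trans ψ.map_one.symm)) (by decide) (by decide) J4H.card
    (by decide +kernel)

theorem main : ι.range.index = 173067389 ∧ Function.Injective ρ ∧ Function.Injective ι ∧
    Nat.card ι.range = 501397585920 ∧ Nat.card Cfsg.Spor.J4 = 501397585920 * 173067389 ∧ IsCoatom ι.range ∧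
    ∀ N : Subgroup Cfsg.Spor.J4, N.Normal → N ≤ ι.range → N = ⊥ := main0.2

theorem pw : (T * ι (ev J4L.yK [0, 2, 0, 0, 0, 1, 2, 0])) ^ 37 = 1 := by
  have := rρ'.rels main.2.1 (rels := [powW ([0, 2, 0, 0, 0, 1, 2, 0] ++ [11]) 37]) (by decide +kernel)
    (J4M.hi.rels (J4M.ok.rels (es := [(.mul (.sq (.sq (.mul (.sq (.sq (.sq (.mul (.mul (.mul (.lt 0) (.lt 2)) (.mul (.sq (.lt 0)) (.lt 0))) (.mul (.mul (.lt 1) (.lt 2)) (.mul (.lt 0) (.lt 3))))))) (.mul (.mul (.mul (.lt 0) (.lt 2)) (.mul (.sq (.lt 0)) (.lt 0))) (.mul (.mul (.lt 1) (.lt 2)) (.mul (.lt 0) (.lt 3))))))) (.mul (.mul (.mul (.lt 0) (.lt 2)) (.mul (.sq (.lt 0)) (.lt 0))) (.mul (.mul (.lt 1) (.lt 2)) (.mul (.lt 0) (.lt 3)))))]) (by decide +kernel)) (by decide +kernel)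 (by decide +kernel)) _
    List.mem_cons_self
  rwa [ev_powW, ev_append, ev_one, Dce.gD_t, Dce.ev_gD (by decide)] at this

theorem ncl : Subgroup.normalClosure {ev J4H.g ([0, 1, 2, 0, 0, 0, 1, 0] ++ [0, 1, 2, 0, 0, 0, 1, 0])} = ⊤ := by
  obtain ⟨κ, h⟩ := J4K.lifts _ _ (renG_rels (g := J4H.g) (ren := sing (List.range 3))
    (J4H.invOk.rels J4H.hg (by decide +kernel) (by decide +kernel)))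
  have := J4A.simple
  refine ncl_top_of_simple κ h (w := [0, 1, 2, 0, 0, 0, 1, 0] ++ [0, 1, 2, 0, 0, 0, 1, 0]) (by decide +kernel)
    (J4A.paK.ne_one (w := [0, 1, 2, 0, 0, 0, 1, 0] ++ [0, 1, 2, 0, 0, 0, 1, 0]) 0 (by decide) (by decide +kernel) ∘ fun e => ?_) J4H.rep.top fun π h1 => ?_
  · rw [J4A.yK, ev_renG, show renW J4A.renK ([0, 1, 2, 0, 0, 0, 1, 0] ++ [0, 1, 2, 0, 0, 0, 1, 0]) = [0, 1, 2, 0, 0, 0, 1, 0] ++ [0, 1, 2, 0, 0, 0, 1, 0] by decide +kernel]; exact e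
  · have h2 := rels_filter π h1 J4H.hg
    have a := h2 [3, 3] (by decide +kernel)
    have b := h2 [3, 3, 3] (by decide +kernel)
    rw [ev_cons, a, one_mul] at b
    intro x hx
    rcases Nat.lt_succ_iff_lt_or_eq.1 hx with e | rfl
    exacts [h1 x e, b]

theorem ncl' : Subgroup.normalClosure {a | ∃ r ∈ [[11, 11]].map (Dce.substT 11 [0, 1, 2, 0, 0, 0, 1, 0]), ev J4L.yK r = a} = ⊤ := by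
  rw [show [[11, 11]].map (Dce.substT 11 [0, 1, 2, 0, 0, 0, 1, 0]) = [[0, 1, 2, 0, 0, 0, 1, 0] ++ [0, 1, 2, 0, 0, 0, 1, 0]] by decide +kernel]
  exact ncl_of_one (g := J4H.g) (ren := J4L.renK) (by
    rw [show renW J4L.renK ([0, 1, 2, 0, 0, 0, 1, 0] ++ [0, 1, 2, 0, 0, 0, 1, 0]) = [0, 1, 2, 0, 0, 0, 1, 0] ++ [0, 1, 2, 0, 0, 0, 1, 0] by decide +kernel]; exact ncl)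

theorem simple : IsSimpleGroup Cfsg.Spor.J4 :=
  Dce.simple_of_coatom main.2.2.2.2.2.1 main.2.2.2.2.2.2 pw (by rw [main.2.2.2.1]; decide +kernel)
    (Dce.ncl_top gen (kw := [0, 1, 2, 0, 0, 0, 1, 0]) (J4L.paK.rels (ws := [_]) (by decide +kernel) _ List.mem_cons_self) hTT ncl')

theorem rng00 : ι0.range = genW g (sing (List.range 3)) := range_eq_genW J4K.rep.top exι0.choose_spec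

theorem rng0 : ι0.range = genW g [[0], [1]] :=
  rng00.trans (le_antisymm (hi.genW_le
    (hi.defs hg (ren := sing (List.range 4)) (by decide +kernel) [] (by decide +kernel)) (by decide +kernel))
    (genW_mono _ (by decide)))

theorem rng' : ι.range = genW g [[0], [1], R6.getD 3 []] :=
  rng.trans ((le_antisymm (hi6.genW_le
    (hi6.defs hb (ren := sing (List.range 6)) (by decide +kernel) [] (by decide +kernel)) (by decide +kernel))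
    (genW_mono _ (by decide))).trans (genW_renG g R6 [[0], [1], [3]]))

end Cfsg.Agent.Spor.J4G
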