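import Cfsg.Agent.Spor.J4O

/-! The alphabet of the double coset enumeration for the fourth Janko group (helper23). -/

set_option Elab.async false
set_option maxRecDepth 100000
set_option exponentiation.threshold 100000

namespace Cfsg.Agent.Spor.J4L

open Equiv

def renK : List (List ℕ) := (sing (List.range 4) ++ J4O.defs) ++ [[2, 0, 1, 0, 1, 0, 1, 0, 2, 0, 3, 0, 1, 0, 2, 0, 2, 3, 0, 2, 0, 1]]

noncomputable def yK : ℕ → J4H.G := renG J4H.g renK

noncomputable def actK : ℕ → ℕ → ℕ := tabR J4H.nets 2048 11 J4H.iv renK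

theorem paK : PtAct J4H.φ 2048 [0, 1, 2, 3] yK actK :=
  ptAct_ren J4H.rep J4H.invOk (by decide +kernel) (by decide) (by decide) J4H.base (by decide)

end Cfsg.Agent.Spor.J4L
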