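import Cfsg.Agent.Spor.LyO

/-! The alphabet of the double coset enumeration for the Lyons group (helper23). -/

set_option Elab.async false
set_option maxRecDepth 100000
set_option exponentiation.threshold 100000

namespace Cfsg.Agent.Spor.LyA

open Equiv

def renK : List (List ℕ) := (sing (List.range 19) ++ LyO.defs) ++ [[1, 3, 1, 2, 2, 1], [0, 3, 3, 0, 2, 0], [0, 3, 1, 2, 2, 1], [0, 3, 3, 0, 2, 1], [3, 3, 0, 2, 2, 5, 1, 3, 11, 0], [0, 3, 0, 2, 2, 0, 4, 12, 12, 15]]

noncomputable def y : ℕ → LyK.G := renG LyK.g renK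

noncomputable def act : ℕ → ℕ → ℕ := tabR JLyK.nets 3906 12 LyK.iv renK

theorem pa : PtAct LyK.φ 3906 [0, 1, 22] y act :=
  ptAct_ren LyK.rep LyK.invOk (by decide +kernel) (by decide) (by decide) LyK.base (by decide)

end Cfsg.Agent.Spor.LyA
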