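import Cfsg.Agent.Spor.LyG
import Cfsg.Agent.Spor.Cent4
import Cfsg.Agent.Known.McLEq
import Cfsg.Agent.Spor.LyCM0

/-! Centralisers in the Lyons group (generated certificate, helper23). -/

set_option Elab.async false
set_option maxRecDepth 100000
set_option exponentiation.threshold 100000

namespace Cfsg.Agent.Spor.LyC

open Equiv

theorem m1c0 : Nat.beq (LyM.D.evE LyM.As (getL m1E (.lt 0) 0)) (getL m1As 0 0) = true := by decide +kernel

theorem m1c1 : Nat.beq (LyM.D.evE LyM.As (getL m1E (.lt 0) 1)) (getL m1As 0 1) = true := by decide +kernel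

theorem m1c2 : Nat.beq (LyM.D.evE LyM.As (getL m1E (.lt 0) 2)) (getL m1As 0 2) = true := by decide +kernel

theorem m1c3 : Nat.beq (LyM.D.evE LyM.As (getL m1E (.lt 0) 3)) (getL m1As 0 3) = true := by decide +kernel

theorem m1c4 : Nat.beq (LyM.D.evE LyM.As (getL m1E (.lt 0) 4)) (getL m1As 0 4) = true := by decide +kernel

theorem m1c5 : Nat.beq (LyM.D.evE LyM.As (getL m1E (.lt 0) 5)) (getL m1As 0 5) = true := by decide +kernel

theorem m1c6 : Nat.beq (LyM.D.evE LyM.As (getL m1E (.lt 0) 6)) (getL m1As 0 6) = true := by decide +kernel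

theorem m1c7 : Nat.beq (LyM.D.evE LyM.As (getL m1E (.lt 0) 7)) (getL m1As 0 7) = true := by decide +kernel

theorem m1c8 : Nat.beq (LyM.D.evE LyM.As (getL m1E (.lt 0) 8)) (getL m1As 0 8) = true := by decide +kernel

theorem m1c9 : Nat.beq (LyM.D.evE LyM.As (getL m1E (.lt 0) 9)) (getL m1As 0 9) = true := by decide +kernel

theorem m1c10 : Nat.beq (LyM.D.evE LyM.As (getL m1E (.lt 0) 10)) (getL m1As 0 10) = true := by decide +kernel

theorem m1c11 : Nat.beq (LyM.D.evE LyM.As (getL m1E (.lt 0) 11)) (getL m1As 0 11) = true := by decide +kernel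

theorem m1c12 : Nat.beq (LyM.D.evE LyM.As (getL m1E (.lt 0) 12)) (getL m1As 0 12) = true := by decide +kernel

theorem m1c13 : Nat.beq (LyM.D.evE LyM.As (getL m1E (.lt 0) 13)) (getL m1As 0 13) = true := by decide +kernel

theorem m1c14 : Nat.beq (LyM.D.evE LyM.As (getL m1E (.lt 0) 14)) (getL m1As 0 14) = true := by decide +kernel

theorem m1c15 : Nat.beq (LyM.D.evE LyM.As (getL m1E (.lt 0) 15)) (getL m1As 0 15) = true := by decide +kernel

theorem m1c16 : Nat.beq (LyM.D.evE LyM.As (getL m1E (.lt 0) 16)) (getL m1As 0 16) = true := by decide +kernel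

theorem m1c17 : Nat.beq (LyM.D.evE LyM.As (getL m1E (.lt 0) 17)) (getL m1As 0 17) = true := by decide +kernel

theorem m1c18 : Nat.beq (LyM.D.evE LyM.As (getL m1E (.lt 0) 18)) (getL m1As 0 18) = true := by decide +kernel

theorem m1c19 : Nat.beq (LyM.D.evE LyM.As (getL m1E (.lt 0) 19)) (getL m1As 0 19) = true := by decide +kernel

theorem m1c20 : Nat.beq (LyM.D.evE LyM.As (getL m1E (.lt 0) 20)) (getL m1As 0 20) = true := by decide +kernel

theorem m1c21 : Nat.beq (LyM.D.evE LyM.As (getL m1E (.lt 0) 21)) (getL m1As 0 21) = true := by decide +kernel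

theorem m2c0 : Nat.beq (LyM.D.evE m1As (getL m2E (.lt 0) 0)) (getL m2As 0 0) = true := by decide +kernel

theorem m2c1 : Nat.beq (LyM.D.evE m1As (getL m2E (.lt 0) 1)) (getL m2As 0 1) = true := by decide +kernel

theorem m2c2 : Nat.beq (LyM.D.evE m1As (getL m2E (.lt 0) 2)) (getL m2As 0 2) = true := by decide +kernel

theorem m2c3 : Nat.beq (LyM.D.evE m1As (getL m2E (.lt 0) 3)) (getL m2As 0 3) = true := by decide +kernel

theorem m2c4 : Nat.beq (LyM.D.evE m1As (getL m2E (.lt 0) 4)) (getL m2As 0 4) = true := by decide +kernel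

theorem m2c5 : Nat.beq (LyM.D.evE m1As (getL m2E (.lt 0) 5)) (getL m2As 0 5) = true := by decide +kernel

theorem m2c6 : Nat.beq (LyM.D.evE m1As (getL m2E (.lt 0) 6)) (getL m2As 0 6) = true := by decide +kernel

theorem m2c7 : Nat.beq (LyM.D.evE m1As (getL m2E (.lt 0) 7)) (getL m2As 0 7) = true := by decide +kernel

theorem m2c8 : Nat.beq (LyM.D.evE m1As (getL m2E (.lt 0) 8)) (getL m2As 0 8) = true := by decide +kernel

theorem m2c9 : Nat.beq (LyM.D.evE m1As (getL m2E (.lt 0) 9)) (getL m2As 0 9) = true := by decide +kernel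

theorem m2c10 : Nat.beq (LyM.D.evE m1As (getL m2E (.lt 0) 10)) (getL m2As 0 10) = true := by decide +kernel

theorem m2c11 : Nat.beq (LyM.D.evE m1As (getL m2E (.lt 0) 11)) (getL m2As 0 11) = true := by decide +kernel

theorem m2c12 : Nat.beq (LyM.D.evE m1As (getL m2E (.lt 0) 12)) (getL m2As 0 12) = true := by decide +kernel

theorem m2c13 : Nat.beq (LyM.D.evE m1As (getL m2E (.lt 0) 13)) (getL m2As 0 13) = true := by decide +kernel

theorem m2c14 : Nat.beq (LyM.D.evE m1As (getL m2E (.lt 0) 14)) (getL m2As 0 14) = true := by decide +kernel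

theorem m2c15 : Nat.beq (LyM.D.evE m1As (getL m2E (.lt 0) 15)) (getL m2As 0 15) = true := by decide +kernel

theorem m2c16 : Nat.beq (LyM.D.evE m1As (getL m2E (.lt 0) 16)) (getL m2As 0 16) = true := by decide +kernel

theorem m2c17 : Nat.beq (LyM.D.evE m1As (getL m2E (.lt 0) 17)) (getL m2As 0 17) = true := by decide +kernel

theorem m2c18 : Nat.beq (LyM.D.evE m1As (getL m2E (.lt 0) 18)) (getL m2As 0 18) = true := by decide +kernel

theorem m2c19 : Nat.beq (LyM.D.evE m1As (getL m2E (.lt 0) 19)) (getL m2As 0 19) = true := by decide +kernel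

theorem m2c20 : Nat.beq (LyM.D.evE m1As (getL m2E (.lt 0) 20)) (getL m2As 0 20) = true := by decide +kernel

theorem m2c21 : Nat.beq (LyM.D.evE m1As (getL m2E (.lt 0) 21)) (getL m2As 0 21) = true := by decide +kernel

theorem m2c22 : Nat.beq (LyM.D.evE m1As (getL m2E (.lt 0) 22)) (getL m2As 0 22) = true := by decide +kernel

theorem m2c23 : Nat.beq (LyM.D.evE m1As (getL m2E (.lt 0) 23)) (getL m2As 0 23) = true := by decide +kernel

theorem m2c24 : Nat.beq (LyM.D.evE m1As (getL m2E (.lt 0) 24)) (getL m2As 0 24) = true := by decide +kernel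

theorem m2c25 : Nat.beq (LyM.D.evE m1As (getL m2E (.lt 0) 25)) (getL m2As 0 25) = true := by decide +kernel

theorem m2c26 : Nat.beq (LyM.D.evE m1As (getL m2E (.lt 0) 26)) (getL m2As 0 26) = true := by decide +kernel

theorem m2c27 : Nat.beq (LyM.D.evE m1As (getL m2E (.lt 0) 27)) (getL m2As 0 27) = true := by decide +kernel

theorem m2c28 : Nat.beq (LyM.D.evE m1As (getL m2E (.lt 0) 28)) (getL m2As 0 28) = true := by decide +kernel

theorem m2c29 : Nat.beq (LyM.D.evE m1As (getL m2E (.lt 0) 29)) (getL m2As 0 29) = true := by decide +kernel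

theorem m2c30 : Nat.beq (LyM.D.evE m1As (getL m2E (.lt 0) 30)) (getL m2As 0 30) = true := by decide +kernel

theorem m2c31 : Nat.beq (LyM.D.evE m1As (getL m2E (.lt 0) 31)) (getL m2As 0 31) = true := by decide +kernel

theorem m2c32 : Nat.beq (LyM.D.evE m1As (getL m2E (.lt 0) 32)) (getL m2As 0 32) = true := by decide +kernel

theorem m2c33 : Nat.beq (LyM.D.evE m1As (getL m2E (.lt 0) 33)) (getL m2As 0 33) = true := by decide +kernel

theorem m2c34 : Nat.beq (LyM.D.evE m1As (getL m2E (.lt 0) 34)) (getL m2As 0 34) = true := by decide +kernel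

theorem m2c35 : Nat.beq (LyM.D.evE m1As (getL m2E (.lt 0) 35)) (getL m2As 0 35) = true := by decide +kernel

theorem m2c36 : Nat.beq (LyM.D.evE m1As (getL m2E (.lt 0) 36)) (getL m2As 0 36) = true := by decide +kernel

theorem m2c37 : Nat.beq (LyM.D.evE m1As (getL m2E (.lt 0) 37)) (getL m2As 0 37) = true := by decide +kernel

end Cfsg.Agent.Spor.LyC
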