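import Cfsg.Agent.Spor.LyG
import Cfsg.Agent.Spor.Cent4
import Cfsg.Agent.Known.McLEq

/-! Centralisers in the Lyons group (generated certificate, helper23). -/

set_option Elab.async false
set_option maxRecDepth 100000
set_option exponentiation.threshold 100000

namespace Cfsg.Agent.Spor.LyC

open Equiv

theorem lc0 : BaseGe (genW (PP JLyK.nets) (sing [0, 2])) 480 [22] :=
  BaseGe.stepW (L := 12) (n := 480) JLyK.ok (genW_nil_base _) [] [0, 1, 0, 1, 0, 1, 0, 1, 0, 1, 0, 1, 0, 1, 0, 1, 1] (by decide +kernel)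

end Cfsg.Agent.Spor.LyC
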