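import Cfsg.Agent.Spor.LyG
import Cfsg.Agent.Spor.Cent4
import Cfsg.Agent.Known.McLEq
import Cfsg.Agent.Spor.LyCM0

/-! Centralisers in the Lyons group (generated certificate, helper23). -/

set_option Elab.async false
set_option maxRecDepth 100000
set_option exponentiation.threshold 100000

namespace Cfsg.Agent.Spor.LyC

open Equiv

def eM0 : List (Ex × List Ex) := [((.mul (.lt 22) (.lt 20)), [(.mul (.lt 20) (.lt 22))]),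
  ((.mul (.lt 23) (.lt 20)), [(.mul (.lt 20) (.lt 23))]),
  ((.mul (.lt 24) (.lt 20)), [(.mul (.lt 20) (.lt 24))]),
  ((.mul (.lt 25) (.lt 20)), [(.mul (.lt 20) (.lt 25))]),
  ((.mul (.lt 26) (.lt 20)), [(.mul (.lt 20) (.lt 26))]),
  ((.mul (.lt 27) (.lt 20)), [(.mul (.lt 20) (.lt 27))]),
  ((.mul (.lt 28) (.lt 20)), [(.mul (.lt 20) (.lt 28))]),
  ((.mul (.lt 29) (.lt 20)), [(.mul (.lt 20) (.lt 29))]),
  ((.mul (.lt 30) (.lt 20)), [(.mul (.lt 20) (.lt 30))]),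
  ((.lt 0), [(.mul (.mul (.mul (.lt 25) (.lt 23)) (.mul (.lt 29) (.mul (.lt 26) (.lt 26)))) (.mul (.mul (.lt 28) (.lt 27)) (.mul (.lt 25) (.mul (.lt 23) (.lt 20)))))]),
  ((.lt 2), [(.mul (.mul (.lt 30) (.mul (.lt 24) (.lt 27))) (.mul (.lt 30) (.mul (.lt 23) (.lt 20))))]),
  ((.lt 6), [(.mul (.mul (.lt 22) (.lt 28)) (.mul (.lt 29) (.mul (.lt 29) (.lt 28))))]),
  ((.lt 17), [(.mul (.mul (.lt 22) (.mul (.lt 28) (.lt 25))) (.mul (.mul (.lt 26) (.lt 29)) (.mul (.lt 22) (.lt 28))))]),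
  ((.mul (.sq (.lt 22)) (.lt 22)), []),
  ((.mul (.sq (.lt 23)) (.lt 23)), []),
  ((.sq (.mul (.lt 23) (.lt 22))), [(.lt 20)]),
  ((.mul (.sq (.lt 24)) (.lt 24)), []),
  ((.sq (.mul (.lt 24) (.lt 22))), [(.lt 20)]),
  ((.sq (.mul (.lt 24) (.lt 23))), [(.lt 20)]),
  ((.mul (.sq (.lt 25)) (.lt 25)), []),
  ((.sq (.mul (.lt 25) (.lt 22))), [(.lt 20)]),
  ((.sq (.mul (.lt 25) (.lt 23))), [(.lt 20)]),
  ((.sq (.mul (.lt 25) (.lt 24))), [(.lt 20)]),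
  ((.mul (.sq (.lt 26)) (.lt 26)), []),
  ((.sq (.mul (.lt 26) (.lt 22))), [(.lt 20)]),
  ((.sq (.mul (.lt 26) (.lt 23))), [(.lt 20)]),
  ((.sq (.mul (.lt 26) (.lt 24))), [(.lt 20)]),
  ((.sq (.mul (.lt 26) (.lt 25))), [(.lt 20)]),
  ((.mul (.sq (.lt 27)) (.lt 27)), []),
  ((.sq (.mul (.lt 27) (.lt 22))), [(.lt 20)]),
  ((.sq (.mul (.lt 27) (.lt 23))), [(.lt 20)]),
  ((.sq (.mul (.lt 27) (.lt 24))), [(.lt 20)]),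
  ((.sq (.mul (.lt 27) (.lt 25))), [(.lt 20)]),
  ((.sq (.mul (.lt 27) (.lt 26))), [(.lt 20)]),
  ((.mul (.sq (.lt 28)) (.lt 28)), []),
  ((.sq (.mul (.lt 28) (.lt 22))), [(.lt 20)]),
  ((.sq (.mul (.lt 28) (.lt 23))), [(.lt 20)]),
  ((.sq (.mul (.lt 28) (.lt 24))), [(.lt 20)]),
  ((.sq (.mul (.lt 28) (.lt 25))), [(.lt 20)]),
  ((.sq (.mul (.lt 28) (.lt 26))), [(.lt 20)]),
  ((.sq (.mul (.lt 28) (.lt 27))), [(.lt 20)]),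
  ((.mul (.sq (.lt 29)) (.lt 29)), []),
  ((.sq (.mul (.lt 29) (.lt 22))), [(.lt 20)]),
  ((.sq (.mul (.lt 29) (.lt 23))), [(.lt 20)]),
  ((.sq (.mul (.lt 29) (.lt 24))), [(.lt 20)]),
  ((.sq (.mul (.lt 29) (.lt 25))), [(.lt 20)]),
  ((.sq (.mul (.lt 29) (.lt 26))), [(.lt 20)]),
  ((.sq (.mul (.lt 29) (.lt 27))), [(.lt 20)]),
  ((.sq (.mul (.lt 29) (.lt 28))), [(.lt 20)]),
  ((.mul (.sq (.lt 30)) (.lt 30)), []),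
  ((.sq (.mul (.lt 30) (.lt 22))), [(.lt 20)]),
  ((.sq (.mul (.lt 30) (.lt 23))), [(.lt 20)]),
  ((.sq (.mul (.lt 30) (.lt 24))), [(.lt 20)]),
  ((.sq (.mul (.lt 30) (.lt 25))), [(.lt 20)]),
  ((.sq (.mul (.lt 30) (.lt 26))), [(.lt 20)]),
  ((.sq (.mul (.lt 30) (.lt 27))), [(.lt 20)]),
  ((.sq (.mul (.lt 30) (.lt 28))), [(.lt 20)]),
  ((.sq (.mul (.lt 30) (.lt 29))), [(.lt 20)]),
  ((.mul (.mul (.mul (.lt 13) (.lt 15)) (.mul (.lt 15) (.mul (.lt 13) (.lt 8)))) (.mul (.mul (.lt 19) (.mul (.lt 8) (.lt 14))) (.mul (.lt 16) (.mul (.lt 16) (.lt 14))))), [(.mul (.mul (.mul (.lt 24) (.lt 29)) (.mul (.lt 26) (.mul (.lt 30) (.lt 23)))) (.mul (.mul (.lt 29) (.mul (.lt 28) (.lt 25))) (.mul (.lt 27) (.mul (.lt 24) (.lt 22)))))]),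
  ((.lt 19), [(.mul (.mul (.lt 25) (.mul (.lt 26) (.lt 29))) (.mul (.lt 28) (.mul (.lt 26) (.lt 25))))]),
  ((.mul (.lt 19) (.mul (.lt 6) (.lt 19))), [(.mul (.mul (.lt 28) (.lt 22)) (.mul (.lt 29) (.mul (.lt 28) (.lt 28))))]),
  ((.mul (.mul (.lt 19) (.lt 6)) (.mul (.lt 2) (.lt 19))), [(.mul (.mul (.mul (.lt 24) (.lt 28)) (.mul (.lt 30) (.lt 29))) (.mul (.mul (.lt 27) (.lt 28)) (.mul (.lt 23) (.lt 22))))])]

theorem heM0 : allL eM0 (fun e => Nat.beq (LyM.D.evE m2As e.1) (Ct.evO LyM.D m2As e.2)) = true := by decide +kernel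

def eM1 : List (Ex × List Ex) := [((.mul (.mul (.mul (.lt 4) (.mul (.lt 11) (.lt 7))) (.mul (.mul (.lt 12) (.lt 16)) (.mul (.lt 19) (.lt 6)))) (.mul (.mul (.lt 2) (.mul (.lt 19) (.lt 15))) (.mul (.mul (.lt 6) (.lt 14)) (.mul (.lt 5) (.lt 5))))), [(.mul (.mul (.mul (.lt 22) (.lt 28)) (.mul (.lt 24) (.mul (.lt 29) (.lt 30)))) (.mul (.mul (.lt 26) (.mul (.lt 22) (.lt 25))) (.mul (.lt 23) (.mul (.lt 27) (.lt 28)))))]),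
  ((.mul (.mul (.mul (.mul (.lt 5) (.lt 11)) (.mul (.lt 13) (.lt 0))) (.mul (.mul (.lt 7) (.lt 15)) (.mul (.lt 14) (.lt 19)))) (.mul (.mul (.mul (.lt 8) (.lt 6)) (.mul (.lt 19) (.lt 6))) (.mul (.mul (.lt 11) (.lt 6)) (.mul (.lt 16) (.lt 4))))), [(.mul (.mul (.mul (.lt 22) (.lt 26)) (.mul (.lt 30) (.mul (.lt 22) (.lt 28)))) (.mul (.mul (.lt 29) (.mul (.lt 25) (.lt 23))) (.mul (.lt 23) (.mul (.lt 24) (.lt 20)))))]),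
  ((.mul (.mul (.mul (.lt 13) (.mul (.lt 1) (.lt 7))) (.mul (.lt 8) (.mul (.lt 11) (.lt 18)))) (.mul (.mul (.lt 19) (.mul (.lt 8) (.lt 6))) (.mul (.mul (.lt 19) (.lt 4)) (.mul (.lt 3) (.lt 11))))), [(.mul (.mul (.mul (.lt 24) (.lt 27)) (.mul (.lt 23) (.mul (.lt 28) (.lt 29)))) (.mul (.mul (.lt 27) (.mul (.lt 26) (.lt 25))) (.mul (.lt 30) (.mul (.lt 24) (.lt 26)))))]),
  ((.mul (.mul (.mul (.lt 5) (.mul (.lt 15) (.lt 7))) (.mul (.mul (.lt 8) (.lt 5)) (.mul (.lt 1) (.lt 19)))) (.mul (.mul (.mul (.lt 8) (.lt 6)) (.mul (.lt 19) (.lt 11))) (.mul (.mul (.lt 8) (.lt 13)) (.mul (.lt 13) (.lt 5))))), [(.mul (.mul (.mul (.lt 22) (.lt 23)) (.mul (.lt 29) (.mul (.lt 30) (.lt 26)))) (.mul (.mul (.lt 24) (.lt 28)) (.mul (.lt 27) (.mul (.lt 25) (.lt 23)))))]),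
  ((.mul (.lt 31) (.lt 21)), [(.mul (.lt 21) (.lt 31))]),
  ((.mul (.lt 32) (.lt 21)), [(.mul (.lt 21) (.lt 32))]),
  ((.mul (.lt 33) (.lt 21)), [(.mul (.lt 21) (.lt 33))]),
  ((.mul (.lt 34) (.lt 21)), [(.mul (.lt 21) (.lt 34))]),
  ((.mul (.lt 35) (.lt 21)), [(.mul (.lt 21) (.lt 35))]),
  ((.mul (.lt 36) (.lt 21)), [(.mul (.lt 21) (.lt 36))]),
  ((.mul (.lt 37) (.lt 21)), [(.mul (.lt 21) (.lt 37))]),
  ((.mul (.mul (.lt 0) (.sq (.mul (.lt 2) (.mul (.lt 0) (.lt 2))))) (.lt 2)), [(.mul (.mul (.mul (.lt 33) (.mul (.lt 31) (.lt 34))) (.mul (.mul (.lt 31) (.lt 36)) (.mul (.lt 35) (.lt 37)))) (.mul (.mul (.lt 35) (.mul (.lt 32) (.lt 36))) (.mul (.mul (.lt 37) (.lt 32)) (.mul (.lt 37) (.lt 31)))))]),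
  ((.lt 17), [(.mul (.mul (.mul (.mul (.mul (.lt 32) (.lt 36)) (.mul (.lt 37) (.lt 36))) (.mul (.mul (.lt 32) (.lt 35)) (.mul (.lt 36) (.lt 32)))) (.sq (.mul (.lt 36) (.lt 37)))) (.mul (.lt 32) (.mul (.lt 21) (.lt 21))))]),
  ((.mul (.lt 4) (.lt 13)), [(.mul (.mul (.mul (.lt 31) (.mul (.lt 34) (.lt 37))) (.mul (.lt 32) (.mul (.lt 34) (.lt 35)))) (.mul (.mul (.lt 37) (.mul (.lt 31) (.lt 33))) (.mul (.lt 34) (.mul (.lt 37) (.lt 31)))))]),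
  ((.lt 6), [(.mul (.mul (.mul (.lt 32) (.mul (.lt 33) (.lt 31))) (.mul (.mul (.lt 34) (.lt 32)) (.mul (.lt 36) (.lt 33)))) (.mul (.mul (.lt 34) (.mul (.lt 33) (.lt 37))) (.mul (.mul (.lt 36) (.lt 32)) (.mul (.lt 36) (.lt 34)))))]),
  ((.mul (.lt 31) (.lt 32)), []),
  ((.mul (.lt 32) (.lt 31)), []),
  ((.mul (.sq (.lt 31)) (.lt 31)), []),
  ((.mul (.lt 33) (.lt 33)), [(.lt 21)]),
  ((.mul (.sq (.mul (.lt 31) (.lt 33))) (.mul (.lt 31) (.lt 33))), []),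
  ((.mul (.lt 34) (.lt 34)), [])]

theorem heM1 : allL eM1 (fun e => Nat.beq (LyM.D.evE m2As e.1) (Ct.evO LyM.D m2As e.2)) = true := by decide +kernel

def eM2 : List (Ex × List Ex) := [((.mul (.sq (.mul (.lt 31) (.lt 34))) (.mul (.lt 31) (.lt 34))), []),
  ((.mul (.sq (.mul (.lt 31) (.mul (.lt 33) (.lt 34)))) (.mul (.lt 31) (.mul (.lt 33) (.lt 34)))), []),
  ((.mul (.sq (.mul (.lt 31) (.mul (.lt 34) (.lt 33)))) (.mul (.lt 31) (.mul (.lt 34) (.lt 33)))), []),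
  ((.mul (.lt 35) (.lt 35)), []),
  ((.mul (.sq (.sq (.mul (.lt 31) (.lt 35)))) (.mul (.lt 31) (.lt 35))), []),
  ((.mul (.mul (.mul (.mul (.lt 31) (.mul (.lt 34) (.lt 33))) (.mul (.lt 34) (.mul (.lt 35) (.lt 31)))) (.sq (.mul (.lt 35) (.lt 32)))) (.lt 33)), [(.lt 21)]),
  ((.mul (.mul (.mul (.lt 31) (.mul (.lt 34) (.lt 31))) (.mul (.lt 35) (.mul (.lt 34) (.lt 32)))) (.mul (.mul (.lt 35) (.mul (.lt 34) (.lt 33))) (.mul (.lt 35) (.mul (.lt 32) (.lt 33))))), [(.lt 21)]),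
  ((.mul (.lt 36) (.lt 36)), [(.lt 21)]),
  ((.mul (.mul (.mul (.lt 31) (.lt 35)) (.mul (.lt 36) (.mul (.lt 35) (.lt 34)))) (.mul (.mul (.lt 35) (.lt 36)) (.mul (.lt 35) (.mul (.lt 32) (.lt 34))))), [(.lt 21)]),
  ((.mul (.sq (.mul (.mul (.lt 33) (.lt 34)) (.mul (.lt 36) (.lt 34)))) (.mul (.mul (.lt 33) (.lt 34)) (.mul (.lt 36) (.lt 34)))), []),
  ((.mul (.mul (.mul (.lt 31) (.mul (.lt 33) (.lt 34))) (.mul (.lt 33) (.mul (.lt 31) (.lt 35)))) (.mul (.mul (.lt 36) (.mul (.lt 32) (.lt 33))) (.mul (.lt 34) (.mul (.lt 36) (.lt 35))))), [(.mul (.lt 21) (.lt 21))]),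
  ((.mul (.mul (.mul (.lt 31) (.mul (.lt 34) (.lt 35))) (.mul (.lt 36) (.mul (.lt 32) (.lt 33)))) (.mul (.mul (.lt 35) (.mul (.lt 32) (.lt 34))) (.mul (.mul (.lt 31) (.lt 36)) (.mul (.lt 35) (.lt 34))))), [(.mul (.lt 21) (.lt 21))]),
  ((.mul (.mul (.mul (.mul (.lt 31) (.lt 34)) (.mul (.lt 31) (.lt 36))) (.sq (.mul (.lt 33) (.lt 35)))) (.mul (.mul (.lt 36) (.mul (.lt 35) (.lt 36))) (.mul (.mul (.lt 32) (.lt 33)) (.mul (.lt 34) (.lt 35))))), [(.lt 21)]),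
  ((.mul (.lt 37) (.lt 37)), [(.lt 21)]),
  ((.mul (.sq (.mul (.lt 33) (.lt 37))) (.mul (.lt 33) (.lt 37))), []),
  ((.sq (.mul (.mul (.lt 31) (.lt 37)) (.mul (.lt 32) (.lt 35)))), [(.lt 21)]),
  ((.mul (.mul (.mul (.lt 31) (.lt 35)) (.mul (.lt 31) (.mul (.lt 37) (.lt 35)))) (.mul (.mul (.lt 37) (.lt 32)) (.mul (.lt 35) (.mul (.lt 32) (.lt 37))))), []),
  ((.mul (.sq (.mul (.lt 31) (.mul (.lt 37) (.lt 33)))) (.mul (.lt 31) (.mul (.lt 37) (.lt 33)))), []),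
  ((.sq (.sq (.mul (.lt 34) (.lt 37)))), [(.mul (.lt 21) (.lt 21))]),
  ((.mul (.sq (.sq (.mul (.lt 31) (.lt 37)))) (.mul (.lt 31) (.lt 37))), [(.lt 21)]),
  ((.sq (.mul (.mul (.lt 31) (.mul (.lt 33) (.lt 37))) (.mul (.lt 32) (.mul (.lt 34) (.lt 37))))), [(.lt 21)]),
  ((.mul (.mul (.mul (.mul (.lt 31) (.lt 33)) (.mul (.lt 35) (.lt 34))) (.mul (.mul (.lt 33) (.lt 34)) (.mul (.lt 31) (.lt 37)))) (.mul (.mul (.mul (.lt 34) (.lt 37)) (.mul (.lt 31) (.lt 33))) (.mul (.mul (.lt 35) (.lt 36)) (.mul (.lt 31) (.mul (.lt 35) (.lt 34)))))), []),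
  ((.mul (.mul (.mul (.mul (.lt 31) (.lt 33)) (.mul (.lt 32) (.lt 34))) (.mul (.mul (.lt 31) (.lt 37)) (.mul (.lt 35) (.lt 32)))) (.mul (.mul (.mul (.lt 34) (.lt 35)) (.mul (.lt 37) (.lt 31))) (.mul (.mul (.lt 34) (.lt 33)) (.mul (.lt 36) (.mul (.lt 33) (.lt 35)))))), [])]

theorem heM2 : allL eM2 (fun e => Nat.beq (LyM.D.evE m2As e.1) (Ct.evO LyM.D m2As e.2)) = true := by decide +kernel

def eM3 : List (Ex × List Ex) := [((.lt 19), [(.mul (.mul (.mul (.lt 37) (.mul (.lt 36) (.lt 33))) (.mul (.lt 31) (.mul (.lt 35) (.lt 36)))) (.mul (.mul (.lt 35) (.mul (.lt 33) (.lt 37))) (.mul (.lt 33) (.mul (.lt 21) (.lt 21)))))]),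
  ((.mul (.mul (.mul (.lt 3) (.lt 1)) (.mul (.lt 2) (.mul (.lt 2) (.lt 19)))) (.mul (.mul (.lt 6) (.mul (.lt 19) (.lt 3))) (.mul (.lt 3) (.mul (.lt 0) (.lt 2))))), [(.mul (.mul (.mul (.mul (.lt 32) (.lt 34)) (.mul (.lt 33) (.lt 34))) (.mul (.mul (.lt 36) (.lt 32)) (.mul (.lt 37) (.lt 34)))) (.mul (.mul (.mul (.lt 35) (.lt 32)) (.mul (.lt 37) (.lt 36))) (.mul (.mul (.lt 34) (.lt 31)) (.mul (.lt 21) (.lt 21)))))]),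
  ((.mul (.mul (.lt 3) (.lt 19)) (.mul (.lt 6) (.mul (.lt 2) (.lt 19)))), [(.mul (.mul (.mul (.lt 31) (.mul (.lt 36) (.lt 37))) (.mul (.mul (.lt 33) (.lt 36)) (.mul (.lt 37) (.lt 34)))) (.mul (.mul (.lt 31) (.mul (.lt 35) (.lt 32))) (.mul (.mul (.lt 36) (.lt 35)) (.mul (.lt 33) (.lt 37)))))]),
  ((.mul (.mul (.mul (.lt 4) (.mul (.lt 7) (.lt 16))) (.mul (.lt 6) (.mul (.lt 19) (.lt 8)))) (.mul (.mul (.lt 6) (.mul (.lt 19) (.lt 16))) (.mul (.mul (.lt 12) (.lt 6)) (.mul (.lt 12) (.lt 5))))), [(.mul (.mul (.mul (.mul (.lt 31) (.mul (.lt 35) (.lt 36))) (.mul (.mul (.lt 31) (.lt 34)) (.mul (.lt 36) (.lt 37)))) (.sq (.mul (.lt 31) (.lt 36)))) (.mul (.mul (.lt 37) (.lt 32)) (.mul (.lt 33) (.lt 21))))])]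

theorem heM3 : allL eM3 (fun e => Nat.beq (LyM.D.evE m2As e.1) (Ct.evO LyM.D m2As e.2)) = true := by decide +kernel

end Cfsg.Agent.Spor.LyC
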