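import Cfsg.Agent.Spor.LyG
import Cfsg.Agent.Spor.Cent4
import Cfsg.Agent.Known.McLEq
import Cfsg.Agent.Spor.LyCC0
import Cfsg.Agent.Spor.LyCR0
import Cfsg.Agent.Spor.LyCL0

/-! Centralisers in the Lyons group (generated certificate, helper23). -/

set_option Elab.async false
set_option maxRecDepth 100000
set_option exponentiation.threshold 100000

namespace Cfsg.Agent.Spor.LyC

open Equiv

theorem m1c : ∀ i < 22, Nat.beq (LyM.D.evE LyM.As (getL m1E (.lt 0) i)) (getL m1As 0 i) = true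
  | 0, _ => m1c0
  | 1, _ => m1c1
  | 2, _ => m1c2
  | 3, _ => m1c3
  | 4, _ => m1c4
  | 5, _ => m1c5
  | 6, _ => m1c6
  | 7, _ => m1c7
  | 8, _ => m1c8
  | 9, _ => m1c9
  | 10, _ => m1c10
  | 11, _ => m1c11
  | 12, _ => m1c12
  | 13, _ => m1c13
  | 14, _ => m1c14
  | 15, _ => m1c15
  | 16, _ => m1c16
  | 17, _ => m1c17
  | 18, _ => m1c18
  | 19, _ => m1c19
  | 20, _ => m1c20
  | 21, _ => m1c21
  | n + 22, h => absurd h (by omega)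

theorem m2c : ∀ i < 38, Nat.beq (LyM.D.evE m1As (getL m2E (.lt 0) i)) (getL m2As 0 i) = true
  | 0, _ => m2c0
  | 1, _ => m2c1
  | 2, _ => m2c2
  | 3, _ => m2c3
  | 4, _ => m2c4
  | 5, _ => m2c5
  | 6, _ => m2c6
  | 7, _ => m2c7
  | 8, _ => m2c8
  | 9, _ => m2c9
  | 10, _ => m2c10
  | 11, _ => m2c11
  | 12, _ => m2c12
  | 13, _ => m2c13
  | 14, _ => m2c14
  | 15, _ => m2c15
  | 16, _ => m2c16
  | 17, _ => m2c17
  | 18, _ => m2c18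
  | 19, _ => m2c19
  | 20, _ => m2c20
  | 21, _ => m2c21
  | 22, _ => m2c22
  | 23, _ => m2c23
  | 24, _ => m2c24
  | 25, _ => m2c25
  | 26, _ => m2c26
  | 27, _ => m2c27
  | 28, _ => m2c28
  | 29, _ => m2c29
  | 30, _ => m2c30
  | 31, _ => m2c31
  | 32, _ => m2c32
  | 33, _ => m2c33
  | 34, _ => m2c34
  | 35, _ => m2c35
  | 36, _ => m2c36
  | 37, _ => m2c37
  | n + 38, h => absurd h (by omega)

def W1 : List (List ℕ) := [[0], [1], [2], [3], [4], [5], [6], [7], [8], [9], [10], [11], [12], [13], [14], [15], [16], [17], [18], [33], [0, 0, 0, 0], [0, 2, 1, 3]]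

def Rp : List (List ℕ) := LyA.renK ++ [[19]]

theorem rρ' : BRep LyM.D LyM.As 21 LyM.iv (Dce.gD LyG.ι LyA.y LyG.T 33) (33 + 1) Rp LyG.ρ :=
  LyG.rρ.ren2 (gD_ren LyG.h1 rfl) (by decide +kernel) (LyM.hi.rels LyM.hb (by decide +kernel) (by decide +kernel))

noncomputable abbrev Y : ℕ → Cfsg.Spor.Ly := renG (renG (Dce.gD LyG.ι LyA.y LyG.T 33) W1) (m2E.map Ex.w)

theorem m2 : MAct LyM.D LyG.ρ m2As m2E.length Y :=
  (Ct.mAct rρ' LyG.main.2.1 (ws := W1) (es := m1E) 7 m1ok (by decide +kernel) m1c).ren 7 m2ok (by decide +kernel) m2c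

def eME : List (List ℕ × List ℕ) := eM0.map (fun e => (e.1.w, Ct.ow e.2)) ++ eM1.map (fun e => (e.1.w, Ct.ow e.2)) ++ eM2.map (fun e => (e.1.w, Ct.ow e.2)) ++ eM3.map (fun e => (e.1.w, Ct.ow e.2))

theorem eM : Ct.Eqs Y eME :=
  ((((Ct.eqs_M m2 (by decide +kernel) heM0).append (Ct.eqs_M m2 (by decide +kernel) heM1)).append (Ct.eqs_M m2 (by decide +kernel) heM2)).append (Ct.eqs_M m2 (by decide +kernel) heM3))

def eK : List (List ℕ × List ℕ) := [([20, 20], []),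
  ([2, 2, 2, 2, 2], []),
  ([2, 20], [20, 2]),
  ([21, 21, 21], []),
  ([17, 17, 17, 17, 17], []),
  ([17, 21], [21, 17])]

def EE : List (List ℕ × List ℕ) := eK ++ eME

theorem eqs : Ct.Eqs Y EE := (Ct.eqs_K LyA.pa (by decide) (by decide +kernel)).append eM

theorem inj : Function.Injective LyG.ι := LyG.main.2.2.1

instance finG : Finite Cfsg.Spor.Ly := Nat.finite_of_card_ne_zero (by rw [LyG.main.2.2.2.2.1]; decide)

theorem rX : PermRep LyA.y JLyK.nets 3906 19 LyK.φ := Ct.permRep_ren LyK.rep _ _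

theorem topX : genW LyA.y (sing (List.range 19)) = ⊤ := (genW_sing _ _).trans rX.top

def s1 : List ℕ := [0, 2, 4, 9, 11, 13, 15, 17]

theorem e1 : genW LyA.y (sing s1) = LyK.H := by
  rw [LyA.y, genW_renG, show (sing s1).map (renW LyA.renK) = JLyK.subs by decide +kernel]

theorem st0 (k : LyK.G) (_ : k ∈ genW LyA.y (sing (List.range 19))) (h : LyK.φ k 0 = 0) : k ∈ genW LyA.y (sing s1) :=
  e1 ▸ (LyK.stab k).2 h

theorem st1 : Nat.card (genW LyA.y (sing [0, 2])) = 480 ∧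
    ∀ k ∈ genW LyA.y (sing s1), LyK.φ k 1 = 1 → k ∈ genW LyA.y (sing [0, 2]) :=
  Ct.stab_step rX (L := 12) (n := 3125) (e1 ▸ LyS.cardH) (by decide) lc0.cardGe (sing [0, 1]) [2, 4, 5, 6, 7, 0, 2, 6, 0, 1, 5, 4, 0, 6, 1, 0] (by decide +kernel)

theorem st2 : ∀ k ∈ genW LyA.y (sing [0, 2]), LyK.φ k 22 = 22 → k ∈ genW LyA.y [] :=
  (Ct.stab_step rX (L := 12) (n := 480) st1.1 (by decide) (cardGe_one _) [] [0, 1, 0, 1, 0, 1, 0, 1, 0, 1, 0, 1, 0, 1, 0, 1, 1] (by decide +kernel)).2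

open LyG in
theorem orbs : Dce.Orbs ι (fun i => ev (Dce.gD ι LyA.y T 33) (Dce.pw LyD.tab.at (getL LyD.nm 0 i)) • basePt ι.range)
    LyD.sz.length LyD.sz :=
  (cert.main' (n := 8835156) gen (by decide) ρ (invT ZMod.val _ _ ts) (fun k a k' => invT_mul _ _ (cE k) (cE k') a)
    (rρ.sep (mc := 7) (by decide +kernel) ts h1 rfl (fun i => Dce.pw LyD.tab.at (getL LyD.nm 0 i)) (vals := [[(true, 0), (false, 0), (false, 0)], [(false, 0), (false, 0), (false, 0)], [(false, 0), (false, 2), (false, 2)], [(false, 0), (false, 0), (false, 2)], [(false, 0), (false, 2), (false, 3)]])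
      (by decide +kernel) (by decide +kernel) (by decide))
    (by decide +kernel) rfl (faithful_of_stab LyK.rep LyK.inj LyK.trans (β := 0) fun c hc =>
      (LyA.pa.genL_le_stab LyK.stab (by decide) (xs := [19, 20, 21, 22, 23, 24, 25, 26]) (by decide +kernel) ((genW_sing _ _).le ((stabC c).2 hc)) |>
        (LyK.stab c).1)) (by decide) (by decide) LyK.card (by decide +kernel)).1

def f1 : List (List ℕ) := [[0, 6, 6], [2, 0, 2, 1, 3, 3]]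

theorem F1 (x : ℕ) : renG LyA.y f1 x ∈ Ct.Fd LyG.ι (ev (Dce.gD LyG.ι LyA.y LyG.T 33) (Dce.pw LyD.tab.at (getL LyD.nm 0 1))) :=
  Ct.genW_le_of_keys LyA.pa (by decide) (Ct.gens_Fd LyG.hyp LyD.steps (gens := [5, 6, 7, 8]) (fs := [[19, 19, 26, 20], [21, 23, 22, 23, 22, 23, 22, 24], [19, 19, 22, 23, 23, 19, 19, 23, 23, 19, 26, 23, 23], [22, 23, 20, 24, 19, 23, 19, 26, 23, 19, 23]]) (by decide +kernel)) [[0], [3, 0, 0, 1, 1]]
    (by decide +kernel) (renG_mem _ _ x)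

def f2 : List (List ℕ) := [[0, 0, 0], [3, 0, 3, 13, 4, 8, 6, 3]]

theorem F2 (x : ℕ) : renG LyA.y f2 x ∈ Ct.Fd LyG.ι (ev (Dce.gD LyG.ι LyA.y LyG.T 33) (Dce.pw LyD.tab.at (getL LyD.nm 0 2))) :=
  Ct.genW_le_of_keys LyA.pa (by decide) (Ct.gens_Fd LyG.hyp LyD.steps (gens := [12, 13, 16]) (fs := [[20, 22, 26, 20], [20, 26, 20], [16, 8, 21, 13, 6, 19, 21, 23, 20, 24, 19, 21, 24, 20, 23]]) (by decide +kernel)) [[0], [2]]
    (by decide +kernel) (renG_mem _ _ x)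

def f3 : List (List ℕ) := [[0, 2, 0, 3], [4, 8, 6, 14, 5, 7, 16, 4, 12, 2]]

theorem F3 (x : ℕ) : renG LyA.y f3 x ∈ Ct.Fd LyG.ι (ev (Dce.gD LyG.ι LyA.y LyG.T 33) (Dce.pw LyD.tab.at (getL LyD.nm 0 3))) :=
  Ct.genW_le_of_keys LyA.pa (by decide) (Ct.gens_Fd LyG.hyp LyD.steps (gens := [20, 21, 29, 32]) (fs := [[20, 21, 26], [20, 22, 26, 20], [6, 3, 26, 20], [5, 23, 26, 12, 6, 2, 19, 19, 23, 23, 22, 23, 20, 25, 19, 24]]) (by decide +kernel)) [[0], [3]]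
    (by decide +kernel) (renG_mem _ _ x)

def f4 : List (List ℕ) := [[0, 3, 0, 2, 0, 2, 2, 16, 0], [3, 1, 11, 8, 11, 6, 3, 11, 6, 0, 0]]

theorem F4 (x : ℕ) : renG LyA.y f4 x ∈ Ct.Fd LyG.ι (ev (Dce.gD LyG.ι LyA.y LyG.T 33) (Dce.pw LyD.tab.at (getL LyD.nm 0 4))) :=
  Ct.genW_le_of_keys LyA.pa (by decide) (Ct.gens_Fd LyG.hyp LyD.steps (gens := [44, 45, 48, 53]) (fs := [[20, 21, 24, 19, 23, 22, 23, 26, 24, 26], [20, 21, 21, 23, 19, 19, 23, 20, 23], [18, 7, 23, 12, 6, 20, 21, 21, 23, 19, 24, 19, 19, 23, 23, 26, 23, 19, 23], [24, 2, 1, 8, 19, 24, 19, 23, 20, 25, 19, 25, 24]]) (by decide +kernel)) [[0], [2, 3]]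
    (by decide +kernel) (renG_mem _ _ x)

def tw2 : List ℕ := [0, 0, 0, 0]

def cs2 : List (List ℕ) := [[0], [2], [6], [17]]

theorem zeq2 : Y 20 = LyG.ι (ev LyA.y tw2) := Ct.let_K _ (by decide +kernel)

noncomputable abbrev M2 : Subgroup Cfsg.Spor.Ly := genL Y [20, 22, 23, 24, 25, 26, 27, 28, 29, 30]

theorem hM2 : M2 ≤ Subgroup.centralizer {LyG.ι (ev LyA.y tw2)} := zeq2 ▸ eqs.comm (by decide +kernel)

theorem hS2 : ∀ c ∈ genW LyA.y cs2, c * ev LyA.y tw2 = ev LyA.y tw2 * c :=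
  Ct.comm_of_keys LyA.pa (by decide) (by decide +kernel)

theorem z2 : Y 20 ≠ 1 := Ct.let_ne LyA.pa (by decide) inj (by decide +kernel)

theorem ord2 : orderOf (Y 20) = 2 :=
  have := Fact.mk (by decide : Nat.Prime 2)
  orderOf_eq_prime (eqs.pow 20 2 (by decide +kernel)) z2

theorem p2 : ev LyA.y tw2 ^ 2 = 1 := inj (by rw [map_pow, ← zeq2, map_one]; exact eqs.pow 20 2 (by decide +kernel))

theorem n2 : ev LyA.y tw2 ≠ 1 := fun e => z2 (by rw [zeq2, e, map_one])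

theorem k2 : ∀ k ∈ (⊤ : Subgroup LyK.G), k * ev LyA.y tw2 = ev LyA.y tw2 * k → k ∈ genW LyA.y cs2 :=
  topX ▸ Ct.cent_step rX hS2 (A := ivl 0 3906) st0
    (Ct.cent_step rX hS2 (fs := [[17]]) (A := LyS.A2) st1.2 (fun _ h _ => genW_mono _ (by decide) h)
      (genW_mono _ (by decide)) (genW_mono _ (by decide)) (Ct.hZ_mv rX (L := 12) (by decide) (by decide +kernel))
      (reps := []) (prog := [0, 0, 0, 0]) (by decide +kernel) fun _ h => nomatch h)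
    le_rfl (le_top.trans topX.ge) (Ct.hZ_mv rX (L := 12) (by decide) (by decide +kernel)) (reps := [(2, [8])])
    (prog := [2, 0, 3, 0, 1, 0, 1, 0, 1, 0]) (by decide +kernel) (List.forall_mem_singleton.2 ⟨topX.ge trivial,
      Ct.nc_keys LyA.pa (by decide) (Ct.nc_of_mv rX (L := 12) (rw := [8, 0, 0, 0, 0, 8]) (A := LyS.A2) (by decide)
        (by decide +kernel) (by decide +kernel)) (by decide +kernel)⟩)

theorem h2 : ∀ c, c * ev LyA.y tw2 = ev LyA.y tw2 * c → LyG.ι c ∈ M2 := eqs.h0 k2 cs2 (by decide +kernel)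

theorem G2_1 : ∀ r, Ct.Good LyG.ι (ev (Dce.gD LyG.ι LyA.y LyG.T 33) (Dce.pw LyD.tab.at (getL LyD.nm 0 1))) (ev LyA.y tw2) M2 r :=
  Ct.good_of_S (LyA.pa.ren f1) (by decide) (by decide : Nat.Prime 2) (c := 9375) p2 n2 F1 (hs := [[0], [1, 0, 1]]) (reps := [[1, 0, 1, 0], [0, 0, 0, 0]])
    (E := [([], [0, 1, 22]),
  ([0], [0, 1, 1511]),
  ([1], [0, 1, 3570]),
  ([0, 0], [0, 1, 208]),
  ([0, 1], [0, 1, 1517]),
  ([1, 0], [0, 1, 1390]),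
  ([1, 1], [0, 1, 3314]),
  ([0, 0, 0], [0, 1, 186]),
  ([0, 0, 1], [0, 1, 2718]),
  ([0, 1, 0], [0, 1, 1123]),
  ([0, 1, 1], [0, 1, 1228]),
  ([1, 0, 1], [0, 1, 195]),
  ([1, 1, 0], [0, 1, 1217]),
  ([0, 0, 0, 0], [0, 1, 207]),
  ([0, 0, 0, 1], [0, 1, 1313]),
  ([0, 0, 1, 0], [0, 1, 1184]),
  ([0, 0, 1, 1], [0, 1, 2615]),
  ([0, 1, 1, 0], [0, 1, 2642]),
  ([1, 0, 1, 1], [0, 1, 1310]),
  ([1, 1, 0, 1], [0, 1, 504]),
  ([0, 0, 0, 0, 0], [0, 1, 198]),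
  ([0, 0, 0, 0, 1], [0, 1, 2717]),
  ([0, 0, 0, 1, 0], [0, 1, 196]),
  ([0, 0, 0, 1, 1], [0, 1, 1644]),
  ([0, 0, 1, 1, 0], [0, 1, 1645]),
  ([0, 1, 1, 0, 1], [0, 1, 188]),
  ([0, 0, 0, 0, 0, 0], [0, 1, 1473]),
  ([0, 0, 0, 0, 0, 1], [0, 1, 1487]),
  ([0, 0, 0, 0, 1, 0], [0, 1, 1121]),
  ([0, 0, 0, 0, 1, 1], [0, 1, 2613]),
  ([0, 0, 0, 0, 0, 0, 1], [0, 1, 3593]),
  ([0, 0, 0, 0, 0, 1, 0], [0, 1, 2253])])
    (Ct.card_Fd orbs (by decide) LyK.card (by decide +kernel)) (by decide) (cs := [(0, []), (99, []), (99, []), (99, []), (0, [0]), (0, []), (0, [0, 1, 0]), (99, []), (99, []), (99, []), (99, []), (99, []), (99, []), (1, []), (99, []), (99, []), (99, []), (99, []), (99, []), (99, []), (99, []), (99, []), (99, []), (99, []), (99, []), (99, []), (99, []), (0, [0, 1, 0, 1, 0]), (0, [0, 1, 0, 1]), (0, [0, 1]), (99, []), (99, [])]) (by decide +kernel)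
    (List.forall_mem_cons.2 ⟨Ct.good_keys LyA.pa (by decide) (u := [8, 14, 16, 16, 14]) (eqs.g4 inj rfl h2 hM2 [13, 15, 15, 13, 8] [13, 15, 15, 13, 8, 19, 8, 14, 16, 16, 14] (by decide +kernel)) (by decide +kernel),
      List.forall_mem_cons.2 ⟨Ct.good_keys LyA.pa (by decide) (u := []) (eqs.g4 inj rfl h2 hM2 [] [19] (by decide +kernel)) (by decide +kernel),
      fun _ h => nomatch h⟩⟩)

theorem G2_2 : ∀ r, Ct.Good LyG.ι (ev (Dce.gD LyG.ι LyA.y LyG.T 33) (Dce.pw LyD.tab.at (getL LyD.nm 0 2))) (ev LyA.y tw2) M2 r :=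
  Ct.good_of_S (LyA.pa.ren f2) (by decide) (by decide : Nat.Prime 2) (c := 189) p2 n2 F2 (hs := [[1, 1, 1], [1, 0, 0, 1, 0]]) (reps := [[0, 0, 0, 0]])
    (E := [([], [0, 1, 22]),
  ([0], [2288, 1554, 2470]),
  ([1], [63, 3071, 2217]),
  ([0, 0], [3629, 801, 1125]),
  ([0, 1], [3629, 801, 2826]),
  ([1, 0], [1200, 19, 1766]),
  ([1, 1], [1187, 32, 3778]),
  ([0, 0, 0], [1247, 100, 1719]),
  ([0, 0, 1], [2544, 2651, 1291]),
  ([0, 1, 0], [1247, 100, 3509]),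
  ([0, 1, 1], [2544, 2651, 2513]),
  ([1, 0, 0], [659, 246, 2815]),
  ([1, 0, 1], [478, 2179, 3004]),
  ([0, 0, 0, 1], [15, 136, 3418]),
  ([0, 0, 1, 0], [2049, 1490, 755]),
  ([0, 0, 1, 1], [2049, 1490, 2160]),
  ([0, 1, 0, 0], [0, 1, 1390]),
  ([0, 1, 0, 1], [15, 136, 3530]),
  ([1, 0, 0, 0], [2393, 1979, 2771]),
  ([1, 0, 0, 1], [2393, 1979, 2477]),
  ([0, 0, 0, 1, 0], [1199, 18, 1539]),
  ([0, 0, 0, 1, 1], [743, 2239, 3129]),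
  ([0, 0, 1, 0, 0], [743, 2239, 1332]),
  ([0, 0, 1, 0, 1], [1199, 18, 407]),
  ([0, 1, 0, 0, 0], [2288, 1554, 2665]),
  ([0, 1, 0, 0, 1], [63, 3071, 1170]),
  ([0, 0, 0, 1, 0, 0], [2184, 1874, 1508]),
  ([0, 0, 0, 1, 0, 1], [2184, 1874, 2787]),
  ([0, 0, 1, 0, 0, 0], [1187, 32, 2348]),
  ([0, 0, 1, 0, 0, 1], [1200, 19, 1847]),
  ([0, 0, 0, 1, 0, 0, 0], [478, 2179, 917]),
  ([0, 0, 0, 1, 0, 0, 1], [659, 246, 2353])])
    (Ct.card_Fd orbs (by decide) LyK.card (by decide +kernel)) (by decide) (cs := [(0, []), (99, []), (99, []), (0, [1, 1, 0, 1, 0]), (99, []), (99, []), (99, []), (99, []), (99, []), (99, []), (99, []), (99, []), (99, []), (0, [1, 1, 1, 1, 0, 0, 0]), (0, [1, 0, 1, 1, 0]), (99, []), (0, [1, 0, 1, 1, 0, 1, 1, 1]), (0, [1, 0, 1, 1, 0, 1, 0, 1]), (0, [1, 0, 1, 0, 1, 1, 0]), (99, []), (99, []), (99, []), (99, []), (99, []), (99, []), (99,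 []), (99, []), (0, [1, 0, 1, 0, 1, 1]), (99, []), (99, []), (99, []), (99, [])]) (by decide +kernel)
    (List.forall_mem_cons.2 ⟨Ct.good_keys LyA.pa (by decide) (u := []) (eqs.g4 inj rfl h2 hM2 [] [19, 6, 19] (by decide +kernel)) (by decide +kernel),
      fun _ h => nomatch h⟩)

theorem G2_3 : ∀ r, Ct.Good LyG.ι (ev (Dce.gD LyG.ι LyA.y LyG.T 33) (Dce.pw LyD.tab.at (getL LyD.nm 0 3))) (ev LyA.y tw2) M2 r :=
  Ct.good_of_S (LyA.pa.ren f3) (by decide) (by decide : Nat.Prime 2) (c := 63) p2 n2 F3 (hs := [[1, 1], [1], [0, 1, 1, 0, 1, 1, 1, 1, 0]]) (reps := [[0, 0, 0, 0, 0, 0], [1, 0, 1, 1, 0]])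
    (E := [([], [0, 1, 22]),
  ([0], [2049, 382, 280]),
  ([1], [746, 1271, 1296]),
  ([2], [3368, 3370, 669]),
  ([0, 0], [3657, 3110, 1143]),
  ([0, 1], [1774, 2309, 2934]),
  ([0, 2], [2309, 1774, 3311]),
  ([1, 2], [3110, 3657, 2074]),
  ([2, 0], [2069, 3737, 3020]),
  ([2, 1], [1881, 3244, 412]),
  ([0, 0, 0], [3244, 1881, 1869]),
  ([0, 0, 1], [3370, 3368, 3900]),
  ([0, 0, 2], [1271, 746, 488]),
  ([0, 1, 2], [382, 2049, 933]),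
  ([2, 0, 1], [1, 0, 1276]),
  ([2, 1, 2], [3737, 2069, 1023])])
    (Ct.card_Fd orbs (by decide) LyK.card (by decide +kernel)) (by decide) (cs := [(0, []), (99, []), (99, []), (0, [1, 0, 0, 1, 1]), (0, [1, 1, 1, 1, 0, 0]), (99, []), (0, [1, 0, 0, 1]), (1, [0, 0, 1, 1, 1]), (0, [1, 0]), (1, [0, 0]), (99, []), (99, []), (0, [1, 0, 0]), (1, [0, 0, 1, 1]), (1, [0, 0, 1]), (99, [])]) (by decide +kernel)
    (List.forall_mem_cons.2 ⟨Ct.good_keys LyA.pa (by decide) (u := []) (eqs.g4 inj rfl h2 hM2 [] [19, 6, 2, 19] (by decide +kernel)) (by decide +kernel),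
      List.forall_mem_cons.2 ⟨Ct.good_keys LyA.pa (by decide) (u := [15, 6, 14, 5, 5]) (eqs.g4 inj rfl h2 hM2 [4, 11, 7, 12, 16] [4, 11, 7, 12, 16, 19, 6, 2, 19, 15, 6, 14, 5, 5] (by decide +kernel)) (by decide +kernel),
      fun _ h => nomatch h⟩⟩)

theorem G2_4 : ∀ r, Ct.Good LyG.ι (ev (Dce.gD LyG.ι LyA.y LyG.T 33) (Dce.pw LyD.tab.at (getL LyD.nm 0 4))) (ev LyA.y tw2) M2 r :=
  Ct.good_of_S (LyA.pa.ren f4) (by decide) (by decide : Nat.Prime 2) (c := 45) p2 n2 F4 (hs := [[1, 0, 1], [0, 0], [0, 1, 0, 1, 0, 1, 0, 1, 0]]) (reps := [[0, 1, 1, 1, 0, 1, 0, 1, 1], [0, 0], [0, 0, 0, 1, 0, 0, 0, 1, 0, 0, 0, 1, 0, 0, 0, 1]])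
    (E := [([], [0, 1, 22]),
  ([0], [983, 16, 22]),
  ([1], [0, 674, 1033]),
  ([2], [1225, 1485, 3169]),
  ([0, 1], [107, 154, 1033]),
  ([0, 2], [136, 3592, 3169]),
  ([1, 0], [983, 1223, 1430]),
  ([1, 2], [1225, 769, 417]),
  ([2, 0], [136, 1226, 1744]),
  ([2, 1], [3570, 1485, 396]),
  ([2, 2], [0, 1264, 2715]),
  ([0, 1, 0], [1198, 1351, 1430]),
  ([0, 1, 2], [673, 1222, 417]),
  ([0, 2, 0], [1225, 1467, 1744]),
  ([0, 2, 1], [136, 2609, 396]),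
  ([0, 2, 2], [983, 2, 2715]),
  ([1, 0, 1], [107, 1223, 3386]),
  ([1, 0, 2], [136, 3604, 2099]),
  ([1, 2, 0], [136, 3594, 2859]),
  ([1, 2, 1], [3570, 19, 3382]),
  ([1, 2, 2], [0, 682, 2528]),
  ([2, 0, 1], [136, 1220, 2775]),
  ([2, 0, 2], [983, 154, 86]),
  ([2, 1, 0], [673, 1226, 1412]),
  ([2, 1, 2], [1198, 1264, 2840]),
  ([2, 2, 0], [983, 156, 53]),
  ([0, 1, 0, 1], [1198, 4, 3386]),
  ([0, 1, 0, 2], [3570, 939, 2099]),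
  ([0, 1, 2, 0], [3570, 3440, 2859]),
  ([0, 1, 2, 1], [673, 3604, 3382]),
  ([0, 1, 2, 2], [107, 156, 2528]),
  ([0, 2, 0, 1], [3570, 1467, 2775]),
  ([0, 2, 0, 2], [0, 1351, 86]),
  ([0, 2, 1, 0], [1225, 121, 1412]),
  ([0, 2, 1, 2], [983, 1835, 2840]),
  ([0, 2, 2, 0], [0, 1081, 53]),
  ([1, 0, 1, 0], [1198, 674, 1422]),
  ([1, 0, 2, 0], [1225, 58, 2830]),
  ([1, 0, 2, 1], [136, 1222, 969]),
  ([1, 0, 2, 2], [983, 3599, 2087]),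
  ([1, 2, 0, 1], [136, 1202, 2110]),
  ([1, 2, 0, 2], [983, 1221, 3774]),
  ([1, 2, 1, 0], [673, 1220, 2470]),
  ([1, 2, 1, 2], [1198, 157, 2787]),
  ([2, 0, 1, 0], [1225, 19, 3426]),
  ([2, 0, 2, 1], [107, 16, 558]),
  ([2, 1, 2, 1], [1198, 682, 2958]),
  ([2, 2, 0, 1], [107, 2, 1162]),
  ([0, 1, 0, 1, 0], [107, 1221, 1422]),
  ([0, 1, 0, 2, 0], [673, 1202, 2830]),
  ([0, 1, 0, 2, 1], [1225, 939, 969]),
  ([0, 1, 0, 2, 2], [1198, 1081, 2087]),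
  ([0, 1, 2, 0, 1], [1225, 3440, 2110]),
  ([0, 1, 2, 0, 2], [1198, 1, 3774]),
  ([0, 1, 2, 1, 0], [3570, 58, 2470]),
  ([0, 1, 2, 1, 2], [107, 3599, 2787]),
  ([0, 2, 0, 1, 0], [673, 3592, 3426]),
  ([0, 2, 0, 2, 1], [0, 4, 558]),
  ([0, 2, 1, 2, 1], [107, 1835, 2958]),
  ([0, 2, 2, 0, 1], [0, 157, 1162]),
  ([1, 0, 1, 0, 2], [3570, 769, 2897]),
  ([1, 0, 2, 0, 1], [3570, 121, 1440]),
  ([0, 1, 0, 1, 0, 2], [673, 2609, 2897]),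
  ([0, 1, 0, 2, 0, 1], [673, 3594, 1440])])
    (Ct.card_Fd orbs (by decide) LyK.card (by decide +kernel)) (by decide) (cs := [(0, []), (0, [0, 1, 1]), (1, []), (99, []), (99, []), (99, []), (99, []), (99, []), (99, []), (99, []), (99, []), (1, [1, 0, 1]), (1, [1, 0, 0, 0, 1, 1, 0]), (99, []), (1, [1, 1, 1, 1, 1]), (0, [1, 0, 1, 1, 1, 0]), (0, [0, 1, 1, 0, 0]), (1, [1, 1, 1, 1, 1, 0, 0]), (1, [1, 1, 1, 1, 1, 0]), (99, []), (99, []), (1, [1, 1, 1, 1, 1, 0, 0, 0]), (0, [1, 1, 1, 1, 1, 1, 1, 0]), (1, [1, 0, 0, 1, 1, 1]), (99, []), (0, [0, 1, 1, 0, 0, 0, 1, 1, 1]), (99, []), (99, []), (99, []), (1, [1, 0, 0, 0, 1, 1]), (99, []), (99, []), (2, []), (99, []), (99, []), (99, []), (99, []), (99, []), (99, []), (99, []), (99, []), (99, []), (1, [1, 0, 0, 1, 1, 1, 0]), (1, [1, 0, 1, 0]), (99, []), (99, []), (1, [1, 0, 1, 0, 0, 0]), (99, []), (0, [1, 0, 0, 0,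 1, 1, 1]), (1, [1, 1, 0, 0, 0, 1, 0]), (99, []), (99, []), (99, []), (1, [1, 0, 1, 0, 0]), (99, []), (0, [0, 1, 0, 1, 1]), (1, [1, 1, 1, 0, 0, 1, 0]), (1, [1, 0, 1, 0, 0, 1, 0, 1]), (0, [0, 1, 1, 1, 1, 1, 0]), (99, []), (99, []), (99, []), (1, [1, 1, 1, 0, 0, 1]), (1, [1, 1, 0, 0, 0, 1])]) (by decide +kernel)
    (List.forall_mem_cons.2 ⟨Ct.good_keys LyA.pa (by decide) (u := [6, 11, 6, 16, 4]) (eqs.g4 inj rfl h2 hM2 [5, 11, 13, 0, 7, 15, 14] [5, 11, 13, 0, 7, 15, 14, 19, 8, 6, 19, 6, 11, 6, 16, 4] (by decide +kernel)) (by decide +kernel),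
      List.forall_mem_cons.2 ⟨Ct.good_keys LyA.pa (by decide) (u := [4, 3, 11]) (eqs.g4 inj rfl h2 hM2 [13, 1, 7, 8, 11, 18] [13, 1, 7, 8, 11, 18, 19, 8, 6, 19, 4, 3, 11] (by decide +kernel)) (by decide +kernel),
      List.forall_mem_cons.2 ⟨Ct.good_keys LyA.pa (by decide) (u := [11, 8, 13, 13, 5]) (eqs.g4 inj rfl h2 hM2 [5, 15, 7, 8, 5, 1] [5, 15, 7, 8, 5, 1, 19, 8, 6, 19, 11, 8, 13, 13, 5] (by decide +kernel)) (by decide +kernel),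
      fun _ h => nomatch h⟩⟩⟩)

theorem cent2 : Subgroup.centralizer {Y 20} = M2 := by
  rw [zeq2]
  refine le_antisymm (Ct.cent_le orbs fun i (hi : i < 5) => ?_) hM2
  interval_cases i
  exacts [by rw [show getL LyD.nm 0 0 = 0 from rfl, Dce.pw_zero]; exact Ct.good_one inj h2, G2_1, G2_2, G2_3, G2_4]

theorem struct2 : Cfsg.IsNonsplitDoubleCover (Subgroup.centralizer ({Y 20} : Set Cfsg.Spor.Ly))
    (alternatingGroup (Fin 11)) := by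
  have e := eqs.sub cent2.ge
  have t1 := Ct.subG_top cent2
  exact Ct.nonsplit' (ord2 ▸ Ct.cent_quot (alternatingGroup.center_eq_bot (by simp)) (eqs.comm (xs := [2]) (by decide +kernel))
    (Ct.let_ne LyA.pa (by decide) inj (by decide +kernel)) (eqs.pow 2 5 (by decide +kernel)) (by rw [ord2]; decide)
    fun h => e.quot_alt _ (qs := [20]) (xs := [22, 23, 24, 25, 26, 27, 28, 29, 30]) (by decide) le_rfl t1 (by decide +kernel) h)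
    (e.index_ne_two t1 (by decide +kernel))

def tw3 : List ℕ := [0, 2, 1, 3]

def cs3 : List (List ℕ) := [[0, 2, 0, 2, 2, 0, 2, 2], [17], [4, 13], [6]]

theorem zeq3 : Y 21 = LyG.ι (ev LyA.y tw3) := Ct.let_K _ (by decide +kernel)

noncomputable abbrev M3 : Subgroup Cfsg.Spor.Ly := genL Y [21, 31, 32, 33, 34, 35, 36, 37]

theorem hM3 : M3 ≤ Subgroup.centralizer {LyG.ι (ev LyA.y tw3)} := zeq3 ▸ eqs.comm (by decide +kernel)

theorem hS3 : ∀ c ∈ genW LyA.y cs3, c * ev LyA.y tw3 = ev LyA.y tw3 * c :=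
  Ct.comm_of_keys LyA.pa (by decide) (by decide +kernel)

theorem z3 : Y 21 ≠ 1 := Ct.let_ne LyA.pa (by decide) inj (by decide +kernel)

theorem ord3 : orderOf (Y 21) = 3 :=
  have := Fact.mk (by decide : Nat.Prime 3)
  orderOf_eq_prime (eqs.pow 21 3 (by decide +kernel)) z3

theorem p3 : ev LyA.y tw3 ^ 3 = 1 := inj (by rw [map_pow, ← zeq3, map_one]; exact eqs.pow 21 3 (by decide +kernel))

theorem n3 : ev LyA.y tw3 ≠ 1 := fun e => z3 (by rw [zeq3, e, map_one])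

theorem k3 : ∀ k ∈ (⊤ : Subgroup LyK.G), k * ev LyA.y tw3 = ev LyA.y tw3 * k → k ∈ genW LyA.y cs3 :=
  topX ▸ Ct.cent_step rX hS3 (A := ivl 0 3906) st0
    (Ct.cent_step rX hS3 (fs := [[0, 2, 0, 2, 2, 0, 2, 2], [17], [4, 13]]) (A := LyS.A2) st1.2
      (Ct.cent_step rX hS3 (fs := [[0, 2, 0, 2, 2, 0, 2, 2]]) (A := orbRun JLyK.nets (sing [0, 2]) [0, 1, 0, 1, 0, 1, 0, 1, 0, 1, 0, 1, 0, 1, 0, 1, 1] (Nat.shiftLeft 1 22)) st2
        (fun _ h _ => genW_mono _ (by decide) h) (genW_mono _ (by decide)) (Ct.genW_le_sing (by decide)) Ct.hZ_zero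
        (reps := [(186, [0]), (200, [2]), (1029, [2, 0]), (543, [2, 2]), (450, [2, 2, 0]), (1844, [2, 0, 2]), (1530, [2, 2, 2]), (1039, [2, 0, 2, 0]), (334, [2, 2, 0, 2]), (1921, [2, 0, 2, 2]), (199, [2, 2, 2, 2]), (3623, [2, 0, 2, 0, 2]), (3521, [2, 2, 0, 2, 2]), (3602, [2, 0, 2, 2, 2]), (2068, [2, 2, 0, 2, 2, 0]), (259, [2, 0, 2, 0, 2, 2]), (1217, [2, 2, 0, 2, 2, 2]), (3600, [2, 0, 2, 0, 2, 2, 0]), (3314, [2, 2, 0, 2, 2, 2, 0])]) (prog := [0, 0, 0, 0, 0, 0, 0, 0, 0, 0, 0, 0, 0, 0, 0, 0, 0, 0, 0, 0, 0, 0, 0]) (by decide +kernel)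
        (Ct.hr_comm LyA.pa (by decide) (Ct.comm_of_keys LyA.pa (by decide) rfl) (by decide +kernel)))
      (genW_mono _ (by decide)) (Ct.genW_le_sing (by decide)) (Ct.hZ_mv rX (L := 12) (by decide) (by decide +kernel))
      (reps := []) (prog := [1, 2, 1, 1, 2, 1, 2, 0, 2, 2, 2, 2, 0, 2]) (by decide +kernel) fun _ h => nomatch h)
    le_rfl (le_top.trans topX.ge) (Ct.hZ_mv rX (L := 12) (by decide) (by decide +kernel)) (reps := [])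
    (prog := [3, 1, 2, 1, 3, 1, 2, 3, 1, 3, 1, 3, 1]) (by decide +kernel) fun _ h => nomatch h

theorem h3 : ∀ c, c * ev LyA.y tw3 = ev LyA.y tw3 * c → LyG.ι c ∈ M3 := eqs.h0 k3 cs3 (by decide +kernel)

theorem G3_1 : ∀ r, Ct.Good LyG.ι (ev (Dce.gD LyG.ι LyA.y LyG.T 33) (Dce.pw LyD.tab.at (getL LyD.nm 0 1))) (ev LyA.y tw3) M3 r :=
  Ct.good_of_S (LyA.pa.ren f1) (by decide) (by decide : Nat.Prime 3) (c := 100000) p3 n3 F1 (hs := [[1]]) (reps := [[0, 0, 1, 0, 1, 1, 0]])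
    (E := [([], [0, 1, 22]),
  ([0], [0, 1, 1290]),
  ([0, 0], [0, 1, 1516])])
    (Ct.card_Fd orbs (by decide) LyK.card (by decide +kernel)) (by decide) (cs := [(0, []), (0, [1, 1, 0]), (0, [0, 1, 1, 0])]) (by decide +kernel)
    (List.forall_mem_cons.2 ⟨Ct.good_keys LyA.pa (by decide) (u := []) (eqs.g4 inj rfl h3 hM3 [] [19] (by decide +kernel)) (by decide +kernel),
      fun _ h => nomatch h⟩)

theorem G3_2 : ∀ r, Ct.Good LyG.ι (ev (Dce.gD LyG.ι LyA.y LyG.T 33) (Dce.pw LyD.tab.at (getL LyD.nm 0 2))) (ev LyA.y tw3) M3 r :=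
  Ct.good_of_S (LyA.pa.ren f2) (by decide) (by decide : Nat.Prime 3) (c := 224) p3 n3 F2 (hs := [[0, 0, 1, 1], [0, 1, 0, 1, 1, 1]]) (reps := [[1, 0, 1], [0, 1, 1, 1, 0, 0, 1, 1, 1, 0]])
    (E := [([], [0, 1, 22]),
  ([0], [21, 790, 3173]),
  ([1], [3344, 930, 694]),
  ([0, 0], [559, 2193, 324]),
  ([0, 1], [3632, 908, 819]),
  ([1, 0], [477, 1171, 2996]),
  ([1, 1], [2919, 2434, 947]),
  ([0, 0, 1], [56, 641, 1333]),
  ([0, 1, 0], [2393, 1979, 2240]),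
  ([0, 1, 1], [2544, 2651, 3484]),
  ([1, 0, 0], [20, 899, 55]),
  ([1, 0, 1], [2288, 1554, 2297]),
  ([1, 1, 0], [141, 4, 3458]),
  ([0, 0, 1, 0], [1175, 2, 2422]),
  ([0, 0, 1, 1], [2549, 135, 1794]),
  ([0, 1, 0, 0], [859, 943, 275]),
  ([0, 1, 0, 1], [2049, 1490, 3204]),
  ([0, 1, 1, 0], [3230, 2099, 3891]),
  ([1, 0, 1, 1], [1354, 1964, 1853]),
  ([1, 1, 0, 1], [565, 2086, 2088]),
  ([0, 0, 1, 0, 0], [3559, 2233, 1848]),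
  ([0, 0, 1, 0, 1], [766, 376, 1569]),
  ([0, 0, 1, 1, 0], [15, 136, 3500]),
  ([0, 1, 0, 1, 1], [142, 3, 3553]),
  ([0, 1, 1, 0, 1], [3812, 2426, 586]),
  ([0, 0, 1, 0, 1, 1], [62, 3301, 614]),
  ([0, 0, 1, 1, 0, 1], [162, 3067, 1257])])
    (Ct.card_Fd orbs (by decide) LyK.card (by decide +kernel)) (by decide) (cs := [(0, []), (0, [0, 0]), (0, [0, 0, 1, 0, 1, 0, 0, 1, 0]), (0, [1, 0, 0, 1, 1, 1, 0, 1, 0]), (0, [0, 0, 0, 0, 0, 1, 0, 1, 1, 1, 1]), (0, [1, 1, 1, 1, 0]), (0, [0, 0, 1, 1, 0, 1, 0, 0, 1, 1]), (0, [1, 0, 0, 1, 0, 1, 0, 0]), (0, [1, 1, 1, 0, 1, 0]), (0, [1, 1, 1, 0, 0, 1, 0, 1, 1, 0, 1]), (0, [1, 0, 0, 0, 0]), (0, [0, 0, 0, 0, 0, 0, 0, 1, 0, 0]), (0, [0, 0, 1, 0, 1, 0, 1, 0]), (0, [0, 0, 1, 1, 1, 0, 1, 0, 0, 1]), (0, [1, 1, 1, 0, 0, 0, 0, 1, 0]), (0, [0, 1, 0, 0, 1, 1, 1, 1]), (0, [0, 0, 1, 1, 1, 0, 0, 1]), (0, [0, 0, 1, 0, 1, 1, 0]), (0,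 [0, 1, 0, 1, 1, 0, 0, 0, 0, 0]), (0, [0, 0, 0, 1, 0, 1, 1, 1]), (0, [1, 1, 1, 1, 0, 0, 0, 1, 1]), (0, [0, 0, 1, 1, 0, 1]), (0, [1, 1, 1, 0, 0, 1, 0]), (0, [1, 1, 1, 1, 0, 1, 1, 0, 1]), (0, [1, 0, 0, 1, 0, 0, 0, 0]), (1, [1, 0, 0, 0, 0, 0]), (1, [1, 0, 1, 1, 1, 0])]) (by decide +kernel)
    (List.forall_mem_cons.2 ⟨Ct.good_nc_keys LyA.pa (by decide) (Ct.nc_top rX (L := 12) (rw := [3, 0, 3, 13, 4, 8, 6, 3, 0, 0, 0, 3, 0, 3, 13, 4, 8, 6, 3]) (by decide) (by decide +kernel) (by decide +kernel)) (by decide +kernel),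
      List.forall_mem_cons.2 ⟨Ct.good_keys LyA.pa (by decide) (u := [3, 3, 0, 2]) (eqs.g4 inj rfl h3 hM3 [3, 1, 2, 2] [3, 1, 2, 2, 19, 6, 19, 3, 3, 0, 2] (by decide +kernel)) (by decide +kernel),
      fun _ h => nomatch h⟩⟩)

theorem G3_3 : ∀ r, Ct.Good LyG.ι (ev (Dce.gD LyG.ι LyA.y LyG.T 33) (Dce.pw LyD.tab.at (getL LyD.nm 0 3))) (ev LyA.y tw3) M3 r :=
  Ct.good_of_S (LyA.pa.ren f3) (by decide) (by decide : Nat.Prime 3) (c := 112) p3 n3 F3 (hs := [[1, 1, 0, 0, 1, 1], [0, 0, 0, 0]]) (reps := [[1, 1, 0, 0, 1, 1], [0, 0, 0, 0], [1, 0, 1, 0]])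
    (E := [([], [0, 1, 22]),
  ([0], [2055, 1328, 1290]),
  ([1], [0, 1, 1206]),
  ([0, 0], [1477, 3347, 2884]),
  ([0, 1], [2055, 1328, 1310]),
  ([1, 1], [0, 1, 1159]),
  ([0, 0, 1], [1477, 3347, 716]),
  ([0, 1, 1], [2055, 1328, 3895]),
  ([0, 0, 1, 1], [1477, 3347, 2445])])
    (Ct.card_Fd orbs (by decide) LyK.card (by decide +kernel)) (by decide) (cs := [(0, []), (0, []), (1, []), (0, [0, 0, 1, 0, 1, 0, 1]), (2, [1, 1, 0, 0, 1, 1, 0]), (1, [1]), (0, [1, 1, 1, 1]), (0, [0, 1, 1, 1, 1, 1, 0]), (2, [0, 1, 0, 0, 1, 1, 0])]) (by decide +kernel)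
    (List.forall_mem_cons.2 ⟨Ct.good_nc_keys LyA.pa (by decide) (Ct.nc_top rX (L := 12) (rw := [4, 8, 6, 14, 5, 7, 16, 4, 12, 2, 4, 8, 6, 14, 5, 7, 16, 4, 12, 2, 0, 2, 0, 3, 0, 2, 0, 3, 4, 8, 6, 14, 5, 7, 16, 4, 12, 2, 4, 8, 6, 14, 5, 7, 16, 4, 12, 2]) (by decide) (by decide +kernel) (by decide +kernel)) (by decide +kernel),
      List.forall_mem_cons.2 ⟨Ct.good_keys LyA.pa (by decide) (u := []) (eqs.g4 inj rfl h3 hM3 [3] [3, 19, 6, 2, 19] (by decide +kernel)) (by decide +kernel),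
      List.forall_mem_cons.2 ⟨Ct.good_nc_keys LyA.pa (by decide) (Ct.nc_top rX (L := 12) (rw := [4, 8, 6, 14, 5, 7, 16, 4, 12, 2, 0, 2, 0, 3, 4, 8, 6, 14, 5, 7, 16, 4, 12, 2, 0, 2, 0, 3]) (by decide) (by decide +kernel) (by decide +kernel)) (by decide +kernel),
      fun _ h => nomatch h⟩⟩⟩)

theorem G3_4 : ∀ r, Ct.Good LyG.ι (ev (Dce.gD LyG.ι LyA.y LyG.T 33) (Dce.pw LyD.tab.at (getL LyD.nm 0 4))) (ev LyA.y tw3) M3 r :=
  Ct.good_of_S (LyA.pa.ren f4) (by decide) (by decide : Nat.Prime 3) (c := 320) p3 n3 F4 (hs := [[0, 0, 1], [0, 0, 0, 1, 1, 1, 1, 1, 0]]) (reps := [[0, 0, 1], [1, 1, 1, 1, 1], [1, 0, 1, 0, 1, 1, 1, 1, 1, 0, 0, 1]])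
    (E := [([], [0, 1, 22]),
  ([0], [1755, 1374, 1814]),
  ([1], [1178, 1963, 2983]),
  ([0, 0], [1683, 1686, 780]),
  ([0, 1], [3200, 1515, 261]),
  ([1, 1], [1237, 2946, 3671]),
  ([0, 0, 1], [1225, 769, 104]),
  ([0, 1, 1], [1198, 1485, 260]),
  ([0, 0, 1, 1], [1470, 991, 1002])])
    (Ct.card_Fd orbs (by decide) LyK.card (by decide +kernel)) (by decide) (cs := [(0, []), (0, []), (1, [0]), (0, [1, 1, 1, 1, 0, 0, 1, 1, 0]), (0, [0, 1, 1, 0, 0, 1, 1, 1, 1]), (1, [0, 0, 1, 1]), (2, [1, 0, 1, 1]), (2, [0, 1, 0, 1]), (0, [0, 1, 0, 0, 1, 1, 1, 1, 0, 1])]) (by decide +kernel)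
    (List.forall_mem_cons.2 ⟨Ct.good_nc_keys LyA.pa (by decide) (Ct.nc_top rX (L := 12) (rw := [0, 3, 0, 2, 0, 2, 2, 16, 0, 0, 3, 0, 2, 0, 2, 2, 16, 0, 3, 1, 11, 8, 11, 6, 3, 11, 6, 0, 0]) (by decide) (by decide +kernel) (by decide +kernel)) (by decide +kernel),
      List.forall_mem_cons.2 ⟨Ct.good_nc_keys LyA.pa (by decide) (Ct.nc_top rX (L := 12) (rw := [3, 1, 11, 8, 11, 6, 3, 11, 6, 0, 0, 3, 1, 11, 8, 11, 6, 3, 11, 6, 0, 0, 3, 1, 11, 8, 11, 6, 3, 11, 6, 0, 0, 3, 1, 11, 8, 11, 6, 3, 11, 6, 0, 0, 3, 1, 11, 8, 11, 6, 3, 11, 6, 0, 0]) (by decide) (by decide +kernel) (by decide +kernel)) (by decide +kernel),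
      List.forall_mem_cons.2 ⟨Ct.good_keys LyA.pa (by decide) (u := [16, 12, 6, 12, 5]) (eqs.g4 inj rfl h3 hM3 [4, 7, 16, 6] [4, 7, 16, 6, 19, 8, 6, 19, 16, 12, 6, 12, 5] (by decide +kernel)) (by decide +kernel),
      fun _ h => nomatch h⟩⟩⟩)

theorem cent3 : Subgroup.centralizer {Y 21} = M3 := by
  rw [zeq3]
  refine le_antisymm (Ct.cent_le orbs fun i (hi : i < 5) => ?_) hM3
  interval_cases i
  exacts [by rw [show getL LyD.nm 0 0 = 0 from rfl, Dce.pw_zero]; exact Ct.good_one inj h3, G3_1, G3_2, G3_3, G3_4]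

theorem struct3 : Nat.card (Subgroup.center (Subgroup.centralizer ({Y 21} : Set Cfsg.Spor.Ly))) = 3 ∧
    Cfsg.IsMcL (Subgroup.centralizer ({Y 21} : Set Cfsg.Spor.Ly) ⧸ Subgroup.center (Subgroup.centralizer {Y 21})) := by
  have e := eqs.sub cent3.ge
  obtain ⟨f⟩ := Known.McLT.equiv
  have : IsSimpleGroup (Leech.St2 Leech.vv Leech.uu) := Leech.simple_McL
  have : IsSimpleGroup Known.McLP.G := (Leech.equivMcL.trans f).symm.isSimpleGroup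
  obtain ⟨h, ⟨q⟩⟩ := Ct.cent_quot (center_eq_bot_of_card Known.McLP.card (by decide) (by norm_num))
    (eqs.comm (xs := [17]) (by decide +kernel)) (Ct.let_ne LyA.pa (by decide) inj (by decide +kernel))
    (eqs.pow 17 5 (by decide +kernel)) (by rw [ord3]; decide)
    fun h => e.quot_lifts _ (qs := [21]) (xs := [31, 32, 33, 34, 35, 36, 37]) Known.McLP.lifts le_rfl (Ct.subG_top cent3) (by decide +kernel) h
  exact ⟨h.trans ord3, q.isSimpleGroup, (Nat.card_congr q.toEquiv).trans Known.McLP.card⟩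

end Cfsg.Agent.Spor.LyC
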