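import Cfsg.Agent.Spor.LyD
import Cfsg.Agent.Spor.LyM
import Cfsg.Agent.Spor.LyS
import Cfsg.Prelude.Def_Spor_Ly

/-! The Lyons group (generated certificate, helper23). -/

set_option Elab.async false
set_option maxRecDepth 100000
set_option exponentiation.threshold 100000

namespace Cfsg.Agent.Spor.LyG

open Equiv

theorem lc1 : BaseGe (genW (PP JLyK.nets) [[9, 15, 2, 2, 0, 3, 3, 11, 0, 2, 1, 3, 2, 0, 3, 0, 2, 2, 1, 3, 3, 0, 2, 1, 3, 0, 2, 2, 0, 3, 3, 2, 1, 3, 2, 0, 3, 1, 0, 2, 2, 0, 3, 3, 2, 1, 3, 0, 2, 1, 3, 9, 15, 2, 2, 0, 3, 3, 11, 0, 2, 1, 3], [10, 2, 1, 3, 18, 1, 16, 2, 2, 0, 3, 3, 0, 2, 1, 3, 9, 15, 2, 2, 0, 3, 3, 11, 0, 2, 1, 3, 2, 0, 3, 1, 9, 15, 2, 2, 0, 3, 3, 11, 0, 2, 1, 3, 2, 0, 3, 1, 10, 2, 1, 3, 18, 1, 16, 2, 2, 0, 3, 3]]) 96 [5] :=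
  BaseGe.stepW (L := 12) (n := 96) JLyK.ok (genW_nil_base _) [] [0, 1, 0, 1, 0, 1, 0, 1, 0, 1, 0, 0] (by decide +kernel)

theorem lc0 : BaseGe (genW (PP JLyK.nets) [[2, 0, 3, 0, 2, 2, 1, 3, 3], [0, 2, 2, 0, 3, 3, 2, 0, 3], [2, 0, 3, 0, 2, 2, 0, 3, 3], [0, 2, 2, 0, 3, 3, 2, 1, 3], [9, 15, 2, 2, 0, 3, 3, 11, 0, 2, 1, 3], [10, 2, 1, 3, 18, 1, 16, 2, 2, 0, 3, 3], [2, 0, 3, 1], [0, 2, 1, 3]]) 300000 [1, 5] :=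
  BaseGe.stepW (L := 12) (n := 3125) JLyK.ok lc1 [[4, 0, 7, 3, 6, 3, 7, 4], [5, 7, 4, 6, 4, 6, 5]] [4, 0, 2, 6, 4, 0, 2, 6, 4, 0, 2, 6, 4, 0, 2, 4, 6, 0] (by decide +kernel)

def lts : List (Cfsg.Spor.Ly.Gen × Bool) := [(.a, true), (.a, false), (.b, true), (.b, false), (.c, true), (.c, false), (.d, true), (.d, false), (.z, true), (.z, false), (.e, true), (.a1, true), (.a1, false), (.a2, true), (.a2, false), (.a3, true), (.a3, false), (.a4, true), (.a4, false), (.c1, true), (.c1, false), (.c2, true), (.c2, false), (.c3, true), (.c3, false), (.c4, true), (.c4, false), (.c5, true), (.c5, false), (.u, true), (.u, false), (.x23, true), (.x23, false), (.x24, true), (.x24, false), (.x25, true), (.x25, false), (.x29, true), (.x29, false), (.x47, true), (.x47, false), (.x96, true), (.x96, false),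 (.x129, true), (.x129, false), (.x162, true), (.x162, false), (.x163, true), (.x163, false), (.x164, true), (.x164, false), (.x165, true), (.x165, false), (.x166, true), (.x166, false), (.x167, true), (.x167, false), (.x168, true), (.x168, false), (.x169, true), (.x169, false), (.x364, true), (.x364, false), (.x365, true), (.x365, false), (.x366, true), (.x366, false), (.x367, true), (.x367, false), (.x368, true), (.x368, false), (.x369, true), (.x369, false), (.x370, true), (.x370, false), (.x371, true), (.x371, false)]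

theorem lt : LtOk Cfsg.Spor.Ly.edges Cfsg.Spor.Ly.extra lts :=
  ⟨by intro q; cases q <;> decide, by decide +kernel, by decide +kernel⟩

noncomputable abbrev g : ℕ → Cfsg.Spor.Ly := letG (RS Cfsg.Spor.Ly.edges Cfsg.Spor.Ly.extra) lts

def rels : List (List ℕ) := [[0, 1], [1, 0], [2, 3], [3, 2], [4, 5], [5, 4], [6, 7], [7, 6], [8, 9], [9, 8], [10, 10], [11, 12], [12, 11], [13, 14], [14, 13], [15, 16], [16, 15], [17, 18], [18, 17], [19, 20], [20, 19], [21, 22], [22, 21], [23, 24], [24, 23], [25, 26], [26, 25], [27, 28], [28, 27], [29, 30], [30, 29], [31, 32], [32, 31], [33, 34], [34, 33], [35, 36], [36, 35], [37, 38], [38, 37], [39, 40], [40, 39], [41, 42], [42, 41], [43, 44], [44, 43], [45, 46], [46, 45], [47, 48], [48, 47], [49, 50], [50, 49], [51, 52], [52, 51], [53, 54], [54, 53],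 [55, 56], [56, 55], [57, 58], [58, 57], [59, 60], [60, 59], [61, 62], [62, 61], [63, 64], [64, 63], [65, 66], [66, 65], [67, 68], [68, 67], [69, 70], [70, 69], [71, 72], [72, 71], [73, 74], [74, 73], [75, 76], [76, 75], [0, 0, 0, 0, 0, 0, 0, 0], [2, 2, 2, 2, 2], [0, 2, 0, 2, 0, 2, 0, 2], [1, 1, 3, 0, 0, 2], [1, 3, 0, 2, 1, 3, 0, 2, 1, 3, 0, 2], [19, 5], [21, 1, 5, 0], [23, 3, 5, 2], [25, 2, 5, 3], [27, 22, 20, 21, 19], [19, 19, 19, 19, 19], [27, 27, 27, 27, 27], [20, 28, 19, 27], [22, 28, 21, 27], [24, 28, 23, 27], [26, 28, 25, 27], [20, 24, 19, 23, 27, 27], [20, 26, 19, 25, 28, 28], [22, 24, 21, 23, 27], [22, 26, 21, 25], [24, 26, 23, 25, 27], [1, 21, 0, 19, 19], [1, 23, 0, 26, 20, 23, 23], [1, 25, 0, 26, 20, 26, 23, 21, 20], [1, 27, 0, 28, 28], [3, 21, 2, 25, 19, 25, 24, 22], [3,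 23, 2, 23, 23, 26, 20, 20], [3, 27, 2, 28], [10, 7, 20, 7, 2, 1, 3, 20, 7, 1, 20, 0, 20, 1, 19, 0, 2, 2], [10, 19, 10, 19, 3, 24, 3], [10, 23, 10, 0, 25, 19, 22, 1, 3, 3], [10, 25, 10, 26, 23, 3, 3], [10, 27, 10, 25, 20, 23, 20], [10, 0, 0, 10, 25, 28, 20, 1, 2, 1, 3, 3, 1], [10, 2, 10, 25, 25, 23, 20], [10, 0, 2, 2, 0, 3, 0, 10, 25, 28, 20, 1, 1], [10, 21, 10, 22, 10, 21, 26, 0, 23, 0, 0, 0], [6, 10, 3, 21, 1, 10, 1, 10, 1, 27, 25, 19, 2, 0, 3, 3, 1], [6, 6, 1, 1, 1, 1], [3, 7, 2, 6], [7, 0, 6, 1, 1, 1], [6, 27, 6, 27, 6, 27, 6, 27, 6, 27], [6, 27, 6, 28, 6, 27, 1, 1], [11, 1], [13, 2, 1, 3], [15, 2, 2, 1, 3, 3], [17, 3, 3, 1, 2, 2], [29, 1, 1], [31, 7], [33, 6], [35, 3, 5, 0, 3, 3, 4, 7, 4, 0, 5, 1, 4, 3, 3, 0, 2, 0, 3, 3], [37, 5, 3, 5, 7, 2, 2, 5, 7, 2, 5, 3, 5, 1, 4, 3, 3, 0,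 3, 3, 0, 3, 1], [39, 6, 4, 3, 0, 4, 0, 6, 4], [41, 7, 3], [43, 2, 6], [45, 1, 3, 4, 1, 2, 4, 3, 0, 2, 0], [47, 3, 5, 3, 0, 5, 1, 2, 2], [49, 1, 3, 1, 5, 0, 2, 0], [51, 3, 1, 2, 5, 3, 0, 2], [53, 4, 2, 2, 5, 1, 3, 5, 2, 0, 3, 3], [55, 0, 0, 0], [57, 0, 0, 2, 0, 3], [59, 0, 2, 2, 1, 3, 3, 1], [61, 2, 1, 3, 1, 2, 1, 4, 0, 2, 4, 3, 6, 4, 3, 0, 4, 2, 7, 0], [63, 6, 2, 5, 0, 5, 1, 5, 7, 4, 4, 0, 3, 4, 3, 5, 0, 2, 2, 1], [65, 5, 3, 5, 7, 2, 2, 5, 7, 3, 5, 3, 3, 5, 2, 0, 2, 2, 0, 2, 1, 3], [67, 2, 0, 3, 1, 3, 3, 1, 3, 4, 2, 2, 4, 2, 6, 4, 3, 3, 6, 4, 2, 4], [69, 2, 2, 0, 2, 4, 2, 2, 5, 1, 4, 0, 6, 4, 1, 2, 4, 1, 6, 4, 0], [71, 2, 1, 2, 2, 1, 2, 4, 2, 0, 3, 6, 4, 2, 0, 3, 6, 4, 0], [73, 0, 3, 0, 2, 2, 0, 5, 0, 2, 1, 6, 4, 0, 5, 3, 5, 1, 6], [75, 3, 0, 2, 0, 2, 5, 1, 5, 0, 5, 6, 4, 3, 5, 0,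 4], [9, 19, 8, 46], [9, 21, 8, 48], [9, 23, 8, 50], [9, 25, 8, 52], [9, 27, 8, 54], [9, 11, 8, 56], [9, 13, 8, 58], [9, 15, 8, 60], [8, 8, 30], [17, 8, 17, 8, 17, 8, 29], [39, 8, 61, 8, 69, 8], [9, 33, 9, 71, 8, 31, 8, 37], [8, 65, 8, 63, 9, 67, 9, 73], [8, 41, 8, 35, 9, 43, 9, 75]]

theorem hg : ∀ r ∈ rels, ev g r = 1 := lt.rels_of_relsG (by decide +kernel)

def iv : List ℕ := [1, 0, 3, 2, 5, 4, 7, 6, 9, 8, 10, 12, 11, 14, 13, 16, 15, 18, 17, 20, 19, 22, 21, 24, 23, 26, 25, 28, 27, 30, 29, 32, 31, 34, 33, 36, 35, 38, 37, 40, 39, 42, 41, 44, 43, 46, 45, 48, 47, 50, 49, 52, 51, 54, 53, 56, 55, 58, 57, 60, 59, 62, 61, 64, 63, 66, 65, 68, 67, 70, 69, 72, 71, 74, 73, 76, 75]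

theorem hi : InvOk g 77 iv := invOk_of_rels hg (by decide +kernel)

def ren : List (List ℕ) := [[0], [1], [2], [3], [4], [5], [6], [7], [8], [9], [3, 3, 1, 5, 0, 4, 1, 4, 0, 6, 4, 2, 0, 3, 6, 4, 6], [0], [1], [2, 0, 3], [2, 1, 3], [2, 2, 0, 3, 3], [2, 2, 1, 3, 3], [3, 3, 0, 2, 2], [3, 3, 1, 2, 2], [4], [5], [1, 4, 0], [1, 5, 0], [3, 4, 2], [3, 5, 2], [2, 4, 3], [2, 5, 3], [5, 1, 5, 0, 4, 1, 4, 0], [1, 5, 0, 5, 1, 4, 0, 4], [0, 0], [1, 1], [6], [7], [7], [6], [2, 2, 1, 3, 1, 2, 2, 5, 0, 4, 1, 5, 6, 5, 2, 2, 1, 4, 2], [3, 5, 0, 3, 3, 4, 7, 4, 0, 5, 1, 4, 3, 3, 0, 2, 0, 3, 3], [0, 2, 1, 2, 2, 1, 2, 2, 5, 0, 4, 2, 4, 3, 6, 4, 3, 3, 6, 4, 2, 4], [5, 3, 5, 7, 2, 2, 5, 7, 2, 5, 3, 5, 1, 4, 3, 3, 0, 3, 3, 0, 3, 1], [5, 7, 1, 5, 1, 2, 5, 7], [6, 4, 3, 0, 4, 0, 6, 4], [2, 6], [7, 3], [7, 3],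 [2, 6], [1, 3, 1, 2, 5, 3, 0, 5, 2, 0], [1, 3, 4, 1, 2, 4, 3, 0, 2, 0], [3, 3, 0, 4, 1, 2, 4, 2], [3, 5, 3, 0, 5, 1, 2, 2], [1, 3, 1, 4, 0, 2, 0], [1, 3, 1, 5, 0, 2, 0], [3, 1, 2, 4, 3, 0, 2], [3, 1, 2, 5, 3, 0, 2], [2, 2, 1, 3, 4, 2, 0, 4, 3, 3, 5], [4, 2, 2, 5, 1, 3, 5, 2, 0, 3, 3], [1, 1, 1], [0, 0, 0], [2, 1, 3, 1, 1], [0, 0, 2, 0, 3], [0, 2, 2, 0, 3, 3, 1], [0, 2, 2, 1, 3, 3, 1], [1, 6, 3, 5, 1, 2, 5, 7, 2, 5, 3, 1, 5, 0, 3, 0, 2, 0, 3], [2, 1, 3, 1, 2, 1, 4, 0, 2, 4, 3, 6, 4, 3, 0, 4, 2, 7, 0], [0, 3, 3, 1, 4, 2, 5, 2, 1, 5, 5, 6, 4, 0, 4, 1, 4, 3, 7], [6, 2, 5, 0, 5, 1, 5, 7, 4, 4, 0, 3, 4, 3, 5, 0, 2, 2, 1], [2, 0, 3, 1, 3, 3, 1, 3, 4, 2, 2, 4, 2, 6, 4, 3, 3, 6, 4, 2, 4], [5, 3, 5, 7, 2, 2, 5, 7, 3, 5, 3, 3, 5, 2, 0, 2, 2, 0, 2, 1, 3], [5, 3, 5, 7, 2, 2, 5, 7, 3, 5, 3, 3, 5,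 2, 0, 2, 2, 0, 2, 1, 3], [2, 0, 3, 1, 3, 3, 1, 3, 4, 2, 2, 4, 2, 6, 4, 3, 3, 6, 4, 2, 4], [1, 5, 7, 0, 5, 3, 0, 5, 7, 1, 5, 0, 4, 3, 3, 5, 3, 1, 3, 3], [2, 2, 0, 2, 4, 2, 2, 5, 1, 4, 0, 6, 4, 1, 2, 4, 1, 6, 4, 0], [1, 5, 7, 2, 1, 3, 5, 7, 2, 1, 3, 5, 3, 0, 3, 3, 0, 3], [2, 1, 2, 2, 1, 2, 4, 2, 0, 3, 6, 4, 2, 0, 3, 6, 4, 0], [7, 0, 4, 2, 4, 1, 5, 7, 0, 3, 1, 4, 1, 3, 3, 1, 2, 1], [0, 3, 0, 2, 2, 0, 5, 0, 2, 1, 6, 4, 0, 5, 3, 5, 1, 6], [5, 1, 4, 2, 5, 7, 4, 1, 4, 0, 4, 3, 1, 3, 1, 2], [3, 0, 2, 0, 2, 5, 1, 5, 0, 5, 6, 4, 3, 5, 0, 4]]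

theorem hd : ∀ x < 77, renG g ren x = g x := hi.defs hg (by decide +kernel) [[19, 5], [20, 19], [21, 1, 5, 0], [22, 21], [23, 3, 5, 2], [24, 23], [25, 2, 5, 3], [26, 25], [27, 22, 20, 21, 19], [28, 27], [10, 7, 20, 7, 2, 1, 3, 20, 7, 1, 20, 0, 20, 1, 19, 0, 2, 2], [11, 1], [12, 11], [13, 2, 1, 3], [14, 13], [15, 2, 2, 1, 3, 3], [16, 15], [17, 3, 3, 1, 2, 2], [18, 17], [29, 1, 1], [30, 29], [31, 7], [32, 31], [33, 6], [34, 33], [35, 3, 5, 0, 3, 3, 4, 7, 4, 0, 5, 1, 4, 3, 3, 0, 2, 0, 3, 3], [36, 35], [37, 5, 3, 5, 7, 2, 2, 5, 7, 2, 5, 3, 5, 1, 4, 3, 3, 0, 3, 3, 0, 3, 1], [38, 37], [39, 6, 4, 3, 0, 4, 0, 6, 4], [40, 39], [41, 7, 3], [42, 41], [43, 2, 6], [44, 43], [45, 1, 3, 4, 1, 2, 4, 3, 0, 2, 0], [46, 45], [47, 3, 5, 3, 0, 5, 1, 2, 2], [48, 47], [49, 1, 3, 1, 5, 0, 2, 0], [50, 49],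 [51, 3, 1, 2, 5, 3, 0, 2], [52, 51], [53, 4, 2, 2, 5, 1, 3, 5, 2, 0, 3, 3], [54, 53], [55, 0, 0, 0], [56, 55], [57, 0, 0, 2, 0, 3], [58, 57], [59, 0, 2, 2, 1, 3, 3, 1], [60, 59], [61, 2, 1, 3, 1, 2, 1, 4, 0, 2, 4, 3, 6, 4, 3, 0, 4, 2, 7, 0], [62, 61], [63, 6, 2, 5, 0, 5, 1, 5, 7, 4, 4, 0, 3, 4, 3, 5, 0, 2, 2, 1], [64, 63], [65, 5, 3, 5, 7, 2, 2, 5, 7, 3, 5, 3, 3, 5, 2, 0, 2, 2, 0, 2, 1, 3], [66, 65], [67, 2, 0, 3, 1, 3, 3, 1, 3, 4, 2, 2, 4, 2, 6, 4, 3, 3, 6, 4, 2, 4], [68, 67], [69, 2, 2, 0, 2, 4, 2, 2, 5, 1, 4, 0, 6, 4, 1, 2, 4, 1, 6, 4, 0], [70, 69], [71, 2, 1, 2, 2, 1, 2, 4, 2, 0, 3, 6, 4, 2, 0, 3, 6, 4, 0], [72, 71], [73, 0, 3, 0, 2, 2, 0, 5, 0, 2, 1, 6, 4, 0, 5, 3, 5, 1, 6], [74, 73], [75, 3, 0, 2, 0, 2, 5, 1, 5, 0, 5, 6, 4, 3, 5, 0, 4], [76, 75]] (by decide +kernel)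

theorem hb : ∀ r ∈ rels.map (renW ren), ev g r = 1 := rels_of_defs hd hg (by decide +kernel)

def jl : List (List ℕ) := [[0], [1], [2], [3], [4], [5], [6], [7], [10], [19], [20], [21], [22], [23], [24], [25], [26], [27], [28]]

theorem exι : ∃ ι : LyK.G →* Cfsg.Spor.Ly, ∀ x < 19, ι (LyK.g x) = renG g jl x :=
  LyK.lifts _ _ (renG_rels (hi.rels hg (by decide +kernel) (by decide +kernel)))

noncomputable def ι : LyK.G →* Cfsg.Spor.Ly := exι.choose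

def R : List (List ℕ) := LyA.renK.map (renW jl) ++ [[8]]

noncomputable def T : Cfsg.Spor.Ly := renG g R 33

theorem h1 : ∀ x < 33, ι (LyA.y x) = renG g R x := map_renG (ren := LyA.renK) exι.choose_spec (by decide +kernel) _

theorem cp : Dce.CommP ι LyA.y T [[4], [5], [1, 4, 0], [1, 5, 0], [3, 4, 2], [3, 5, 2], [2, 4, 3], [2, 5, 3], [5, 1, 5, 0, 4, 1, 4, 0], [1, 5, 0, 5, 1, 4, 0, 4], [0], [1], [2, 0, 3], [2, 1, 3], [2, 2, 0, 3, 3], [2, 2, 1, 3, 3]] [[1, 3, 1, 2, 5, 3, 0, 5, 2, 0], [1, 3, 4, 1, 2, 4, 3, 0, 2, 0], [3, 3, 0, 4, 1, 2, 4, 2], [3, 5, 3, 0, 5, 1, 2, 2], [1, 3, 1, 4, 0, 2, 0], [1, 3, 1, 5, 0, 2, 0], [3, 1, 2, 4, 3, 0, 2], [3, 1, 2, 5, 3, 0, 2], [2, 2, 1, 3, 4, 2, 0, 4, 3, 3, 5], [4, 2, 2, 5, 1, 3, 5, 2, 0, 3, 3], [1, 1, 1], [0, 0, 0], [2, 1, 3, 1, 1], [0, 0, 2, 0, 3], [0,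 2, 2, 0, 3, 3, 1], [0, 2, 2, 1, 3, 3, 1]] :=
  Dce.commP_of_rels h1 rfl hi (ps := List.zip [[4], [5], [1, 4, 0], [1, 5, 0], [3, 4, 2], [3, 5, 2], [2, 4, 3], [2, 5, 3], [5, 1, 5, 0, 4, 1, 4, 0], [1, 5, 0, 5, 1, 4, 0, 4], [0], [1], [2, 0, 3], [2, 1, 3], [2, 2, 0, 3, 3], [2, 2, 1, 3, 3]] [[1, 3, 1, 2, 5, 3, 0, 5, 2, 0], [1, 3, 4, 1, 2, 4, 3, 0, 2, 0], [3, 3, 0, 4, 1, 2, 4, 2], [3, 5, 3, 0, 5, 1, 2, 2], [1, 3, 1, 4, 0, 2, 0], [1, 3, 1, 5, 0, 2, 0], [3, 1, 2, 4, 3, 0, 2], [3, 1, 2, 5, 3, 0, 2], [2, 2, 1, 3, 4, 2, 0, 4, 3, 3, 5], [4, 2, 2, 5, 1, 3, 5, 2, 0, 3, 3], [1, 1, 1], [0, 0, 0], [2, 1, 3, 1, 1], [0, 0, 2, 0, 3], [0, 2, 2, 0, 3, 3, 1], [0, 2, 2, 1, 3, 3, 1]]) (by decide +kernel) (hi.prod hb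
   [[([9], 296)],
    [([1, 3, 1, 2, 5, 3, 0, 5, 2, 0, 9], 297)],
    [([9], 298)],
    [([3, 3, 0, 4, 1, 2, 4, 2, 9], 299)],
    [([9], 300)],
    [([1, 3, 1, 4, 0, 2, 0, 9], 301)],
    [([9], 302)],
    [([3, 1, 2, 4, 3, 0, 2, 9], 303)],
    [([9], 304)],
    [([2, 2, 1, 3, 4, 2, 0, 4, 3, 3, 5, 9], 305)],
    [([9], 306)],
    [([1, 1, 1, 9], 307)],
    [([9], 308)],
    [([2, 1, 3, 1, 1, 9], 309)],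
    [([9], 310)],
    [([0, 2, 2, 0, 3, 3, 1, 9], 311)]] (by decide +kernel))

theorem comm : ∀ x, 0 < Dce.tb LyD.sgc x → T * ι (LyA.y x) = ι (LyA.y (Dce.sgm LyD.sgc x)) * T :=
  cp.comm LyA.pa (ws := [[], [], [], [], [], [], [], [], [], [], [], [], [], [], [], [], [], [], [], [12, 10, 15], [10, 14, 12], [12, 10, 14], [10, 14, 13], [0, 6, 14, 2, 10, 13], [1, 13, 9, 11, 7, 14], [12, 11], [10, 13], [], [], [], [], [], [], [], [], [], [], [], [], [], [], [], [], [], [], [], [], [], [], [], [], [], [], [], [], [], [], [], [], [], [], [], []]) (by decide +kernel)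

theorem hr : ∀ w ∈ LyD.rels.map (Dce.flatT 33), ev (Dce.gD ι LyA.y T 33) w = 1 :=
  Dce.rels_gD h1 rfl (by decide +kernel) (hi.prod hb [[([8, 8], 312)],
    [([3, 3, 0, 2, 2, 8, 3, 3, 0, 2, 2, 8, 3, 3, 0, 2, 2, 8], 314)],
    [([], 316)],
    [([8, 8, 1, 1, 1, 5, 7, 2, 1, 3, 5, 7, 2, 1, 3, 5, 3, 0, 3, 3, 0, 3, 8, 6, 8], 312), ([8, 8, 1, 1, 7, 8, 1, 1, 1, 5, 7, 2, 1, 3, 5, 7, 2, 1, 3, 5, 3, 0, 3, 3, 0, 3, 8, 6, 8], 312), ([8, 1, 1, 7, 8, 1, 1, 1, 5, 7, 2, 1, 3, 5, 7, 2, 1, 3, 5, 3, 0, 3, 3, 0, 3, 8, 6, 8], 318)],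
    [([8, 2, 0, 3, 1, 3, 3, 1, 3, 4, 2, 2, 4, 2, 6, 4, 3, 3, 6, 4, 2, 4, 0, 0], 312), ([8, 8], 312), ([8, 2, 0, 3, 1, 3, 3, 1, 3, 4, 2, 2, 4, 2, 6, 4, 3, 3, 6, 4, 2, 4, 8, 0, 3, 3, 1, 4, 2, 5, 2, 1, 5, 5, 6, 4, 0, 4, 1, 4, 3, 7, 8], 320)],
    [([8, 8], 312), ([8, 8, 1, 1, 5, 3, 5, 7, 2, 2, 5, 7, 3, 5, 3, 3, 5, 2, 0, 2, 2, 0, 2, 1, 3, 8], 312), ([8, 2, 0, 3, 1, 3, 3, 1, 3, 4, 2, 2, 4, 2, 6, 4, 3, 3, 6, 4, 2, 4, 8, 0, 3, 3, 1, 4, 2, 5, 2, 1, 5, 5, 6, 4, 0, 4, 1, 4, 3, 7, 8, 1, 1, 5, 3, 5, 7, 2, 2, 5, 7, 3, 5, 3, 3, 5, 2, 0, 2, 2, 0, 2, 1, 3, 8], 320)],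
    [([8, 8, 1, 1, 1, 5, 7, 2, 1, 3, 5, 7, 2, 1, 3, 5, 3, 0, 3, 3, 0, 3, 8], 312), ([8, 8, 1, 1, 7, 8, 1, 1, 1, 5, 7, 2, 1, 3, 5, 7, 2, 1, 3, 5, 3, 0, 3, 3, 0, 3, 8], 312), ([8, 1, 1, 7, 8, 1, 1, 1, 5, 7, 2, 1, 3, 5, 7, 2, 1, 3, 5, 3, 0, 3, 3, 0, 3, 8], 318)],
    [([8, 6, 0, 0], 312), ([8, 8], 312), ([8], 318)],
    [([8], 312)]] (by decide +kernel))

theorem hyp : Dce.Hyp ι LyA.y T LyK.φ 3906 LyA.act [0, 1, 22] 33 LyD.ivc LyD.sgc [33, 1, 1] LyD.rels :=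
  ⟨LyA.pa, by decide, Dce.hyp_inv LyA.pa (by decide +kernel),
    Dce.invT_of_rel (Dce.rels_gD h1 rfl (by decide +kernel) (hi.prod hb [[([], 312)]] (by decide +kernel))), comm,
    Dce.hyp_rel (by decide +kernel) hr⟩

noncomputable def ψ : LyK.G →* Perm ℕ := LyO.ex.choose

theorem rψ : PermRep LyA.y LyO.nets 19530 27 ψ := LyO.ex.choose_spec.congr fun _ hx => renG_append _ _ hx

theorem stabC : IsStab ψ (genW LyA.y (sing [19, 20, 21, 22, 23, 24, 25, 26])) 0 :=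
  rψ.stab_le (rψ.trans (by decide) LyO.otr) (fun c hc => fix_of_chkClosed rψ.ok (ws := sing [19, 20, 21, 22, 23, 24, 25, 26]) (by decide +kernel)
    ((rψ.map_genW (by decide +kernel)).le (Subgroup.mem_map_of_mem ψ hc))) (m := 300000) LyK.card (by decide)
    (CardGe.of_map LyK.φ (by rw [LyA.y, genW_renG, LyK.rep.map_genW (by decide +kernel)]; exact lc0.cardGe))

instance finK : Finite LyK.G := Nat.finite_of_card_ne_zero (by rw [LyK.card]; decide)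

theorem cert : Dce.Cert ι LyA.y T 33 LyD.subs LyD.tab.at ψ 19530 0 LyD.sz.length LyD.nm LyD.sz :=
  hyp.cert LyD.steps rψ (by decide) (by decide)
    (fun k hk => Dce.hC_of_comm comm (xs := [19, 20, 21, 22, 23, 24, 25, 26]) (by decide +kernel) ((genW_sing _ _).le ((stabC k).2 hk)))
    (by decide) rfl (by decide) LyD.tree LyD.rows

theorem gen : ∀ S : Subgroup Cfsg.Spor.Ly, (∀ k, ι k ∈ S) → T ∈ S → S = ⊤ :=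
  Dce.gen_top h1 rfl (by decide +kernel) (eq_top_iff.2 (lt.genL_top.ge.trans ((genW_sing g _).ge.trans
    (hi.genW_le hd (by decide +kernel)))))

def mren : List (List ℕ) := [[0], [1], [2], [3], [4], [5], [6], [7], [19], [20], [8], [0], [1], [2, 0, 3], [2, 1, 3], [2, 2, 0, 3, 3], [2, 2, 1, 3, 3], [3, 3, 0, 2, 2], [3, 3, 1, 2, 2], [9], [10], [11], [12], [13], [14], [15], [16], [17], [18], [0, 0], [1, 1], [6], [7], [7], [6], [2, 2, 1, 3, 1, 2, 2, 5, 0, 4, 1, 5, 6, 5, 2, 2, 1, 4, 2], [3, 5, 0, 3, 3, 4, 7, 4, 0, 5, 1, 4, 3, 3, 0, 2, 0, 3, 3], [0, 2, 1, 2, 2, 1, 2, 2, 5, 0, 4, 2, 4, 3, 6, 4, 3, 3, 6, 4, 2, 4], [5, 3, 5, 7, 2, 2, 5, 7, 2, 5, 3, 5, 1, 4, 3, 3, 0, 3, 3, 0, 3, 1], [5, 7, 1, 5, 1, 2, 5, 7], [6, 4, 3, 0, 4, 0, 6, 4], [2, 6], [7, 3], [7, 3], [2, 6], [1, 3, 1, 2, 5, 3, 0, 5, 2,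 0], [1, 3, 4, 1, 2, 4, 3, 0, 2, 0], [3, 3, 0, 4, 1, 2, 4, 2], [3, 5, 3, 0, 5, 1, 2, 2], [1, 3, 1, 4, 0, 2, 0], [1, 3, 1, 5, 0, 2, 0], [3, 1, 2, 4, 3, 0, 2], [3, 1, 2, 5, 3, 0, 2], [2, 2, 1, 3, 4, 2, 0, 4, 3, 3, 5], [4, 2, 2, 5, 1, 3, 5, 2, 0, 3, 3], [1, 1, 1], [0, 0, 0], [2, 1, 3, 1, 1], [0, 0, 2, 0, 3], [0, 2, 2, 0, 3, 3, 1], [0, 2, 2, 1, 3, 3, 1], [1, 6, 3, 5, 1, 2, 5, 7, 2, 5, 3, 1, 5, 0, 3, 0, 2, 0, 3], [2, 1, 3, 1, 2, 1, 4, 0, 2, 4, 3, 6, 4, 3, 0, 4, 2, 7, 0], [0, 3, 3, 1, 4, 2, 5, 2, 1, 5, 5, 6, 4, 0, 4, 1, 4, 3, 7], [6, 2, 5, 0, 5, 1, 5, 7, 4, 4, 0, 3, 4, 3, 5, 0, 2, 2, 1], [2, 0, 3, 1, 3, 3, 1, 3, 4, 2, 2, 4, 2, 6, 4, 3, 3, 6, 4, 2, 4], [5, 3, 5, 7, 2, 2, 5, 7, 3, 5, 3, 3, 5, 2, 0, 2, 2, 0, 2, 1, 3], [5, 3, 5, 7, 2, 2, 5, 7, 3, 5, 3, 3, 5, 2, 0, 2, 2, 0, 2, 1, 3], [2, 0, 3,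 1, 3, 3, 1, 3, 4, 2, 2, 4, 2, 6, 4, 3, 3, 6, 4, 2, 4], [1, 5, 7, 0, 5, 3, 0, 5, 7, 1, 5, 0, 4, 3, 3, 5, 3, 1, 3, 3], [2, 2, 0, 2, 4, 2, 2, 5, 1, 4, 0, 6, 4, 1, 2, 4, 1, 6, 4, 0], [1, 5, 7, 2, 1, 3, 5, 7, 2, 1, 3, 5, 3, 0, 3, 3, 0, 3], [2, 1, 2, 2, 1, 2, 4, 2, 0, 3, 6, 4, 2, 0, 3, 6, 4, 0], [7, 0, 4, 2, 4, 1, 5, 7, 0, 3, 1, 4, 1, 3, 3, 1, 2, 1], [0, 3, 0, 2, 2, 0, 5, 0, 2, 1, 6, 4, 0, 5, 3, 5, 1, 6], [5, 1, 4, 2, 5, 7, 4, 1, 4, 0, 4, 3, 1, 3, 1, 2], [3, 0, 2, 0, 2, 5, 1, 5, 0, 5, 6, 4, 3, 5, 0, 4]]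

theorem exρ : ∃ ρ, BRep LyM.D LyM.As 21 LyM.iv g 77 mren ρ :=
  lt.bRep (rels := rels) (by decide +kernel) LyM.ok LyM.hi (by decide +kernel)
    (LyM.hi.rels LyM.hb (by decide +kernel) (by decide +kernel))

noncomputable def ρ := exρ.choose

theorem rρ : BRep LyM.D LyM.As 21 LyM.iv g 77 mren ρ := exρ.choose_spec

theorem rng : ι.range = genW g jl := range_eq_genW LyK.rep.top exι.choose_spec

theorem cE (k : LyK.G) : ∀ E ∈ [LyM.E].map LyM.D.bM, Commute (ρ (ι k) : Matrix _ _ _) E :=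
  rρ.commL (mc := 7) (by decide +kernel) (ws := jl) (by decide +kernel) (by decide +kernel) (rng ▸ ⟨k, rfl⟩)

def ts : List (Ex × Ex) := [(.lt 0, .lt 1), (.mul (.lt 0) (.lt 1), .lt 0), (.sq (.mul (.lt 0) (.lt 1)), .lt 0)]

theorem main : ι.range.index = 8835156 ∧ Function.Injective ρ ∧ Function.Injective ι ∧
    Nat.card ι.range = 5859000000 ∧ Nat.card Cfsg.Spor.Ly = 5859000000 * 8835156 ∧ IsCoatom ι.range ∧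
    ∀ N : Subgroup Cfsg.Spor.Ly, N.Normal → N ≤ ι.range → N = ⊥ :=
  (cert.main' gen (by decide) ρ (invT ZMod.val _ _ ts) (fun k a k' => invT_mul _ _ (cE k) (cE k') a)
    (rρ.sep (mc := 7) (by decide +kernel) ts h1 rfl (fun i => Dce.pw LyD.tab.at (getL LyD.nm 0 i)) (vals := [[(true, 0), (false, 0), (false, 0)], [(false, 0), (false, 0), (false, 0)], [(false, 0), (false, 2), (false, 2)], [(false, 0), (false, 0), (false, 2)], [(false, 0), (false, 2), (false, 3)]])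
      (by decide +kernel) (by decide +kernel) (by decide))
    (by decide +kernel) rfl (faithful_of_stab LyK.rep LyK.inj LyK.trans (β := 0) fun c hc =>
      (LyA.pa.genL_le_stab LyK.stab (by decide) (xs := [19, 20, 21, 22, 23, 24, 25, 26]) (by decide +kernel) ((genW_sing _ _).le ((stabC c).2 hc)) |>
        (LyK.stab c).1)) (by decide) (by decide) LyK.card (by decide +kernel)).2

theorem pw : (T * ι (ev LyA.y [6, 1, 3, 4, 7])) ^ 67 = 1 := by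
  have := Dce.rels_gD h1 rfl (ws := [powW ([6, 1, 3, 4, 7] ++ [33]) 67]) (by decide +kernel) (rρ.rels main.2.1 (by decide +kernel)
    (LyM.hi.rels (LyM.ok.rels (es := [(.mul (.sq (.mul (.sq (.sq (.sq (.sq (.sq (.mul (.mul (.lt 6) (.mul (.lt 1) (.lt 3))) (.mul (.lt 4) (.mul (.lt 7) (.lt 19))))))))) (.mul (.mul (.lt 6) (.mul (.lt 1) (.lt 3))) (.mul (.lt 4) (.mul (.lt 7) (.lt 19)))))) (.mul (.mul (.lt 6) (.mul (.lt 1) (.lt 3))) (.mul (.lt 4) (.mul (.lt 7) (.lt 19)))))]) (by decide +kernel)) (by decide +kernel) (by decide +kernel))) _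
    List.mem_cons_self
  rwa [ev_powW, ev_append, ev_one, Dce.gD_t, Dce.ev_gD (by decide)] at this

theorem simple : IsSimpleGroup Cfsg.Spor.Ly :=
  have := LyS.simple
  Dce.simple_of_coatom main.2.2.2.2.2.1 main.2.2.2.2.2.2 pw (by rw [main.2.2.2.1]; decide +kernel)
    (Dce.ncl_top gen (kw := [6, 5, 2, 0, 7]) (LyA.pa.rels (ws := [_]) (by decide +kernel) _ List.mem_cons_self) (rs := [[1, 1, 33, 33]])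
      (rels_of_sub hr (by decide +kernel)) (ncl_of_simple (LyA.pa.ne_one 0 (by decide) (by decide +kernel))))

theorem rng' : ι.range = genW g [[0], [2], [4], [6]] :=
  rng.trans (le_antisymm (hi.genW_le hd (by decide +kernel)) (genW_mono _ (by decide)))

end Cfsg.Agent.Spor.LyG
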