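import Cfsg.Agent.Spor.Dce5
import Cfsg.Agent.Spor.J.Ly5
import Cfsg.Agent.Spor.J.Ly96
import Cfsg.Agent.Spor.J.Ly3125
import Cfsg.Agent.Spor.J.LyK

/-! G2(5) on 3906 points, for the Lyons group (generated certificate, helper23). -/

set_option Elab.async false
set_option maxRecDepth 100000
set_option exponentiation.threshold 100000

namespace Cfsg.Agent.Spor.LyK

open Equiv

/-- The model. -/
noncomputable abbrev G : Type := MG JLyK.nets 19

/-- The letters. -/
noncomputable abbrev g : ℕ → G := mg JLyK.nets 19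

theorem he : g 255 = 1 := mg_255 _ (by decide)

/-- The permutation representation of degree 3906. -/
noncomputable abbrev φ : G →* Perm ℕ := (MG JLyK.nets 19).subtype

theorem rep : PermRep g JLyK.nets 3906 19 φ := mrep JLyK.ok _

theorem inj : Function.Injective φ := Subtype.val_injective

theorem hg : ∀ r ∈ JLyK.rels, ev g r = 1 := rep.ev_eq_one inj (by decide +kernel) JLyK.hP

/-- The point stabiliser. -/
noncomputable abbrev H : Subgroup G := genW g JLyK.subs

theorem stab : IsStab φ H 0 :=
  rep.isStab (by decide +kernel) (by decide +kernel) (JLyK.mem he hg rep.hφ)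

theorem mapH : H.map φ = genW (PP JLyK.nets) JLyK.subs := rep.map_genW (by decide +kernel)


theorem trans : Trans φ 3906 0 :=
  rep.trans (by decide) ((orbSub_base _ _).run JLyK.ok (prog := [6, 8, 11, 0, 6, 4, 8, 15, 0, 13, 6, 11, 4, 8, 2, 17, 0]) (by decide +kernel))

theorem up (G : Type) [Group G] (g : ℕ → G) (_ : g 255 = 1) (hg : ∀ r ∈ JLyK.rels, ev g r = 1) :
    CardLe (genW g (sing (List.range 19))) 5859000000 :=
  have u0 : CardLe (genW g [[2], [3]]) 5 :=
    (cardLe_genW_nil g).job (JLy5.relIndex_le (renG_255 g (by decide)) (renG_rels (rels_of_sub hg (by decide +kernel))))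
      (by decide +kernel) rfl (by decide)
  have u1 : CardLe (genW g [[0], [1], [2], [3]]) 480 :=
    (u0).job (JLy96.relIndex_le (renG_255 g (by decide)) (renG_rels (rels_of_sub hg (by decide +kernel))))
      (by decide +kernel) rfl (by decide)
  have u2 : CardLe (genW g [[0], [1], [2], [3], [4], [5], [9], [10], [11], [12], [13], [14], [15], [16], [17], [18]]) 1500000 :=
    (u1).job (JLy3125.relIndex_le (renG_255 g (by decide)) (renG_rels (rels_of_sub hg (by decide +kernel))))
      (by decide +kernel) rfl (by decide)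
  have u3 : CardLe (genW g [[0], [1], [2], [3], [4], [5], [6], [7], [8], [9], [10], [11], [12], [13], [14], [15], [16], [17], [18]]) 5859000000 :=
    (u2).job (JLyK.relIndex_le (renG_255 g (by decide)) (renG_rels (rels_of_sub hg (by decide +kernel))))
      (by decide +kernel) rfl (by decide)
  u3

theorem lo2 : BaseGe (genW (PP JLyK.nets) [[18, 3, 17], [5, 0, 11]]) 480 [22] :=
  BaseGe.stepW (L := 12) (n := 480) JLyK.ok (genW_nil_base _) [] [0, 1, 0, 1, 0, 1, 0, 1, 0, 1, 0, 1, 0, 1, 0, 1, 0] (by decide +kernel)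

theorem lo1 : BaseGe (genW (PP JLyK.nets) [[0], [1], [2], [3], [4], [5], [9], [10], [11], [12], [13], [14], [15], [16], [17], [18]]) 1500000 [1, 22] :=
  BaseGe.stepW (L := 12) (n := 3125) JLyK.ok lo2 [[15, 3, 14], [5, 0, 8]] [4, 8, 10, 12, 14, 0, 4, 12, 0, 2, 10, 8, 0, 12, 2, 0] (by decide +kernel)

theorem lo0 : BaseGe (genW (PP JLyK.nets) (sing (List.range 19))) 5859000000 [0, 1, 22] :=
  BaseGe.stepW (L := 12) (n := 3906) JLyK.ok lo1 [[0], [1], [2], [3], [4], [5], [9], [10], [11], [12], [13], [14], [15], [16], [17], [18]] [6, 8, 11, 0, 6, 4, 8, 15, 0, 13, 6, 11, 4, 8, 2, 17, 0] (by decide +kernel)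

theorem lo : BaseGe (genL (PP JLyK.nets) (List.range 19)) 5859000000 [0, 1, 22] := by rw [← genW_sing]; exact lo0

theorem card : Nat.card G = 5859000000 := (rep.card_eq (up _ g he hg) lo.cardGe).1

theorem base : ∀ c : G, (∀ b ∈ [0, 1, 22], φ c b = b) → c = 1 := rep.base inj card (by decide) lo

theorem lifts : Known.Lifts g 19 JLyK.rels :=
  Known.lifts_of_cardLe rep.top hg (by decide +kernel) (by decide) card fun H _ h he hg => genW_sing h _ ▸ up H h he hg

def iv : List ℕ := [1, 0, 3, 2, 5, 4, 7, 6, 8, 10, 9, 12, 11, 14, 13, 16, 15, 18, 17]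

theorem invOk : InvOk g 19 iv := invOk_of_rels hg (by decide +kernel)

end Cfsg.Agent.Spor.LyK
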