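import Cfsg.Agent.Spor.Model
import Cfsg.Agent.Spor.Prim
import Cfsg.Agent.Spor.J.J1m0
import Cfsg.Agent.Spor.J.J1m1
import Cfsg.Agent.Spor.J.J1m2
import Cfsg.Agent.Spor.J.J1mC

/-! Model of J1 on 266 points (generated certificate, helper23). -/

set_option Elab.async false
set_option maxRecDepth 100000
set_option exponentiation.threshold 100000

namespace Cfsg.Agent.Spor.MdJ1

open Equiv

/-- The model. -/
noncomputable abbrev G : Type := MG JJ1m2.nets 4

/-- The letters. -/
noncomputable abbrev g : ℕ → G := mg JJ1m2.nets 4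

theorem he : g 255 = 1 := mg_255 _ (by decide)

/-- The permutation representation of degree 266. -/
noncomputable abbrev φ : G →* Perm ℕ := (MG JJ1m2.nets 4).subtype

theorem rep : PermRep g JJ1m2.nets 266 4 φ := mrep JJ1m2.ok _

theorem inj : Function.Injective φ := Subtype.val_injective

theorem hg : ∀ r ∈ JJ1m2.rels, ev g r = 1 := rep.ev_eq_one inj (by decide +kernel) JJ1m2.hP

/-- The point stabiliser. -/
noncomputable abbrev H : Subgroup G := genW g JJ1m2.subs

theorem stab : IsStab φ H 0 :=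
  rep.isStab (by decide +kernel) (by decide +kernel) (JJ1m2.mem he hg rep.hφ)

theorem mapH : H.map φ = genW (PP JJ1m2.nets) JJ1m2.subs := rep.map_genW (by decide +kernel)


theorem otr : OrbSub (genW (PP JJ1m2.nets) (sing (List.range 4))) 0 (ivl 0 266) :=
  (orbSub_base _ _).run JJ1m2.ok (prog := [3, 0, 2, 0, 3, 2, 0, 3, 2, 0, 3, 2, 0, 2, 0]) (by decide +kernel)

theorem trans : Trans φ 266 0 := rep.trans (by decide) otr

theorem index : H.index = 266 := rep.index_eq stab trans

noncomputable def A0 : ℕ := (nat_lit 0x3060f00000000000000018000000000000000000000001000000000000000000000)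

theorem o0 : OrbSub (genW (PP JJ1m2.nets) JJ1m2.subs) 84 A0 :=
  (orbSub_base _ _).run JJ1m2.ok (prog := [0, 0, 1, 0, 0, 0, 0]) (by decide +kernel)

theorem cl0 : chkClosed JJ1m2.nets JJ1m2.subs A0 = true := by decide +kernel

theorem pop0 : chkPop 9 A0 11 = true := by decide +kernel

theorem orb0 : IsOrb (H.map φ) (84, A0, 11) := by
  rw [mapH]; exact isOrb_of_chk JJ1m2.ok o0 (by decide +kernel) cl0 pop0

noncomputable def A1 : ℕ := (nat_lit 0x80200070000600000000000082030040000000000000)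

theorem o1 : OrbSub (genW (PP JJ1m2.nets) JJ1m2.subs) 54 A1 :=
  (orbSub_base _ _).run JJ1m2.ok (prog := [0, 0, 0, 1, 0, 0, 1, 0, 1]) (by decide +kernel)

theorem cl1 : chkClosed JJ1m2.nets JJ1m2.subs A1 = true := by decide +kernel

theorem pop1 : chkPop 9 A1 12 = true := by decide +kernel

theorem orb1 : IsOrb (H.map φ) (54, A1, 12) := by
  rw [mapH]; exact isOrb_of_chk JJ1m2.ok o1 (by decide +kernel) cl1 pop1

noncomputable def A2 : ℕ := (nat_lit 0x3980a82211a673ffe4843d2fd4000d841127f7bf08808f7c00e00ef803c31e2480)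

theorem o2 : OrbSub (genW (PP JJ1m2.nets) JJ1m2.subs) 7 A2 :=
  (orbSub_base _ _).run JJ1m2.ok (prog := [0, 1, 0, 0, 1, 0, 0, 1, 0, 1, 0, 0, 0, 0]) (by decide +kernel)

theorem cl2 : chkClosed JJ1m2.nets JJ1m2.subs A2 = true := by decide +kernel

theorem pop2 : chkPop 9 A2 110 = true := by decide +kernel

theorem orb2 : IsOrb (H.map φ) (7, A2, 110) := by
  rw [mapH]; exact isOrb_of_chk JJ1m2.ok o2 (by decide +kernel) cl2 pop2

noncomputable def A3 : ℕ := (nat_lit 0xc07057ddee598c001b7a42500bff827be8d80840f77f6001fc1fb107fc3ce1db7e)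

theorem o3 : OrbSub (genW (PP JJ1m2.nets) JJ1m2.subs) 1 A3 :=
  (orbSub_base _ _).run JJ1m2.ok (prog := [0, 1, 0, 0, 1, 0, 1, 0, 0, 1, 0, 0, 1, 0, 1, 0, 1]) (by decide +kernel)

theorem cl3 : chkClosed JJ1m2.nets JJ1m2.subs A3 = true := by decide +kernel

theorem pop3 : chkPop 9 A3 132 = true := by decide +kernel

theorem orb3 : IsOrb (H.map φ) (1, A3, 132) := by
  rw [mapH]; exact isOrb_of_chk JJ1m2.ok o3 (by decide +kernel) cl3 pop3

theorem ow0 : OrbSub (genW (PP JJ1m2.nets) ([3, 2, 3, 2, 3] :: JJ1m2.subs)) 0 (ivl 0 266) :=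
  (orbSub_base _ _).run JJ1m2.ok (prog := [0, 1, 1, 2, 1, 1, 0, 1, 2, 1, 1, 1, 2, 0, 1, 2, 1, 0]) (by decide +kernel)

theorem ow1 : OrbSub (genW (PP JJ1m2.nets) ([3, 1, 1, 2, 3] :: JJ1m2.subs)) 0 (ivl 0 266) :=
  (orbSub_base _ _).run JJ1m2.ok (prog := [0, 1, 1, 1, 2, 0, 1, 1, 2, 1, 2, 1, 1, 2, 0, 1, 1, 2, 1]) (by decide +kernel)

theorem ow2 : OrbSub (genW (PP JJ1m2.nets) ([3, 0, 3] :: JJ1m2.subs)) 0 (ivl 0 266) :=
  (orbSub_base _ _).run JJ1m2.ok (prog := [0, 1, 2, 1, 1, 2, 1, 1, 2, 1, 0, 2, 1, 2, 1, 1, 1]) (by decide +kernel)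

theorem ow3 : OrbSub (genW (PP JJ1m2.nets) ([3] :: JJ1m2.subs)) 0 (ivl 0 266) :=
  (orbSub_base _ _).run JJ1m2.ok (prog := [0, 1, 2, 0, 1, 2, 0, 1, 2, 1, 0, 1, 2, 1, 0]) (by decide +kernel)

theorem coatom : IsCoatom H :=
  rep.isCoatom_of_words stab trans (by decide) (orbs := [(84, A0, 11), (54, A1, 12), (7, A2, 110), (1, A3, 132)])
    (by simp only [List.forall_mem_cons, List.not_mem_nil, IsEmpty.forall_iff, implies_true, and_true]
        exact ⟨orb0, orb1, orb2, orb3⟩) (by decide +kernel)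
    (by simp only [List.forall_mem_cons, List.not_mem_nil, IsEmpty.forall_iff, implies_true, and_true]
        exact ⟨⟨[3, 2, 3, 2, 3], 84, by decide +kernel, by decide +kernel, show A0.testBit 84 = true by decide +kernel, ow0⟩,
          ⟨[3, 1, 1, 2, 3], 54, by decide +kernel, by decide +kernel, show A1.testBit 54 = true by decide +kernel, ow1⟩,
          ⟨[3, 0, 3], 7, by decide +kernel, by decide +kernel, show A2.testBit 7 = true by decide +kernel, ow2⟩,
          ⟨[3], 1, by decide +kernel, by decide +kernel, show A3.testBit 1 = true by decide +kernel, ow3⟩⟩)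

theorem up (G : Type) [Group G] (g : ℕ → G) (_ : g 255 = 1) (hg : ∀ r ∈ JJ1m2.rels, ev g r = 1) :
    CardLe (genW g (sing (List.range 4))) 175560 :=
  have u0 : CardLe (genW g [[0], [1]]) 5 :=
    (cardLe_genW_nil g).job (JJ1m0.relIndex_le (renG_255 g (by decide)) (renG_rels (rels_of_sub hg (by decide +kernel))))
      (by decide +kernel) rfl (by decide)
  have u1 : CardLe (genW g [[0], [1], [2]]) 660 :=
    (u0).job (JJ1m1.relIndex_le (renG_255 g (by decide)) (renG_rels (rels_of_sub hg (by decide +kernel))))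
      (by decide +kernel) rfl (by decide)
  have u2 : CardLe (genW g [[0], [1], [2], [3]]) 175560 :=
    (u1).job (JJ1m2.relIndex_le (renG_255 g (by decide)) (renG_rels (rels_of_sub hg (by decide +kernel))))
      (by decide +kernel) rfl (by decide)
  u2

noncomputable def x4 : Net :=
  Net.cons 1 (nat_lit 0x1115041545115515554140044511005404004405541041550145501014105001400) <|
  Net.cons 2 (nat_lit 0x301103303213032232121000322003200020023223310320333010231233002100) <|
  Net.cons 4 (nat_lit 0x8020f0900040301030b0f0c050106040d0e060b030b030b0f050500080d000102) <|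
  Net.cons 8 (nat_lit 0xe5005700480065007e002d00400079002900e4006d007d002800e200190004) <|
  Net.cons 16 (nat_lit 0xa4dd0000fab500003b0d0000214900008a5a0000e6020000531f0000001c) <|
  Net.cons 32 (nat_lit 0x4759c483000000005627b1600000000021c256e9000000000000009c) <|
  Net.cons 64 (nat_lit 0xb6c84099712718c7000000000000000000000000000000ba) <|
  Net.cons 128 (nat_lit 0xcd) <|
  Net.cons 256 (nat_lit 0xff) <|
  Net.cons 128 (nat_lit 0xf2ca439d5551c5dd0c253126ace6788f) <|
  Net.cons 64 (nat_lit 0xb7d130d9db05e23e00000000000000004a4e919131eaa778) <|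
  Net.cons 32 (nat_lit 0x44c3a99500000000f34e54e100000000baef3177000000009995ec88) <|
  Net.cons 16 (nat_lit 0xf0460000c7710000fb4f00004529000050b90000411600007a330000b08a) <|
  Net.cons 8 (nat_lit 0x300b5000900b0006d006b0023008c002c00be00610030000f004300a900a5000a) <|
  Net.cons 4 (nat_lit 0x30f040b0f000a04040900050e060309050a0f0c040e0c070c0a010d0308000a) <|
  Net.cons 2 (nat_lit 0x113111213330322212200023311101203231122113333002012021120103300120) <|
  Net.cons 1 (nat_lit 0x401540504544115155040540504401101445155414110541440411540441401150) <|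
  Net.nil

noncomputable def nets2 : List Net := JJ1m2.nets ++ [x4]

theorem ok2 : netsOk 266 nets2 = true := by decide +kernel

theorem lo2 : CardGe (genL (PP nets2) [4]) 5 :=
  CardGe.stepL (L := 9) (b := 2) (n := 5) (ys := []) (prog := [0, 0, 0, 0]) ok2 (cardGe_one _)
    (genL_mono _ (by decide)) (by decide +kernel) (by decide +kernel)

theorem lo1 : CardGe (genL (PP nets2) [0, 1, 2]) 660 :=
  CardGe.stepL (L := 9) (b := 1) (n := 132) (ys := [4]) (prog := [0, 2, 0, 0, 2, 0, 2, 0, 0, 2, 0, 0, 2, 0, 2, 0, 2]) ok2 (lo2)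
    (genL_le_of_defs (defs := [[2, 0, 2, 1, 1, 2]]) (by decide +kernel) rfl
      (ev_eq_of_chkEq (L := 9) ok2 (by decide) (by decide +kernel))) (by decide +kernel) (by decide +kernel)

theorem lo0 : CardGe (genL (PP nets2) (List.range 4)) 175560 :=
  CardGe.stepL (L := 9) (b := 0) (n := 266) (ys := [0, 1, 2]) (prog := [3, 0, 2, 0, 3, 2, 0, 3, 2, 0, 3, 2, 0, 2, 0]) ok2 (lo1)
    (genL_mono _ (by decide)) (by decide +kernel) (by decide +kernel)

theorem card : Nat.card G = 175560 := ((rep.append rfl ok2).card_eq (up _ g he hg) lo0).1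

theorem pw : ev g [3, 0, 2] ^ 19 = 1 := by
  rw [← ev_powW]
  exact rep.ev_eq_one inj (ws := [powW [3, 0, 2] 19]) (by decide +kernel)
    (ev_eq_one_of_chkId (L := 9) JJ1m2.ok (by decide) (by decide +kernel)) _ List.mem_cons_self

theorem cardH : Nat.card H = 660 := card_of_index index card (by decide) (by decide)

theorem ncl : Subgroup.normalClosure {ev g [3, 0, 2]} = ⊤ :=
  normalClosure_eq_top rep.top (genW_le_of_seeds (JJ1mC.seedsOk (quoG_255 he _)
    (rels_of_sub (quoG_rels hg _) (by decide +kernel)) (subs_basePt _ _)) (by decide +kernel))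

theorem simple : IsSimpleGroup G :=
  rep.isSimpleGroup stab trans inj coatom pw (by rw [cardH]; decide +kernel) ncl

theorem model : Model g 4 175560 JJ1m2.rels := ⟨simple, card, rep.top, he, hg, up⟩

end Cfsg.Agent.Spor.MdJ1
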