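import Cfsg.Agent.Spor.Model
import Cfsg.Agent.Spor.J.L370
import Cfsg.Agent.Spor.J.L371
import Cfsg.Agent.Spor.J.L372
import Cfsg.Agent.Spor.J.L37C

/-! Model of PSL(3,7) on 57 points (generated certificate, helper23). -/

set_option Elab.async false
set_option maxRecDepth 100000
set_option exponentiation.threshold 100000

namespace Cfsg.Agent.Spor.MdL37

open Equiv

/-- The model. -/
noncomputable abbrev G : Type := MG JL372.nets 11

/-- The letters. -/
noncomputable abbrev g : ℕ → G := mg JL372.nets 11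

theorem he : g 255 = 1 := mg_255 _ (by decide)

/-- The permutation representation of degree 57. -/
noncomputable abbrev φ : G →* Perm ℕ := (MG JL372.nets 11).subtype

theorem rep : PermRep g JL372.nets 57 11 φ := mrep JL372.ok _

theorem inj : Function.Injective φ := Subtype.val_injective

theorem hg : ∀ r ∈ JL372.rels, ev g r = 1 := rep.ev_eq_one inj (by decide +kernel) JL372.hP

/-- The point stabiliser. -/
noncomputable abbrev H : Subgroup G := genW g JL372.subs

theorem stab : IsStab φ H 0 :=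
  rep.isStab (by decide +kernel) (by decide +kernel) (JL372.mem he hg rep.hφ)

theorem mapH : H.map φ = genW (PP JL372.nets) JL372.subs := rep.map_genW (by decide +kernel)


theorem otr : OrbSub (genW (PP JL372.nets) (sing (List.range 11))) 0 (ivl 0 57) :=
  (orbSub_base _ _).run JL372.ok (prog := [10, 0, 2, 6, 4, 2, 8, 0, 8, 4]) (by decide +kernel)

theorem trans : Trans φ 57 0 := rep.trans (by decide) otr

theorem index : H.index = 57 := rep.index_eq stab trans

noncomputable def A0 : ℕ := (nat_lit 0x1fffffffffffffe)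

theorem o0 : OrbSub (genW (PP JL372.nets) JL372.subs) 1 A0 :=
  (orbSub_base _ _).run JL372.ok (prog := [0, 1, 3, 2, 1, 5, 0, 5, 2]) (by decide +kernel)

theorem cl0 : chkClosed JL372.nets JL372.subs A0 = true := by decide +kernel

theorem pop0 : chkPop 6 A0 56 = true := by decide +kernel

theorem orb0 : IsOrb (H.map φ) (1, A0, 56) := by
  rw [mapH]; exact isOrb_of_chk JL372.ok o0 (by decide +kernel) cl0 pop0

theorem coatom : IsCoatom H :=
  rep.isCoatom stab trans (by decide) (orbs := [(1, A0, 56)])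
    (by simp only [List.forall_mem_cons, List.not_mem_nil, IsEmpty.forall_iff, implies_true, and_true]
        exact orb0) (by decide +kernel) (ns := [56]) rfl (by decide +kernel)

theorem up (G : Type) [Group G] (g : ℕ → G) (_ : g 255 = 1) (hg : ∀ r ∈ JL372.rels, ev g r = 1) :
    CardLe (genW g (sing (List.range 11))) 1876896 :=
  have u0 : CardLe (genW g [[0], [1], [2], [3], [4], [5], [6], [7]]) 588 :=
    (cardLe_genW_nil g).job (JL370.relIndex_le (renG_255 g (by decide)) (renG_rels (rels_of_sub hg (by decide +kernel))))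
      (by decide +kernel) rfl (by decide)
  have u1 : CardLe (genW g [[0], [1], [2], [3], [4], [5], [6], [7], [8], [9]]) 32928 :=
    (u0).job (JL371.relIndex_le (renG_255 g (by decide)) (renG_rels (rels_of_sub hg (by decide +kernel))))
      (by decide +kernel) rfl (by decide)
  have u2 : CardLe (genW g [[0], [1], [2], [3], [4], [5], [6], [7], [8], [9], [10]]) 1876896 :=
    (u1).job (JL372.relIndex_le (renG_255 g (by decide)) (renG_rels (rels_of_sub hg (by decide +kernel))))
      (by decide +kernel) rfl (by decide)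
  u2

noncomputable def x11 : Net :=
  Net.cons 1 (nat_lit 0x55501144550100) <|
  Net.cons 2 (nat_lit 0x1210132102010) <|
  Net.cons 4 (nat_lit 0x70e0508090d01) <|
  Net.cons 8 (nat_lit 0x2c00aa0030) <|
  Net.cons 16 (nat_lit 0x8000005000) <|
  Net.cons 32 (nat_lit 0x1a15741) <|
  Net.cons 16 (nat_lit 0x3d00005af1) <|
  Net.cons 8 (nat_lit 0x41000600f1) <|
  Net.cons 4 (nat_lit 0x504000f090001) <|
  Net.cons 2 (nat_lit 0x2102020) <|
  Net.cons 1 (nat_lit 0x45055455445014) <|
  Net.nil

noncomputable def x12 : Net :=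
  Net.cons 1 (nat_lit 0x55141450001040) <|
  Net.cons 2 (nat_lit 0x23032302110200) <|
  Net.cons 4 (nat_lit 0x80105010e0100) <|
  Net.cons 8 (nat_lit 0xe500ad0002) <|
  Net.cons 16 (nat_lit 0x1340000b000) <|
  Net.cons 32 (nat_lit 0x13cf082) <|
  Net.cons 16 (nat_lit 0x1130000a178) <|
  Net.cons 8 (nat_lit 0x5900c5000e) <|
  Net.cons 4 (nat_lit 0x4080808090d04) <|
  Net.cons 2 (nat_lit 0x30310123312220) <|
  Net.cons 1 (nat_lit 0x40401444414014) <|
  Net.nil

noncomputable def x13 : Net :=
  Net.cons 1 (nat_lit 0x514111540444) <|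
  Net.cons 2 (nat_lit 0x22331120130300) <|
  Net.cons 4 (nat_lit 0x4090e0a070800) <|
  Net.cons 8 (nat_lit 0x1a00c60040) <|
  Net.cons 16 (nat_lit 0x1330000aa00) <|
  Net.cons 32 (nat_lit 0xdbfbe0) <|
  Net.cons 16 (nat_lit 0x5c00006d08) <|
  Net.cons 8 (nat_lit 0xeb00c7002c) <|
  Net.cons 4 (nat_lit 0x60c0a00000800) <|
  Net.cons 2 (nat_lit 0x20312003230320) <|
  Net.cons 1 (nat_lit 0x55145005415500) <|
  Net.nil

noncomputable def x14 : Net :=
  Net.cons 1 (nat_lit 0x55101051141014) <|
  Net.cons 2 (nat_lit 0x30221321121201) <|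
  Net.cons 4 (nat_lit 0x1080e01040401) <|
  Net.cons 8 (nat_lit 0x1006f0047005a) <|
  Net.cons 16 (nat_lit 0xb400008a00) <|
  Net.cons 32 (nat_lit 0x2dcb93) <|
  Net.cons 16 (nat_lit 0x4700004710) <|
  Net.cons 8 (nat_lit 0x1004f009e0043) <|
  Net.cons 4 (nat_lit 0x40404020b0000) <|
  Net.cons 2 (nat_lit 0x2302220323101) <|
  Net.cons 1 (nat_lit 0x55014004055550) <|
  Net.nil

noncomputable def nets2 : List Net := JL372.nets ++ [x11, x12, x13, x14]

theorem ok2 : netsOk 57 nets2 = true := by decide +kernel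

theorem lo3 : CardGe (genL (PP nets2) [13, 14]) 12 :=
  CardGe.stepL (L := 6) (b := 6) (n := 12) (ys := []) (prog := [0, 1, 0, 0, 0, 0]) ok2 (cardGe_one _)
    (genL_mono _ (by decide)) (by decide +kernel) (by decide +kernel)

theorem lo2 : CardGe (genL (PP nets2) [11, 12]) 588 :=
  CardGe.stepL (L := 6) (b := 4) (n := 49) (ys := [13, 14]) (prog := [0, 1, 0, 0, 1, 0, 1, 0, 1, 0]) ok2 (lo3)
    (genL_le_of_defs (defs := [[11, 12, 12, 12, 11, 11, 11, 12, 12, 11], [12, 11, 11, 11, 12, 11, 12, 11, 12]]) (by decide +kernel) rfl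
      (ev_eq_of_chkEq (L := 6) ok2 (by decide) (by decide +kernel))) (by decide +kernel) (by decide +kernel)

theorem lo1 : CardGe (genL (PP nets2) [0, 1, 2, 3, 4, 5, 6, 7, 8, 9]) 32928 :=
  CardGe.stepL (L := 6) (b := 1) (n := 56) (ys := [11, 12]) (prog := [0, 2, 6, 4, 2, 8, 0, 8, 4]) ok2 (lo2)
    (genL_le_of_defs (defs := [[1, 8, 2, 1, 5], [1, 7, 4]]) (by decide +kernel) rfl
      (ev_eq_of_chkEq (L := 6) ok2 (by decide) (by decide +kernel))) (by decide +kernel) (by decide +kernel)

theorem lo0 : CardGe (genL (PP nets2) (List.range 11)) 1876896 :=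
  CardGe.stepL (L := 6) (b := 0) (n := 57) (ys := [0, 1, 2, 3, 4, 5, 6, 7, 8, 9]) (prog := [10, 0, 2, 6, 4, 2, 8, 0, 8, 4]) ok2 (lo1)
    (genL_mono _ (by decide)) (by decide +kernel) (by decide +kernel)

theorem card : Nat.card G = 1876896 := ((rep.append rfl ok2).card_eq (up _ g he hg) lo0).1

theorem pw : ev g [5, 10, 6] ^ 19 = 1 := by
  rw [← ev_powW]
  exact rep.ev_eq_one inj (ws := [powW [5, 10, 6] 19]) (by decide +kernel)
    (ev_eq_one_of_chkId (L := 6) JL372.ok (by decide) (by decide +kernel)) _ List.mem_cons_self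

theorem cardH : Nat.card H = 32928 := card_of_index index card (by decide) (by decide)

theorem ncl : Subgroup.normalClosure {ev g [5, 10, 6]} = ⊤ :=
  normalClosure_eq_top rep.top (genW_le_of_seeds (JL37C.seedsOk (quoG_255 he _)
    (rels_of_sub (quoG_rels hg _) (by decide +kernel)) (subs_basePt _ _)) (by decide +kernel))

theorem simple : IsSimpleGroup G :=
  rep.isSimpleGroup stab trans inj coatom pw (by rw [cardH]; decide +kernel) ncl

theorem model : Model g 11 1876896 JL372.rels := ⟨simple, card, rep.top, he, hg, up⟩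

end Cfsg.Agent.Spor.MdL37
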