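import Cfsg.Agent.Spor.Model
import Cfsg.Agent.Spor.J.S440
import Cfsg.Agent.Spor.J.S441
import Cfsg.Agent.Spor.J.S442
import Cfsg.Agent.Spor.J.S44C

/-! Model of Sp4(4) on 85 points (generated certificate, helper23). -/

set_option Elab.async false
set_option maxRecDepth 100000
set_option exponentiation.threshold 100000

namespace Cfsg.Agent.Spor.MdS44

open Equiv

/-- The model. -/
noncomputable abbrev G : Type := MG JS442.nets 6

/-- The letters. -/
noncomputable abbrev g : ℕ → G := mg JS442.nets 6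

theorem he : g 255 = 1 := mg_255 _ (by decide)

/-- The permutation representation of degree 85. -/
noncomputable abbrev φ : G →* Perm ℕ := (MG JS442.nets 6).subtype

theorem rep : PermRep g JS442.nets 85 6 φ := mrep JS442.ok _

theorem inj : Function.Injective φ := Subtype.val_injective

theorem hg : ∀ r ∈ JS442.rels, ev g r = 1 := rep.ev_eq_one inj (by decide +kernel) JS442.hP

/-- The point stabiliser. -/
noncomputable abbrev H : Subgroup G := genW g JS442.subs

theorem stab : IsStab φ H 0 :=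
  rep.isStab (by decide +kernel) (by decide +kernel) (JS442.mem he hg rep.hφ)

theorem mapH : H.map φ = genW (PP JS442.nets) JS442.subs := rep.map_genW (by decide +kernel)


theorem otr : OrbSub (genW (PP JS442.nets) (sing (List.range 6))) 0 (ivl 0 85) :=
  (orbSub_base _ _).run JS442.ok (prog := [5, 0, 2, 0, 2, 5, 0, 2, 4, 2, 0, 2, 0]) (by decide +kernel)

theorem trans : Trans φ 85 0 := rep.trans (by decide) otr

theorem index : H.index = 85 := rep.index_eq stab trans

noncomputable def A0 : ℕ := (nat_lit 0x1f8e700030604000890000)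

theorem o0 : OrbSub (genW (PP JS442.nets) JS442.subs) 16 A0 :=
  (orbSub_base _ _).run JS442.ok (prog := [0, 0, 2, 0, 0, 1, 0, 0]) (by decide +kernel)

theorem cl0 : chkClosed JS442.nets JS442.subs A0 = true := by decide +kernel

theorem pop0 : chkPop 7 A0 20 = true := by decide +kernel

theorem orb0 : IsOrb (H.map φ) (16, A0, 20) := by
  rw [mapH]; exact isOrb_of_chk JS442.ok o0 (by decide +kernel) cl0 pop0

noncomputable def A1 : ℕ := (nat_lit 0x718fffcf9fbfff76fffe)

theorem o1 : OrbSub (genW (PP JS442.nets) JS442.subs) 1 A1 :=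
  (orbSub_base _ _).run JS442.ok (prog := [0, 1, 0, 1, 0, 2, 0, 1, 0, 2, 0]) (by decide +kernel)

theorem cl1 : chkClosed JS442.nets JS442.subs A1 = true := by decide +kernel

theorem pop1 : chkPop 7 A1 64 = true := by decide +kernel

theorem orb1 : IsOrb (H.map φ) (1, A1, 64) := by
  rw [mapH]; exact isOrb_of_chk JS442.ok o1 (by decide +kernel) cl1 pop1

theorem coatom : IsCoatom H :=
  rep.isCoatom stab trans (by decide) (orbs := [(16, A0, 20), (1, A1, 64)])
    (by simp only [List.forall_mem_cons, List.not_mem_nil, IsEmpty.forall_iff, implies_true, and_true]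
        exact ⟨orb0, orb1⟩) (by decide +kernel) (ns := [20, 64]) rfl (by decide +kernel)

theorem up (G : Type) [Group G] (g : ℕ → G) (_ : g 255 = 1) (hg : ∀ r ∈ JS442.rels, ev g r = 1) :
    CardLe (genW g (sing (List.range 6))) 979200 :=
  have u0 : CardLe (genW g [[0], [1], [2], [3]]) 180 :=
    (cardLe_genW_nil g).job (JS440.relIndex_le (renG_255 g (by decide)) (renG_rels (rels_of_sub hg (by decide +kernel))))
      (by decide +kernel) rfl (by decide)
  have u1 : CardLe (genW g [[0], [1], [2], [3], [4]]) 11520 :=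
    (u0).job (JS441.relIndex_le (renG_255 g (by decide)) (renG_rels (rels_of_sub hg (by decide +kernel))))
      (by decide +kernel) rfl (by decide)
  have u2 : CardLe (genW g [[0], [1], [2], [3], [4], [5]]) 979200 :=
    (u1).job (JS442.relIndex_le (renG_255 g (by decide)) (renG_rels (rels_of_sub hg (by decide +kernel))))
      (by decide +kernel) rfl (by decide)
  u2

noncomputable def x6 : Net :=
  Net.cons 1 (nat_lit 0x154454501400041000000) <|
  Net.cons 2 (nat_lit 0x213011231113031000000) <|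
  Net.cons 4 (nat_lit 0x107090e000200000100) <|
  Net.cons 8 (nat_lit 0x40082008d00010000) <|
  Net.cons 16 (nat_lit 0x80000120000005980) <|
  Net.cons 32 (nat_lit 0x40410) <|
  Net.cons 64 (nat_lit 0xc5dd0) <|
  Net.cons 32 (nat_lit 0x19b4072c) <|
  Net.cons 16 (nat_lit 0xa0000d2310000ddb0) <|
  Net.cons 8 (nat_lit 0x1c0082008d001b0000) <|
  Net.cons 4 (nat_lit 0x100070b0e000300050100) <|
  Net.cons 2 (nat_lit 0x213011231313031000000) <|
  Net.cons 1 (nat_lit 0x154454501400141100000) <|
  Net.nil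

noncomputable def x7 : Net :=
  Net.cons 1 (nat_lit 0x511550500005100115410) <|
  Net.cons 2 (nat_lit 0x103023210012302330020) <|
  Net.cons 4 (nat_lit 0xf0d0c0b070103060200) <|
  Net.cons 8 (nat_lit 0x530000000300800018) <|
  Net.cons 16 (nat_lit 0x90000684a00000020) <|
  Net.cons 32 (nat_lit 0x4826) <|
  Net.cons 64 (nat_lit 0xb5ca6) <|
  Net.cons 32 (nat_lit 0x2d4bd306) <|
  Net.cons 16 (nat_lit 0x11000078ea0000fc68) <|
  Net.cons 8 (nat_lit 0xd7000f009f000d0014) <|
  Net.cons 4 (nat_lit 0x1070d0e000b0e0b000604) <|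
  Net.cons 2 (nat_lit 0x323220212002121311010) <|
  Net.cons 1 (nat_lit 0x511505504450140110100) <|
  Net.nil

noncomputable def x8 : Net :=
  Net.cons 1 (nat_lit 0x510544115515150100400) <|
  Net.cons 2 (nat_lit 0x103300002201001000200) <|
  Net.cons 4 (nat_lit 0xd0e050b06000a000004) <|
  Net.cons 8 (nat_lit 0xb80080004500180004) <|
  Net.cons 16 (nat_lit 0x20000090000001c00) <|
  Net.cons 32 (nat_lit 0x20680) <|
  Net.cons 64 (nat_lit 0x21ea0) <|
  Net.cons 32 (nat_lit 0x1f530694) <|
  Net.cons 16 (nat_lit 0x160000e93000009c18) <|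
  Net.cons 8 (nat_lit 0xf900b0006500380014) <|
  Net.cons 4 (nat_lit 0xd0e0d0b06000e000004) <|
  Net.cons 2 (nat_lit 0x303300002211001000200) <|
  Net.cons 1 (nat_lit 0x510544115515150100400) <|
  Net.nil

noncomputable def x9 : Net :=
  Net.cons 1 (nat_lit 0x154044511400541111014) <|
  Net.cons 2 (nat_lit 0x230201120101200302000) <|
  Net.cons 4 (nat_lit 0x803060b080300000000) <|
  Net.cons 8 (nat_lit 0x1600c4006800540000) <|
  Net.cons 16 (nat_lit 0xa00006e2000001a00) <|
  Net.cons 32 (nat_lit 0x6708) <|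
  Net.cons 64 (nat_lit 0x27f08) <|
  Net.cons 32 (nat_lit 0x63884f28) <|
  Net.cons 16 (nat_lit 0xe00005e7100003a54) <|
  Net.cons 8 (nat_lit 0x9600d4007800540000) <|
  Net.cons 4 (nat_lit 0x10803060b08030e000804) <|
  Net.cons 2 (nat_lit 0x210301320103222302000) <|
  Net.cons 1 (nat_lit 0x154044511440541111014) <|
  Net.nil

noncomputable def nets2 : List Net := JS442.nets ++ [x6, x7, x8, x9]

theorem ok2 : netsOk 85 nets2 = true := by decide +kernel

theorem lo3 : CardGe (genL (PP nets2) [8, 9]) 4 :=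
  CardGe.stepL (L := 7) (b := 3) (n := 4) (ys := []) (prog := [0, 1]) ok2 (cardGe_one _)
    (genL_mono _ (by decide)) (by decide +kernel) (by decide +kernel)

theorem lo2 : CardGe (genL (PP nets2) [6, 7]) 180 :=
  CardGe.stepL (L := 7) (b := 2) (n := 45) (ys := [8, 9]) (prog := [0, 1, 0, 1, 0, 1, 0, 1, 0, 1, 1, 0, 1, 0]) ok2 (lo3)
    (genL_le_of_defs (defs := [[7, 6, 7, 6, 7, 7, 6, 7, 6, 7, 6, 7, 7, 6, 7, 7, 6, 7, 7, 6], [7, 6, 7, 7, 6, 7, 7, 6, 7, 6, 7, 6, 7, 6, 7, 7, 6, 7, 7, 6]]) (by decide +kernel) rfl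
      (ev_eq_of_chkEq (L := 7) ok2 (by decide) (by decide +kernel))) (by decide +kernel) (by decide +kernel)

theorem lo1 : CardGe (genL (PP nets2) [0, 1, 2, 3, 4]) 11520 :=
  CardGe.stepL (L := 7) (b := 1) (n := 64) (ys := [6, 7]) (prog := [0, 2, 0, 2, 0, 4, 0, 2, 0, 4, 0]) ok2 (lo2)
    (genL_le_of_defs (defs := [[2, 0, 3, 1, 3, 1, 2, 1], [1, 3, 1, 1, 4, 3, 0, 0]]) (by decide +kernel) rfl
      (ev_eq_of_chkEq (L := 7) ok2 (by decide) (by decide +kernel))) (by decide +kernel) (by decide +kernel)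

theorem lo0 : CardGe (genL (PP nets2) (List.range 6)) 979200 :=
  CardGe.stepL (L := 7) (b := 0) (n := 85) (ys := [0, 1, 2, 3, 4]) (prog := [5, 0, 2, 0, 2, 5, 0, 2, 4, 2, 0, 2, 0]) ok2 (lo1)
    (genL_mono _ (by decide)) (by decide +kernel) (by decide +kernel)

theorem card : Nat.card G = 979200 := ((rep.append rfl ok2).card_eq (up _ g he hg) lo0).1

theorem pw : ev g [1, 5, 2] ^ 17 = 1 := by
  rw [← ev_powW]
  exact rep.ev_eq_one inj (ws := [powW [1, 5, 2] 17]) (by decide +kernel)
    (ev_eq_one_of_chkId (L := 7) JS442.ok (by decide) (by decide +kernel)) _ List.mem_cons_self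

theorem cardH : Nat.card H = 11520 := card_of_index index card (by decide) (by decide)

theorem ncl : Subgroup.normalClosure {ev g [1, 5, 2]} = ⊤ :=
  normalClosure_eq_top rep.top (genW_le_of_seeds (JS44C.seedsOk (quoG_255 he _)
    (rels_of_sub (quoG_rels hg _) (by decide +kernel)) (subs_basePt _ _)) (by decide +kernel))

theorem simple : IsSimpleGroup G :=
  rep.isSimpleGroup stab trans inj coatom pw (by rw [cardH]; decide +kernel) ncl

theorem model : Model g 6 979200 JS442.rels := ⟨simple, card, rep.top, he, hg, up⟩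

end Cfsg.Agent.Spor.MdS44
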