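import Cfsg.Agent.Spor.ONRep
import Cfsg.Agent.Spor.J.ON672
import Cfsg.Agent.Spor.J.ON5586
import Cfsg.Agent.Spor.J.ONa
import Cfsg.Agent.Spor.J.ONC

/-! Order and simplicity of the presented O'Nan group (generated certificate, helper23). -/

set_option Elab.async false
set_option maxRecDepth 100000
set_option exponentiation.threshold 100000

namespace Cfsg.Agent.Spor.ONM

open Equiv

theorem up0 : CardLe (genW g [[2], [4], [5], [6], [7]]) 672 :=
  (cardLe_genW_nil g).job (JON672.relIndex_le (renG_255 g (by decide)) (renG_rels (lt.rels_of_relsG (by decide +kernel))))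
    (by decide +kernel) rfl (by decide)

theorem up1 : CardLe (genW g [[2], [3], [4], [5], [6], [7]]) 3753792 :=
  (up0).job (JON5586.relIndex_le (renG_255 g (by decide)) (renG_rels (lt.rels_of_relsG (by decide +kernel))))
    (by decide +kernel) rfl (by decide)

theorem up2 : CardLe (genW g [[0], [1], [2], [3], [4], [5], [6], [7]]) 460815505920 :=
  (up1).job (JONa.relIndex_le (renG_255 g (by decide)) (renG_rels (lt.rels_of_relsG (by decide +kernel))))
    (by decide +kernel) rfl (by decide)

noncomputable def nets2 : List Net := JONa.nets ++ []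

theorem ok2 : netsOk 122760 nets2 = true := by decide +kernel

theorem lo2 : CardGe (genL (PP nets2) [2, 4, 5, 6, 7]) 672 :=
  CardGe.stepL (L := 17) (b := 168) (n := 672) (ys := []) (prog := [0, 1, 2, 3, 4, 1, 2, 3, 1, 2, 1, 2, 3, 4, 3]) ok2 (cardGe_one _)
    (genL_mono _ (by decide)) (by decide +kernel) (by decide +kernel)

theorem lo1 : CardGe (genL (PP nets2) [2, 3, 4, 5, 6, 7]) 3753792 :=
  CardGe.stepL (L := 17) (b := 122753) (n := 5586) (ys := [2, 4, 5, 6, 7]) (prog := [1, 0, 2, 3, 1, 2, 4, 1, 5, 3, 0, 2, 4, 1, 3, 0, 4, 5, 2, 3, 1, 4, 2, 0, 1, 3, 5, 0, 2, 4, 3, 1, 4, 2, 5, 3, 2, 4, 1, 3, 2, 3, 4]) ok2 (lo2)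
    (genL_mono _ (by decide)) (by decide +kernel) (by decide +kernel)

theorem lo0 : CardGe (genL (PP nets2) (List.range 8)) 460815505920 :=
  CardGe.stepL (L := 17) (b := 122752) (n := 122760) (ys := [2, 3, 4, 5, 6, 7]) (prog := [0, 3, 4, 5, 6, 0, 3, 5, 4, 7, 2, 3, 5, 6, 0, 4, 5, 0, 3, 6, 4, 0, 5, 3, 2, 0, 6, 4, 3, 5]) ok2 (lo1)
    (genL_mono _ (by decide)) (by decide +kernel) (by decide +kernel)

theorem card_inj : Nat.card Cfsg.Spor.ON = 460815505920 ∧ Function.Injective φ :=
  (rep.append rfl ok2).card_eq up2 lo0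

theorem card : Nat.card Cfsg.Spor.ON = 460815505920 := card_inj.1

theorem inj : Function.Injective φ := card_inj.2

theorem pw : ev g [3, 4, 5, 0] ^ 5 = 1 := by
  rw [← ev_powW]
  exact rep.ev_eq_one inj (ws := [powW [3, 4, 5, 0] 5]) (by decide +kernel)
    (ev_eq_one_of_chkId (L := 17) JONa.ok (by decide) (by decide +kernel)) _ List.mem_cons_self

theorem cardH : Nat.card H = 3753792 := card_of_index index card (by decide) (by decide)

theorem ncl : Subgroup.normalClosure {ev g [3, 4, 5, 0]} = ⊤ :=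
  normalClosure_eq_top rep.top (genW_le_of_seeds (JONC.seedsOk (quoG_255 he _)
    (rels_of_sub (quoG_rels hg _) (by decide +kernel)) (subs_basePt _ _)) (by decide +kernel))

theorem simple : IsSimpleGroup Cfsg.Spor.ON :=
  rep.isSimpleGroup stab trans inj coatom pw (by rw [cardH]; decide +kernel) ncl

end Cfsg.Agent.Spor.ONM
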