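import Cfsg.Agent.Spor.J.Suz1
import Cfsg.Prelude.Def_Spor_Suz

/-! The presented Suzuki group on 1782 points (generated certificate, helper23). -/

set_option maxRecDepth 100000
set_option exponentiation.threshold 100000

namespace Cfsg.Agent.Spor.SuzM

open Equiv

def lts : List (Cfsg.Spor.Suz.Gen × Bool) := [(.a, true), (.b, true), (.c, true), (.d, true), (.e, true), (.f, true), (.g, true)]

theorem lt : LtOk Cfsg.Spor.Suz.edges Cfsg.Spor.Suz.extra lts :=
  ⟨by intro a; cases a <;> decide, by decide +kernel, by decide⟩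

/-- The letters: inverses of the generators. -/
noncomputable abbrev g : ℕ → Cfsg.Spor.Suz := letG (RS Cfsg.Spor.Suz.edges Cfsg.Spor.Suz.extra) lts

theorem he : g 255 = 1 := letG_of_le _ (by decide)

theorem hg : ∀ r ∈ JSuz1.rels, ev g r = 1 := lt.rels_of_relsG (by decide +kernel)

theorem rp : relsP Cfsg.Spor.Suz.edges Cfsg.Spor.Suz.extra lts JSuz1.rels = true := by decide +kernel

/-- The permutation representation of degree 1782. -/
noncomputable def φ : Cfsg.Spor.Suz →* Perm ℕ := lt.toHom rp JSuz1.hP

theorem rep : PermRep g JSuz1.nets 1782 7 φ := ⟨JSuz1.ok, fun _ hx => lt.toHom_letG rp _ hx, lt.genL_top⟩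

/-- The point stabiliser. -/
noncomputable abbrev H : Subgroup Cfsg.Spor.Suz := genW g JSuz1.subs

theorem stab : IsStab φ H 1776 :=
  rep.isStab (by decide +kernel) (by decide +kernel) (JSuz1.mem he hg rep.hφ)

theorem mapH : H.map φ = genW (PP JSuz1.nets) JSuz1.subs := rep.map_genW (by decide +kernel)

theorem otr : OrbSub (genW (PP JSuz1.nets) (sing (List.range 7))) 1776 (ivl 0 1782) :=
  (orbSub_base _ _).run JSuz1.ok (prog := [6, 1, 0, 2, 5, 3, 2, 4, 1, 0, 5, 2, 3, 2, 1, 0, 2, 5, 6, 3, 4, 2, 1, 0, 2, 1, 2, 5]) (by decide +kernel)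

theorem trans : Trans φ 1782 1776 := rep.trans (by decide) otr

theorem index : H.index = 1782 := rep.index_eq stab trans

noncomputable def A0 : ℕ := (nat_lit 0xff0f0f00fffff0ffffffffff0f00000000ffff000000ff00ff0000000000000000ffff00ff00ffff0000ff0000000000000000000000000000000000000000000000000000000000ffff0000ffff0000000000000000000000000000ffff0000000000000000000000000000ffff000000000000000000000000000000000000000000000000ffffffff0000ffff00000000ffff0000ffff000000000000ffff0000000000000000ffff0000000000000000000000000000ffff0000ffff0000000000000000ffffffff0000000000000000ffff00000000000000000000)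

theorem o0 : OrbSub (genW (PP JSuz1.nets) JSuz1.subs) 80 A0 :=
  (orbSub_base _ _).run JSuz1.ok (prog := [0, 2, 4, 5, 3, 4, 2, 1, 0, 2, 5, 3, 4, 2, 1, 5]) (by decide +kernel)

theorem cl0 : chkClosed JSuz1.nets JSuz1.subs A0 = true := by decide +kernel

theorem pop0 : chkPop 11 A0 416 = true := by decide +kernel

theorem orb0 : IsOrb (H.map φ) (80, A0, 416) := by
  rw [mapH]; exact isOrb_of_chk JSuz1.ok o0 (by decide +kernel) cl0 pop0

noncomputable def A1 : ℕ := (nat_lit 0x3e00f0f0ff00000f0000000000f0ffffffff0000ffffff00ff00ffffffffffffffff0000ff00ff0000ffff00ffffffffffffffffffffffffffffffffffffffffffffffffffffffffff0000ffff0000ffffffffffffffffffffffffffff0000ffffffffffffffffffffffffffff0000ffffffffffffffffffffffffffffffffffffffffffffffff00000000ffff0000ffffffff0000ffff0000ffffffffffff0000ffffffffffffffff0000ffffffffffffffffffffffffffff0000ffff0000ffffffffffffffff00000000ffffffffffffffff0000ffffffffffffffffffff)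

theorem o1 : OrbSub (genW (PP JSuz1.nets) JSuz1.subs) 0 A1 :=
  (orbSub_base _ _).run JSuz1.ok (prog := [0, 2, 4, 5, 1, 0, 5, 2, 3, 2, 1, 0, 2, 5, 3, 2, 4, 1, 0, 2, 5, 1]) (by decide +kernel)

theorem cl1 : chkClosed JSuz1.nets JSuz1.subs A1 = true := by decide +kernel

theorem pop1 : chkPop 11 A1 1365 = true := by decide +kernel

theorem orb1 : IsOrb (H.map φ) (0, A1, 1365) := by
  rw [mapH]; exact isOrb_of_chk JSuz1.ok o1 (by decide +kernel) cl1 pop1

theorem coatom : IsCoatom H :=
  rep.isCoatom stab trans (by decide) (orbs := [(80, A0, 416), (0, A1, 1365)])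
    (by simp only [List.forall_mem_cons, List.not_mem_nil, IsEmpty.forall_iff, implies_true, and_true]
        exact ⟨orb0, orb1⟩) (by decide +kernel) (ns := [416, 1365]) rfl (by decide +kernel)

end Cfsg.Agent.Spor.SuzM
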