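import Cfsg.Agent.Spor.ThO

/-! The alphabet of the double coset enumeration for the Thompson group (helper23). -/

set_option Elab.async false
set_option maxRecDepth 100000
set_option exponentiation.threshold 100000

namespace Cfsg.Agent.Spor.ThA

open Equiv

def renK : List (List ℕ) := (sing (List.range 9) ++ ThO.defs) ++ [[0, 3, 2, 6, 6, 4, 3, 2, 6, 4, 3, 2, 6, 4, 3, 2, 6, 6, 4, 3, 5, 4], [2, 3, 5, 4, 3, 2, 5, 5, 4, 3, 2, 5, 4, 3, 2, 6, 4, 3, 5, 4, 6], [2, 4, 3, 2, 3, 5, 4, 3, 6, 4, 3, 2, 3, 2, 4, 3, 6, 4, 6, 4], [0, 6, 4, 3, 2, 3, 6, 4, 3, 2, 3, 5, 4, 3, 2, 3, 5, 5, 4, 6, 1, 0, 2, 1, 3, 2, 3]]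

noncomputable def y : ℕ → ThK.G := renG ThK.g renK

noncomputable def act : ℕ → ℕ → ℕ := tabR JThK.nets 819 10 ThK.iv renK

theorem pa : PtAct ThK.φ 819 [0, 1, 50, 26] y act :=
  ptAct_ren ThK.rep ThK.invOk (by decide +kernel) (by decide) (by decide) ThK.base (by decide)

end Cfsg.Agent.Spor.ThA
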