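import Cfsg.Agent.Spor.ThG
import Cfsg.Agent.Spor.Cent2
import Cfsg.Agent.Spor.ThCM0

/-! The centraliser of an involution in the Thompson group (generated certificate, helper23). -/

set_option Elab.async false
set_option maxRecDepth 100000
set_option exponentiation.threshold 100000

namespace Cfsg.Agent.Spor.ThC

open Equiv

noncomputable def m2As : List ℕ := [ThM.a0, ThM.a1, ThM.a2, ThM.a3, ThM.a4, ThM.a5, ThM.a6, ThM.a7, ThM.a8, ThM.a9, ThM.a10, ThM.a2, m1a12, m1a13, m1a14, m1a15, m1a16, m1a17, m1a18, m1a19, m1a20, m2a21, m2a22, m2a23, m2a24, m2a25, m2a26, m2a27]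

theorem m2ok : allL m2As (ThM.D.okV 3) = true := by decide +kernel

def m2E : List Ex := [(.lt 0),
  (.lt 1),
  (.lt 2),
  (.lt 3),
  (.lt 4),
  (.lt 5),
  (.lt 6),
  (.lt 7),
  (.lt 8),
  (.lt 9),
  (.lt 10),
  (.lt 11),
  (.lt 12),
  (.lt 13),
  (.lt 14),
  (.lt 15),
  (.lt 16),
  (.lt 17),
  (.lt 18),
  (.lt 19),
  (.lt 20),
  (.mul (.mul (.lt 3) (.mul (.lt 6) (.lt 8))) (.mul (.mul (.lt 9) (.lt 3)) (.mul (.lt 9) (.lt 6)))),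
  (.mul (.mul (.mul (.lt 3) (.lt 5)) (.mul (.lt 5) (.lt 9))) (.mul (.mul (.lt 3) (.lt 9)) (.mul (.lt 5) (.lt 7)))),
  (.sq (.mul (.mul (.lt 3) (.lt 5)) (.mul (.lt 8) (.lt 9)))),
  (.sq (.mul (.mul (.lt 5) (.lt 9)) (.mul (.lt 3) (.lt 5)))),
  (.sq (.mul (.mul (.lt 9) (.lt 3)) (.mul (.lt 5) (.lt 5)))),
  (.mul (.mul (.lt 8) (.sq (.mul (.lt 5) (.mul (.lt 9) (.lt 3))))) (.mul (.lt 6) (.lt 4))),
  (.mul (.mul (.mul (.lt 8) (.lt 5)) (.mul (.lt 9) (.lt 3))) (.mul (.mul (.lt 9) (.lt 6)) (.mul (.lt 4) (.mul (.lt 3) (.lt 9)))))]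

end Cfsg.Agent.Spor.ThC
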