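import Cfsg.Agent.Spor.ThG
import Cfsg.Agent.Spor.Cent2
import Cfsg.Agent.Spor.ThCM1
import Cfsg.Agent.Spor.ThCM0

/-! The centraliser of an involution in the Thompson group (generated certificate, helper23). -/

set_option Elab.async false
set_option maxRecDepth 100000
set_option exponentiation.threshold 100000

namespace Cfsg.Agent.Spor.ThC

open Equiv

theorem m2c6 : Nat.beq (ThM.D.evE m1As (getL m2E (.lt 0) 6)) (getL m2As 0 6) = true := by decide +kernel

theorem m2c7 : Nat.beq (ThM.D.evE m1As (getL m2E (.lt 0) 7)) (getL m2As 0 7) = true := by decide +kernel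

theorem m2c8 : Nat.beq (ThM.D.evE m1As (getL m2E (.lt 0) 8)) (getL m2As 0 8) = true := by decide +kernel

theorem m2c9 : Nat.beq (ThM.D.evE m1As (getL m2E (.lt 0) 9)) (getL m2As 0 9) = true := by decide +kernel

theorem m2c10 : Nat.beq (ThM.D.evE m1As (getL m2E (.lt 0) 10)) (getL m2As 0 10) = true := by decide +kernel

theorem m2c11 : Nat.beq (ThM.D.evE m1As (getL m2E (.lt 0) 11)) (getL m2As 0 11) = true := by decide +kernel

theorem m2c12 : Nat.beq (ThM.D.evE m1As (getL m2E (.lt 0) 12)) (getL m2As 0 12) = true := by decide +kernel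

theorem m2c13 : Nat.beq (ThM.D.evE m1As (getL m2E (.lt 0) 13)) (getL m2As 0 13) = true := by decide +kernel

theorem m2c14 : Nat.beq (ThM.D.evE m1As (getL m2E (.lt 0) 14)) (getL m2As 0 14) = true := by decide +kernel

theorem m2c15 : Nat.beq (ThM.D.evE m1As (getL m2E (.lt 0) 15)) (getL m2As 0 15) = true := by decide +kernel

theorem m2c16 : Nat.beq (ThM.D.evE m1As (getL m2E (.lt 0) 16)) (getL m2As 0 16) = true := by decide +kernel

theorem m2c17 : Nat.beq (ThM.D.evE m1As (getL m2E (.lt 0) 17)) (getL m2As 0 17) = true := by decide +kernel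

theorem m2c18 : Nat.beq (ThM.D.evE m1As (getL m2E (.lt 0) 18)) (getL m2As 0 18) = true := by decide +kernel

theorem m2c19 : Nat.beq (ThM.D.evE m1As (getL m2E (.lt 0) 19)) (getL m2As 0 19) = true := by decide +kernel

theorem m2c20 : Nat.beq (ThM.D.evE m1As (getL m2E (.lt 0) 20)) (getL m2As 0 20) = true := by decide +kernel

theorem m2c21 : Nat.beq (ThM.D.evE m1As (getL m2E (.lt 0) 21)) (getL m2As 0 21) = true := by decide +kernel

theorem m2c22 : Nat.beq (ThM.D.evE m1As (getL m2E (.lt 0) 22)) (getL m2As 0 22) = true := by decide +kernel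

theorem m2c23 : Nat.beq (ThM.D.evE m1As (getL m2E (.lt 0) 23)) (getL m2As 0 23) = true := by decide +kernel

theorem m2c24 : Nat.beq (ThM.D.evE m1As (getL m2E (.lt 0) 24)) (getL m2As 0 24) = true := by decide +kernel

theorem m2c25 : Nat.beq (ThM.D.evE m1As (getL m2E (.lt 0) 25)) (getL m2As 0 25) = true := by decide +kernel

theorem m2c26 : Nat.beq (ThM.D.evE m1As (getL m2E (.lt 0) 26)) (getL m2As 0 26) = true := by decide +kernel

theorem m2c27 : Nat.beq (ThM.D.evE m1As (getL m2E (.lt 0) 27)) (getL m2As 0 27) = true := by decide +kernel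

end Cfsg.Agent.Spor.ThC
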