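import Cfsg.Agent.Spor.ThG
import Cfsg.Agent.Spor.Cent2
import Cfsg.Agent.Spor.ThCM1

/-! The centraliser of an involution in the Thompson group (generated certificate, helper23). -/

set_option Elab.async false
set_option maxRecDepth 100000
set_option exponentiation.threshold 100000

namespace Cfsg.Agent.Spor.ThC

open Equiv

def eM0 : List (Ex × List Ex) := [((.mul (.lt 9) (.lt 0)), [(.mul (.lt 0) (.lt 9))]),
  ((.mul (.lt 10) (.lt 0)), [(.mul (.lt 0) (.lt 10))]),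
  ((.mul (.lt 11) (.lt 9)), [(.mul (.lt 9) (.lt 11))]),
  ((.mul (.lt 12) (.lt 9)), [(.mul (.mul (.lt 9) (.lt 12)) (.mul (.lt 14) (.mul (.lt 13) (.lt 18))))]),
  ((.mul (.lt 13) (.lt 9)), [(.mul (.mul (.lt 9) (.lt 0)) (.mul (.lt 11) (.lt 13)))]),
  ((.mul (.lt 14) (.lt 9)), [(.mul (.mul (.lt 9) (.lt 11)) (.mul (.lt 14) (.mul (.lt 16) (.lt 15))))])]

theorem heM0 : allL eM0 (fun e => Nat.beq (ThM.D.evE m2As e.1) (Ct.evO ThM.D m2As e.2)) = true := by decide +kernel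

def eM1 : List (Ex × List Ex) := [((.mul (.lt 15) (.lt 9)), [(.mul (.mul (.lt 9) (.lt 13)) (.mul (.lt 15) (.mul (.lt 18) (.lt 17))))]),
  ((.mul (.lt 16) (.lt 9)), [(.mul (.mul (.lt 9) (.lt 13)) (.mul (.lt 16) (.mul (.lt 18) (.lt 17))))]),
  ((.mul (.lt 17) (.lt 9)), [(.mul (.mul (.lt 9) (.lt 11)) (.mul (.lt 15) (.mul (.lt 16) (.lt 17))))]),
  ((.mul (.lt 18) (.lt 9)), [(.mul (.mul (.lt 9) (.lt 16)) (.mul (.lt 15) (.lt 18)))]),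
  ((.mul (.lt 0) (.lt 9)), [(.mul (.lt 9) (.lt 0))])]

theorem heM1 : allL eM1 (fun e => Nat.beq (ThM.D.evE m2As e.1) (Ct.evO ThM.D m2As e.2)) = true := by decide +kernel

def eM2 : List (Ex × List Ex) := [((.lt 3), [(.mul (.mul (.mul (.mul (.lt 21) (.lt 21)) (.mul (.lt 22) (.lt 24))) (.mul (.mul (.lt 25) (.lt 26)) (.mul (.lt 22) (.lt 27)))) (.mul (.mul (.mul (.lt 23) (.lt 26)) (.mul (.lt 21) (.lt 12))) (.mul (.mul (.lt 13) (.lt 14)) (.mul (.lt 15) (.lt 17)))))])]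

theorem heM2 : allL eM2 (fun e => Nat.beq (ThM.D.evE m2As e.1) (Ct.evO ThM.D m2As e.2)) = true := by decide +kernel

def eM3 : List (Ex × List Ex) := [((.lt 4), [(.mul (.mul (.mul (.lt 21) (.mul (.lt 22) (.lt 24))) (.mul (.lt 23) (.mul (.lt 25) (.lt 22)))) (.mul (.mul (.lt 24) (.mul (.lt 26) (.lt 11))) (.mul (.mul (.lt 13) (.lt 16)) (.mul (.lt 18) (.lt 17)))))]),
  ((.lt 5), [(.mul (.mul (.lt 25) (.mul (.lt 23) (.lt 21))) (.mul (.mul (.lt 22) (.lt 23)) (.mul (.lt 24) (.lt 17))))])]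

theorem heM3 : allL eM3 (fun e => Nat.beq (ThM.D.evE m2As e.1) (Ct.evO ThM.D m2As e.2)) = true := by decide +kernel

def eM4 : List (Ex × List Ex) := [((.lt 7), [(.mul (.mul (.mul (.lt 21) (.lt 21)) (.mul (.lt 24) (.mul (.lt 25) (.lt 22)))) (.mul (.mul (.lt 23) (.mul (.lt 21) (.lt 12))) (.mul (.lt 13) (.mul (.lt 15) (.lt 18)))))]),
  ((.lt 9), [(.mul (.mul (.mul (.lt 21) (.lt 21)) (.mul (.lt 24) (.mul (.lt 25) (.lt 21)))) (.mul (.mul (.lt 11) (.lt 13)) (.mul (.lt 14) (.mul (.lt 18) (.lt 17)))))]),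
  ((.mul (.sq (.lt 21)) (.lt 21)), [])]

theorem heM4 : allL eM4 (fun e => Nat.beq (ThM.D.evE m2As e.1) (Ct.evO ThM.D m2As e.2)) = true := by decide +kernel

def eM5 : List (Ex × List Ex) := [((.mul (.sq (.lt 22)) (.lt 22)), []),
  ((.sq (.mul (.lt 22) (.lt 21))), [(.mul (.mul (.lt 14) (.lt 16)) (.mul (.lt 15) (.lt 17)))]),
  ((.mul (.sq (.lt 23)) (.lt 23)), [(.lt 0)]),
  ((.sq (.mul (.lt 23) (.lt 21))), [(.mul (.lt 0) (.mul (.lt 14) (.lt 18)))]),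
  ((.sq (.mul (.lt 23) (.lt 22))), [(.mul (.mul (.lt 12) (.lt 15)) (.mul (.lt 18) (.lt 17)))]),
  ((.mul (.sq (.lt 24)) (.lt 24)), [(.lt 0)])]

theorem heM5 : allL eM5 (fun e => Nat.beq (ThM.D.evE m2As e.1) (Ct.evO ThM.D m2As e.2)) = true := by decide +kernel

def eM6 : List (Ex × List Ex) := [((.sq (.mul (.lt 24) (.lt 21))), [(.mul (.mul (.lt 12) (.lt 13)) (.mul (.lt 15) (.mul (.lt 16) (.lt 18))))]),
  ((.sq (.mul (.lt 24) (.lt 22))), [(.mul (.mul (.lt 11) (.lt 12)) (.mul (.lt 14) (.lt 13)))]),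
  ((.sq (.mul (.lt 24) (.lt 23))), [(.mul (.lt 11) (.mul (.lt 15) (.lt 18)))]),
  ((.mul (.sq (.lt 25)) (.lt 25)), [(.lt 0)]),
  ((.sq (.mul (.lt 25) (.lt 21))), [(.mul (.mul (.lt 0) (.lt 12)) (.mul (.lt 13) (.lt 15)))])]

theorem heM6 : allL eM6 (fun e => Nat.beq (ThM.D.evE m2As e.1) (Ct.evO ThM.D m2As e.2)) = true := by decide +kernel

def eM7 : List (Ex × List Ex) := [((.sq (.mul (.lt 25) (.lt 22))), [(.mul (.mul (.lt 11) (.lt 13)) (.mul (.lt 14) (.lt 15)))]),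
  ((.sq (.mul (.lt 25) (.lt 23))), [(.mul (.mul (.lt 0) (.lt 12)) (.mul (.lt 14) (.lt 17)))]),
  ((.sq (.mul (.lt 25) (.lt 24))), [(.mul (.lt 11) (.mul (.lt 13) (.lt 17)))]),
  ((.mul (.sq (.lt 26)) (.lt 26)), [(.lt 0)]),
  ((.sq (.mul (.lt 26) (.lt 21))), [(.mul (.mul (.lt 0) (.lt 14)) (.mul (.lt 16) (.lt 17)))])]

theorem heM7 : allL eM7 (fun e => Nat.beq (ThM.D.evE m2As e.1) (Ct.evO ThM.D m2As e.2)) = true := by decide +kernel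

def eM8 : List (Ex × List Ex) := [((.sq (.mul (.lt 26) (.lt 22))), [(.mul (.mul (.lt 12) (.lt 13)) (.mul (.lt 17) (.lt 18)))]),
  ((.sq (.mul (.lt 26) (.lt 23))), [(.mul (.mul (.lt 0) (.lt 12)) (.mul (.lt 13) (.lt 18)))]),
  ((.sq (.mul (.lt 26) (.lt 24))), [(.mul (.mul (.lt 11) (.mul (.lt 13) (.lt 15))) (.mul (.lt 16) (.mul (.lt 17) (.lt 18))))]),
  ((.sq (.mul (.lt 26) (.lt 25))), [(.mul (.lt 12) (.mul (.lt 15) (.lt 17)))])]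

theorem heM8 : allL eM8 (fun e => Nat.beq (ThM.D.evE m2As e.1) (Ct.evO ThM.D m2As e.2)) = true := by decide +kernel

def eM9 : List (Ex × List Ex) := [((.mul (.sq (.lt 27)) (.lt 27)), [(.lt 0)]),
  ((.sq (.mul (.lt 27) (.lt 21))), [(.mul (.mul (.lt 11) (.mul (.lt 12) (.lt 13))) (.mul (.lt 15) (.mul (.lt 17) (.lt 18))))]),
  ((.sq (.mul (.lt 27) (.lt 22))), [(.mul (.mul (.lt 14) (.lt 15)) (.mul (.lt 16) (.mul (.lt 17) (.lt 18))))]),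
  ((.sq (.mul (.lt 27) (.lt 23))), [(.mul (.lt 12) (.mul (.lt 11) (.lt 18)))])]

theorem heM9 : allL eM9 (fun e => Nat.beq (ThM.D.evE m2As e.1) (Ct.evO ThM.D m2As e.2)) = true := by decide +kernel

def eM10 : List (Ex × List Ex) := [((.sq (.mul (.lt 27) (.lt 24))), [(.mul (.mul (.lt 11) (.lt 12)) (.mul (.lt 13) (.mul (.lt 15) (.lt 18))))]),
  ((.sq (.mul (.lt 27) (.lt 25))), [(.mul (.mul (.lt 12) (.lt 13)) (.mul (.lt 14) (.lt 15)))]),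
  ((.sq (.mul (.lt 27) (.lt 26))), [(.mul (.mul (.lt 11) (.lt 14)) (.mul (.lt 15) (.mul (.lt 16) (.lt 18))))])]

theorem heM10 : allL eM10 (fun e => Nat.beq (ThM.D.evE m2As e.1) (Ct.evO ThM.D m2As e.2)) = true := by decide +kernel

def eM11 : List (Ex × List Ex) := [(.mul (.mul (.mul (.mul (.mul (.lt 2) (.lt 1)) (.mul (.lt 0) (.lt 3))) (.mul (.mul (.lt 4) (.lt 3)) (.mul (.lt 2) (.lt 1)))) (.mul (.mul (.mul (.lt 3) (.lt 4)) (.mul (.lt 9) (.lt 3))) (.mul (.mul (.lt 1) (.lt 2)) (.mul (.lt 0) (.lt 1))))) (.lt 0), [.mul (.lt 3) (.mul (.mul (.mul (.mul (.lt 2) (.lt 1)) (.mul (.lt 0) (.lt 3))) (.mul (.mul (.lt 4) (.lt 3)) (.mul (.lt 2) (.lt 1)))) (.mul (.mul (.mul (.lt 3) (.lt 4)) (.mul (.lt 9) (.lt 3))) (.mul (.mul (.lt 1) (.lt 2)) (.mul (.lt 0) (.lt 1)))))])]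

theorem heM11 : allL eM11 (fun e => Nat.beq (ThM.D.evE m2As e.1) (Ct.evO ThM.D m2As e.2)) = true := by decide +kernel

def eM12 : List (Ex × List Ex) := [(.mul (.mul (.mul (.mul (.lt 2) (.mul (.lt 3) (.lt 2))) (.mul (.lt 1) (.mul (.lt 4) (.lt 3)))) (.mul (.mul (.lt 2) (.mul (.lt 9) (.lt 1))) (.mul (.lt 9) (.mul (.lt 0) (.lt 1))))) (.lt 0), [.mul (.lt 3) (.mul (.mul (.mul (.lt 2) (.mul (.lt 3) (.lt 2))) (.mul (.lt 1) (.mul (.lt 4) (.lt 3)))) (.mul (.mul (.lt 2) (.mul (.lt 9) (.lt 1))) (.mul (.lt 9) (.mul (.lt 0) (.lt 1)))))])]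

theorem heM12 : allL eM12 (fun e => Nat.beq (ThM.D.evE m2As e.1) (Ct.evO ThM.D m2As e.2)) = true := by decide +kernel

def eM13 : List (Ex × List Ex) := [((.mul (.mul (.mul (.lt 19) (.mul (.lt 9) (.lt 1))) (.mul (.lt 9) (.mul (.lt 3) (.lt 0)))) (.mul (.mul (.lt 1) (.mul (.lt 2) (.lt 3))) (.mul (.mul (.lt 1) (.lt 2)) (.mul (.lt 0) (.lt 1))))), [(.mul (.mul (.mul (.lt 3) (.lt 4)) (.mul (.lt 9) (.mul (.lt 3) (.lt 9)))) (.mul (.mul (.lt 11) (.lt 12)) (.mul (.lt 14) (.mul (.lt 13) (.lt 18)))))])]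

theorem heM13 : allL eM13 (fun e => Nat.beq (ThM.D.evE m2As e.1) (Ct.evO ThM.D m2As e.2)) = true := by decide +kernel

def eM14 : List (Ex × List Ex) := [(.mul (.mul (.mul (.mul (.lt 20) (.mul (.lt 9) (.lt 5))) (.mul (.lt 1) (.mul (.lt 9) (.lt 3)))) (.mul (.mul (.lt 2) (.mul (.lt 3) (.lt 1))) (.mul (.lt 2) (.mul (.lt 0) (.lt 1))))) (.lt 0), [.mul (.lt 3) (.mul (.mul (.mul (.lt 20) (.mul (.lt 9) (.lt 5))) (.mul (.lt 1) (.mul (.lt 9) (.lt 3)))) (.mul (.mul (.lt 2) (.mul (.lt 3) (.lt 1))) (.mul (.lt 2) (.mul (.lt 0) (.lt 1)))))])]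

theorem heM14 : allL eM14 (fun e => Nat.beq (ThM.D.evE m2As e.1) (Ct.evO ThM.D m2As e.2)) = true := by decide +kernel

end Cfsg.Agent.Spor.ThC
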