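import Cfsg.Agent.Spor.ThG
import Cfsg.Agent.Spor.Cent2

/-! The centraliser of an involution in the Thompson group (generated certificate, helper23). -/

set_option Elab.async false
set_option maxRecDepth 100000
set_option exponentiation.threshold 100000

namespace Cfsg.Agent.Spor.ThC

open Equiv

def tw : List ℕ := [0]

end Cfsg.Agent.Spor.ThC
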