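import Cfsg.Agent.Spor.ThG
import Cfsg.Agent.Spor.Cent2
import Cfsg.Agent.Spor.ThCT0

/-! The centraliser of an involution in the Thompson group (generated certificate, helper23). -/

set_option Elab.async false
set_option maxRecDepth 100000
set_option exponentiation.threshold 100000

namespace Cfsg.Agent.Spor.ThC

open Equiv

def r1_0 : List (ℕ × List ℕ) := [(1, [1])]

theorem o1_0 : Ct.chkOut ThM.D ThM.As ThM.iv ThG.Rp 19 3 ThM.E 1 (Dce.pw ThD.tab.at (getL ThD.nm 0 1)) tw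
    (r1_0.map (·.2)) = true := by decide +kernel

def r2_0 : List (ℕ × List ℕ) := [(0, []), (7, [3, 2, 0, 1])]

theorem o2_0 : Ct.chkOut ThM.D ThM.As ThM.iv ThG.Rp 19 3 ThM.E 1 (Dce.pw ThD.tab.at (getL ThD.nm 0 2)) tw
    (r2_0.map (·.2)) = true := by decide +kernel

def r3_0 : List (ℕ × List ℕ) := [(0, []), (1, [1]), (4, [2, 0, 1]), (16, [5, 4, 3, 2, 1]), (15, [6, 4, 3, 2, 1]), (22, [5, 4, 3, 2, 0, 1])]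

theorem o3_0 : Ct.chkOut ThM.D ThM.As ThM.iv ThG.Rp 19 3 ThM.E 1 (Dce.pw ThD.tab.at (getL ThD.nm 0 3)) tw
    (r3_0.map (·.2)) = true := by decide +kernel

def r4_0 : List (ℕ × List ℕ) := [(0, []), (1, [1]), (5, [3, 2, 1]), (7, [3, 2, 0, 1]), (25, [3, 4, 2, 3, 2, 1]), (51, [6, 3, 4, 2, 3, 2, 1]), (131, [3, 2, 3, 4, 1, 2, 3, 2, 1]), (210, [6, 3, 2, 3, 4, 1, 2, 3, 2, 1])]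

theorem o4_0 : Ct.chkOut ThM.D ThM.As ThM.iv ThG.Rp 19 3 ThM.E 1 (Dce.pw ThD.tab.at (getL ThD.nm 0 4)) tw
    (r4_0.map (·.2)) = true := by decide +kernel

def r5_0 : List (ℕ × List ℕ) := [(0, []), (1, [1]), (2, [0, 1]), (4, [2, 0, 1]), (5, [3, 2, 1]), (7, [3, 2, 0, 1]), (8, [2, 3, 2, 1]), (9, [4, 3, 2, 1]), (10, [3, 1, 2, 0, 1]), (11, [2, 3, 2, 0, 1]), (12, [4, 3, 2, 0, 1]), (13, [1, 2, 3, 2, 1]), (16, [5, 4, 3, 2, 1]), (15, [6, 4, 3, 2, 1]), (17, [2, 3, 1, 2, 0, 1]), (20, [4, 2, 3, 2, 0, 1]), (22, [5, 4, 3, 2, 0, 1]), (21, [6, 4, 3, 2, 0, 1]), (23, [0, 1, 2, 3, 2, 1]), (27, [5, 4, 2, 3, 2, 1]), (26, [6, 4, 2, 3, 2, 1]), (29, [4, 5, 4, 3, 2, 1]), (31, [5, 5, 4, 3, 2, 1]), (28, [7, 5, 4, 3, 2, 1]), (30, [7, 6, 4, 3, 2, 1]), (36, [5, 4, 3,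 1, 2, 0, 1]), (35, [6, 4, 3, 1, 2, 0, 1]), (41, [5, 4, 2, 3, 2, 0, 1]), (40, [6, 4, 2, 3, 2, 0, 1]), (43, [4, 5, 4, 3, 2, 0, 1]), (45, [5, 5, 4, 3, 2, 0, 1]), (42, [7, 5, 4, 3, 2, 0, 1]), (44, [7, 6, 4, 3, 2, 0, 1]), (49, [5, 4, 1, 2, 3, 2, 1]), (48, [6, 4, 1, 2, 3, 2, 1]), (52, [5, 3, 4, 2, 3, 2, 1]), (51, [6, 3, 4, 2, 3, 2, 1]), (54, [4, 5, 4, 2, 3, 2, 1]), (56, [5, 5, 4, 2, 3, 2, 1]), (53, [7, 5, 4, 2, 3, 2, 1])]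

theorem o5_0 : Ct.chkOut ThM.D ThM.As ThM.iv ThG.Rp 19 3 ThM.E 1 (Dce.pw ThD.tab.at (getL ThD.nm 0 5)) tw
    (r5_0.map (·.2)) = true := by decide +kernel

def r5_1 : List (ℕ × List ℕ) := [(55, [7, 6, 4, 2, 3, 2, 1]), (60, [6, 4, 2, 3, 1, 2, 0, 1]), (65, [5, 5, 4, 3, 1, 2, 0, 1]), (64, [7, 6, 4, 3, 1, 2, 0, 1]), (72, [5, 3, 4, 2, 3, 2, 0, 1]), (71, [6, 3, 4, 2, 3, 2, 0, 1]), (74, [4, 5, 4, 2, 3, 2, 0, 1]), (76, [5, 5, 4, 2, 3, 2, 0, 1]), (73, [7, 5, 4, 2, 3, 2, 0, 1]), (75, [7, 6, 4, 2, 3, 2, 0, 1]), (79, [5, 4, 0, 1, 2, 3, 2, 1]), (82, [5, 3, 4, 1, 2, 3, 2, 1]), (81, [6, 3, 4, 1, 2, 3, 2, 1]), (89, [5, 2, 3, 4, 2, 3, 2, 1]), (88, [6, 2, 3, 4, 2, 3, 2, 1]), (93, [4, 5, 3, 4, 2, 3, 2, 1]), (94, [5, 5, 3, 4, 2, 3, 2, 1]), (95, [7, 5, 3, 4,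 2, 3, 2, 1]), (90, [4, 6, 3, 4, 2, 3, 2, 1]), (91, [6, 6, 3, 4, 2, 3, 2, 1]), (92, [7, 6, 3, 4, 2, 3, 2, 1]), (102, [7, 6, 4, 2, 3, 1, 2, 0, 1]), (109, [5, 3, 4, 1, 2, 3, 2, 0, 1]), (108, [6, 3, 4, 1, 2, 3, 2, 0, 1]), (116, [5, 2, 3, 4, 2, 3, 2, 0, 1]), (115, [6, 2, 3, 4, 2, 3, 2, 0, 1]), (120, [4, 5, 3, 4, 2, 3, 2, 0, 1]), (121, [5, 5, 3, 4, 2, 3, 2, 0, 1]), (122, [7, 5, 3, 4, 2, 3, 2, 0, 1]), (117, [4, 6, 3, 4, 2, 3, 2, 0, 1]), (118, [6, 6, 3, 4, 2, 3, 2, 0, 1]), (119, [7, 6, 3, 4, 2, 3, 2, 0, 1]), (124, [6, 3, 4, 0, 1, 2, 3, 2, 1]), (133, [5, 2, 3, 4, 1, 2, 3, 2, 1]), (132, [6, 2, 3, 4, 1, 2, 3, 2, 1]), (137, [4, 5, 3, 4, 1, 2, 3, 2, 1]), (138, [5, 5, 3, 4, 1, 2, 3, 2, 1]), (139, [7, 5, 3, 4, 1, 2, 3, 2, 1]), (134, [4, 6, 3, 4, 1, 2, 3,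 2, 1]), (135, [6, 6, 3, 4, 1, 2, 3, 2, 1])]

theorem o5_1 : Ct.chkOut ThM.D ThM.As ThM.iv ThG.Rp 19 3 ThM.E 1 (Dce.pw ThD.tab.at (getL ThD.nm 0 5)) tw
    (r5_1.map (·.2)) = true := by decide +kernel

def r5_2 : List (ℕ × List ℕ) := [(136, [7, 6, 3, 4, 1, 2, 3, 2, 1]), (142, [5, 1, 2, 3, 4, 2, 3, 2, 1]), (141, [6, 1, 2, 3, 4, 2, 3, 2, 1]), (146, [4, 5, 2, 3, 4, 2, 3, 2, 1]), (147, [5, 5, 2, 3, 4, 2, 3, 2, 1]), (148, [7, 5, 2, 3, 4, 2, 3, 2, 1]), (143, [4, 6, 2, 3, 4, 2, 3, 2, 1]), (144, [6, 6, 2, 3, 4, 2, 3, 2, 1]), (145, [7, 6, 2, 3, 4, 2, 3, 2, 1]), (153, [3, 4, 5, 3, 4, 2, 3, 2, 1]), (155, [5, 4, 5, 3, 4, 2, 3, 2, 1]), (154, [6, 4, 5, 3, 4, 2, 3, 2, 1]), (156, [7, 4, 5, 3, 4, 2, 3, 2, 1]), (149, [8, 4, 5, 3, 4, 2, 3, 2, 1]), (151, [5,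 4, 6, 3, 4, 2, 3, 2, 1]), (150, [6, 4, 6, 3, 4, 2, 3, 2, 1]), (152, [8, 4, 6, 3, 4, 2, 3, 2, 1]), (165, [5, 3, 4, 0, 1, 2, 3, 2, 0, 1]), (164, [6, 3, 4, 0, 1, 2, 3, 2, 0, 1]), (172, [5, 2, 3, 4, 1, 2, 3, 2, 0, 1]), (171, [6, 2, 3, 4, 1, 2, 3, 2, 0, 1]), (177, [5, 5, 3, 4, 1, 2, 3, 2, 0, 1]), (178, [7, 5, 3, 4, 1, 2, 3, 2, 0, 1]), (174, [6, 6, 3, 4, 1, 2, 3, 2, 0, 1]), (175, [7, 6, 3, 4, 1, 2, 3, 2, 0, 1]), (185, [4, 5, 2, 3, 4, 2, 3, 2, 0, 1]), (186, [5, 5, 2, 3, 4, 2, 3, 2, 0, 1]), (187, [7, 5, 2, 3, 4, 2, 3, 2, 0, 1]), (182, [4, 6, 2, 3, 4, 2, 3, 2, 0, 1]), (183, [6, 6, 2, 3, 4, 2, 3, 2, 0, 1]), (184, [7, 6, 2, 3, 4, 2, 3, 2, 0, 1]), (192, [3, 4, 5, 3, 4, 2, 3, 2, 0, 1]), (194, [5, 4, 5, 3, 4, 2, 3, 2, 0, 1]), (193, [6, 4, 5, 3, 4, 2, 3,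 2, 0, 1]), (195, [7, 4, 5, 3, 4, 2, 3, 2, 0, 1]), (188, [8, 4, 5, 3, 4, 2, 3, 2, 0, 1]), (190, [5, 4, 6, 3, 4, 2, 3, 2, 0, 1]), (189, [6, 4, 6, 3, 4, 2, 3, 2, 0, 1]), (191, [8, 4, 6, 3, 4, 2, 3, 2, 0, 1]), (199, [5, 2, 3, 4, 0, 1, 2, 3, 2, 1])]

theorem o5_2 : Ct.chkOut ThM.D ThM.As ThM.iv ThG.Rp 19 3 ThM.E 1 (Dce.pw ThD.tab.at (getL ThD.nm 0 5)) tw
    (r5_2.map (·.2)) = true := by decide +kernel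

def r5_3 : List (ℕ × List ℕ) := [(201, [6, 6, 3, 4, 0, 1, 2, 3, 2, 1]), (202, [7, 6, 3, 4, 0, 1, 2, 3, 2, 1]), (216, [5, 5, 2, 3, 4, 1, 2, 3, 2, 1]), (217, [7, 5, 2, 3, 4, 1, 2, 3, 2, 1]), (212, [4, 6, 2, 3, 4, 1, 2, 3, 2, 1]), (213, [6, 6, 2, 3, 4, 1, 2, 3, 2, 1]), (214, [7, 6, 2, 3, 4, 1, 2, 3, 2, 1]), (225, [7, 4, 5, 3, 4, 1, 2, 3, 2, 1]), (232, [5, 5, 1, 2, 3, 4, 2, 3, 2, 1]), (230, [7, 6, 1, 2, 3, 4, 2, 3, 2, 1]), (240, [6, 4, 5, 2, 3, 4, 2, 3, 2, 1]), (243, [7, 4, 5, 2, 3, 4, 2, 3, 2, 1]), (242, [8, 4, 5, 2, 3, 4, 2, 3, 2, 1]), (234, [3, 4, 6, 2, 3, 4, 2, 3, 2, 1]), (235, [6, 4, 6, 2, 3, 4, 2, 3, 2, 1]), (238, [7, 4, 6, 2, 3, 4, 2, 3, 2, 1]), (237, [8, 4, 6, 2, 3, 4, 2, 3, 2, 1]), (258, [7, 5, 4, 5, 3, 4, 2, 3, 2, 1]), (257, [8, 5,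 4, 5, 3, 4, 2, 3, 2, 1]), (255, [7, 6, 4, 5, 3, 4, 2, 3, 2, 1]), (259, [6, 7, 4, 5, 3, 4, 2, 3, 2, 1]), (251, [8, 5, 4, 6, 3, 4, 2, 3, 2, 1]), (247, [6, 6, 4, 6, 3, 4, 2, 3, 2, 1]), (265, [6, 2, 3, 4, 0, 1, 2, 3, 2, 0, 1]), (280, [5, 5, 2, 3, 4, 1, 2, 3, 2, 0, 1]), (281, [7, 5, 2, 3, 4, 1, 2, 3, 2, 0, 1]), (324, [5, 5, 2, 3, 4, 0, 1, 2, 3, 2, 1]), (325, [7, 5, 2, 3, 4, 0, 1, 2, 3, 2, 1]), (352, [8, 4, 6, 2, 3, 4, 1, 2, 3, 2, 1]), (395, [8, 6, 4, 6, 2, 3, 4, 2, 3, 2, 1])]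

theorem o5_3 : Ct.chkOut ThM.D ThM.As ThM.iv ThG.Rp 19 3 ThM.E 1 (Dce.pw ThD.tab.at (getL ThD.nm 0 5)) tw
    (r5_3.map (·.2)) = true := by decide +kernel

def r6_0 : List (ℕ × List ℕ) := [(0, []), (1, [1]), (2, [0, 1]), (4, [2, 0, 1]), (5, [3, 2, 1]), (7, [3, 2, 0, 1]), (8, [2, 3, 2, 1]), (9, [4, 3, 2, 1]), (11, [2, 3, 2, 0, 1]), (12, [4, 3, 2, 0, 1]), (13, [1, 2, 3, 2, 1]), (16, [5, 4, 3, 2, 1]), (15, [6, 4, 3, 2, 1]), (20, [4, 2, 3, 2, 0, 1]), (22, [5, 4, 3, 2, 0, 1]), (21, [6, 4, 3, 2, 0, 1]), (23, [0, 1, 2, 3, 2, 1]), (26, [6, 4, 2, 3, 2, 1]), (28, [7, 5, 4, 3, 2, 1]), (41, [5, 4, 2, 3, 2, 0, 1])]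

theorem o6_0 : Ct.chkOut ThM.D ThM.As ThM.iv ThG.Rp 19 3 ThM.E 1 (Dce.pw ThD.tab.at (getL ThD.nm 0 6)) tw
    (r6_0.map (·.2)) = true := by decide +kernel

def r7_0 : List (ℕ × List ℕ) := [(0, []), (1, [1]), (2, [0, 1]), (16, [5, 4, 3, 2, 1]), (15, [6, 4, 3, 2, 1]), (22, [5, 4, 3, 2, 0, 1]), (21, [6, 4, 3, 2, 0, 1]), (36, [5, 4, 3, 1, 2, 0, 1]), (35, [6, 4, 3, 1, 2, 0, 1]), (41, [5, 4, 2, 3, 2, 0, 1])]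

theorem o7_0 : Ct.chkOut ThM.D ThM.As ThM.iv ThG.Rp 19 3 ThM.E 1 (Dce.pw ThD.tab.at (getL ThD.nm 0 7)) tw
    (r7_0.map (·.2)) = true := by decide +kernel

def r8_0 : List (ℕ × List ℕ) := [(0, []), (1, [1]), (2, [0, 1]), (4, [2, 0, 1]), (5, [3, 2, 1]), (6, [1, 2, 0, 1]), (8, [2, 3, 2, 1]), (9, [4, 3, 2, 1]), (12, [4, 3, 2, 0, 1]), (17, [2, 3, 1, 2, 0, 1]), (25, [3, 4, 2, 3, 2, 1]), (26, [6, 4, 2, 3, 2, 1]), (29, [4, 5, 4, 3, 2, 1]), (55, [7, 6, 4, 2, 3, 2, 1]), (93, [4, 5, 3, 4, 2, 3, 2, 1])]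

theorem o8_0 : Ct.chkOut ThM.D ThM.As ThM.iv ThG.Rp 19 3 ThM.E 1 (Dce.pw ThD.tab.at (getL ThD.nm 0 8)) tw
    (r8_0.map (·.2)) = true := by decide +kernel

def r9_0 : List (ℕ × List ℕ) := [(0, []), (1, [1]), (2, [0, 1]), (3, [2, 1]), (4, [2, 0, 1]), (5, [3, 2, 1]), (7, [3, 2, 0, 1]), (10, [3, 1, 2, 0, 1]), (12, [4, 3, 2, 0, 1]), (13, [1, 2, 3, 2, 1]), (18, [4, 3, 1, 2, 0, 1]), (19, [1, 2, 3, 2, 0, 1]), (20, [4, 2, 3, 2, 0, 1]), (22, [5, 4, 3, 2, 0, 1]), (23, [0, 1, 2, 3, 2, 1]), (24, [4, 1, 2, 3, 2, 1]), (41, [5, 4, 2, 3, 2, 0, 1]), (46, [4, 0, 1, 2, 3, 2, 1]), (53, [7, 5, 4, 2, 3, 2, 1]), (69, [5, 4, 1, 2, 3, 2, 0, 1])]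

theorem o9_0 : Ct.chkOut ThM.D ThM.As ThM.iv ThG.Rp 19 3 ThM.E 1 (Dce.pw ThD.tab.at (getL ThD.nm 0 9)) tw
    (r9_0.map (·.2)) = true := by decide +kernel

def r10_0 : List (ℕ × List ℕ) := [(0, []), (1, [1]), (7, [3, 2, 0, 1])]

theorem o10_0 : Ct.chkOut ThM.D ThM.As ThM.iv ThG.Rp 19 3 ThM.E 1 (Dce.pw ThD.tab.at (getL ThD.nm 0 10)) tw
    (r10_0.map (·.2)) = true := by decide +kernel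

end Cfsg.Agent.Spor.ThC
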