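import Cfsg.Agent.Spor.ThG
import Cfsg.Agent.Spor.Cent2
import Cfsg.Agent.Spor.ThCO0

/-! The centraliser of an involution in the Thompson group (generated certificate, helper23). -/

set_option Elab.async false
set_option maxRecDepth 100000
set_option exponentiation.threshold 100000

namespace Cfsg.Agent.Spor.ThC

open Equiv

def f1 : List (List ℕ) := [[0], [2], [4], [8], [3, 2, 1, 0, 3, 2, 1, 3, 2, 3, 4, 3, 2, 3, 1, 2, 0, 1], [3, 2, 3, 6, 4, 3, 2, 1, 3, 2, 4, 3, 5, 8, 0, 1, 2, 3, 4, 5, 4]]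

theorem F1 : genW ThA.y f1 ≤ Ct.Fd ThG.ι (ev (Dce.gD ThG.ι ThA.y ThG.T 19) (Dce.pw ThD.tab.at (getL ThD.nm 0 1))) :=
  Ct.genW_le_of_keys ThA.pa (by decide) (Ct.gens_Fd ThG.hyp ThD.steps (gens := [8, 9, 10, 11, 12, 13])
    (fs := [[10, 11, 9, 11, 10, 11, 9, 11], [11, 12, 13, 14, 11, 12, 13, 14], [9, 11, 9, 11, 10, 11, 9, 11, 14, 12, 9, 13, 14], [10], [11, 9, 12, 10, 11, 12, 13], [12, 10, 11, 10, 11, 14, 12, 9, 13]]) (by decide +kernel)) [[0], [1], [2], [3], [4], [5]] (by decide +kernel)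

def s1 : List (ℕ × List ℕ) := [(0, []), (10, [3, 1, 2, 0, 1])]

theorem cv1 : Ct.chkCov JThK.nets 9 (sing (List.range 9)) f1 (r1_0 ++ s1) 0
    (orbRun JThK.nets f1 [1, 0, 2, 5, 2, 3, 3, 4, 2, 5, 2, 3, 3, 4, 2, 5, 2] (Ct.startM (r1_0 ++ s1))) 0 [1, 0, 2, 5, 2, 3, 3, 4, 2, 5, 2, 3, 3, 4, 2, 5, 2] = true := by decide +kernel

def f2 : List (List ℕ) := [[1, 0, 2, 1, 4], [4], [7], [0, 2, 8], [1, 0, 2, 1, 5, 4, 6], [3, 2, 1, 3, 2, 1, 3, 4, 3, 2, 1, 3, 2, 3, 4, 1], [3, 2, 1, 3, 2, 1, 3, 6, 4, 3, 2, 1, 3, 6, 2, 3, 4, 6, 6, 1], [3, 2, 1, 3, 2, 3, 2, 1, 5, 4, 3, 2, 5, 7, 3, 4, 2, 3, 2, 3, 1, 0], [0, 1, 5, 5, 4, 3, 2, 1, 3, 2, 4, 3, 7, 5, 4, 2, 3, 1, 2, 3, 4, 5, 2, 1, 0]]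

theorem F2 : genW ThA.y f2 ≤ Ct.Fd ThG.ι (ev (Dce.gD ThG.ι ThA.y ThG.T 19) (Dce.pw ThD.tab.at (getL ThD.nm 0 2))) :=
  Ct.genW_le_of_keys ThA.pa (by decide) (Ct.gens_Fd ThG.hyp ThD.steps (gens := [16, 17, 18, 19, 20, 22, 23, 25, 29])
    (fs := [[13, 9, 11, 14, 11, 10, 13], [9, 11, 9, 11, 10, 11, 9, 11, 14, 12, 9, 13, 14], [9], [9, 12, 9, 11, 9, 13, 10, 14, 11, 12, 13, 14], [9, 11, 12, 13, 10, 11, 13, 14, 11, 13], [1, 14, 3, 9, 11, 9, 11, 12, 9, 12, 14, 11, 12, 13], [11, 4, 11, 1, 11, 12, 13, 14, 11, 14], [12, 2, 1, 11, 5, 0, 1, 12, 9, 11, 10, 14, 12, 9, 12, 14], [2, 1, 11, 5, 5, 0, 1, 11, 9, 11, 12, 9, 14, 12, 10]]) (by decide +kernel)) [[0], [1], [2], [3], [4], [5], [6], [7], [8]] (by decide +kernel)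

def s2 : List (ℕ × List ℕ) := [(2, [0, 1]), (96, [3, 0, 1, 2, 3, 1, 2, 0, 1])]

theorem cv2 : Ct.chkCov JThK.nets 9 (sing (List.range 9)) f2 (r2_0 ++ s2) 0
    (orbRun JThK.nets f2 [0, 1, 3, 4, 2, 2, 5, 6, 2, 2, 6, 2, 7, 1, 8, 2, 8, 1, 7, 6] (Ct.startM (r2_0 ++ s2))) 0 [0, 1, 3, 4, 2, 2, 5, 6, 2, 2, 6, 2, 7, 1, 8, 2, 8, 1, 7, 6] = true := by decide +kernel

def f3 : List (List ℕ) := [[7], [3, 4, 3, 2, 3, 2, 1, 0, 4, 3, 2, 1, 3, 2, 3, 0], [0, 1, 0, 2, 1, 3, 2, 3, 4, 3, 2, 1, 3, 2, 7, 3, 0, 1, 2, 3], [0, 1, 2, 1, 3, 2, 1, 0, 3, 2, 1, 4, 3, 2, 1, 0], [2, 6, 4, 3, 2, 1, 3, 2, 5, 4, 3, 2, 3, 4, 5, 3, 4, 6, 3, 2, 1, 0]]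

theorem F3 : genW ThA.y f3 ≤ Ct.Fd ThG.ι (ev (Dce.gD ThG.ι ThA.y ThG.T 19) (Dce.pw ThD.tab.at (getL ThD.nm 0 3))) :=
  Ct.genW_le_of_keys ThA.pa (by decide) (Ct.gens_Fd ThG.hyp ThD.steps (gens := [32, 33, 34, 35, 241])
    (fs := [[9], [13, 9, 11, 14, 11, 12, 10, 12], [10, 12, 10, 12, 13], [4, 14, 1, 9, 12, 10, 11, 14, 11, 12, 13], [14, 6, 14, 11, 5, 3, 1, 9, 11, 10, 11, 9, 13, 9, 11, 14, 11, 9, 14, 11]]) (by decide +kernel)) [[0], [1], [2], [3], [4]] (by decide +kernel)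

def s3 : List (ℕ × List ℕ) := []

theorem cv3 : Ct.chkCov JThK.nets 9 (sing (List.range 9)) f3 (r3_0 ++ s3) 0
    (orbRun JThK.nets f3 [0, 0, 1, 3, 1, 3, 4, 0, 0, 2, 4] (Ct.startM (r3_0 ++ s3))) 0 [0, 0, 1, 3, 1, 3, 4, 0, 0, 2, 4] = true := by decide +kernel

def f4 : List (List ℕ) := [[1, 0, 2, 1, 4], [4, 5, 4, 6], [0, 2], [0, 2, 6, 4, 5], [5, 4, 6], [1, 0, 4, 3, 2, 1, 3, 2, 3, 6, 6, 4, 3, 2, 3, 1, 2, 3, 4, 6, 7], [2, 4, 3, 2, 1, 3, 2, 5, 4, 3, 2, 3, 7, 5, 1, 2, 3, 4, 5, 3, 2, 3, 4, 3, 2, 3, 1]]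

theorem F4 : genW ThA.y f4 ≤ Ct.Fd ThG.ι (ev (Dce.gD ThG.ι ThA.y ThG.T 19) (Dce.pw ThD.tab.at (getL ThD.nm 0 4))) :=
  Ct.genW_le_of_keys ThA.pa (by decide) (Ct.gens_Fd ThG.hyp ThD.steps (gens := [37, 38, 39, 40, 41, 50, 55])
    (fs := [[13, 9, 11, 14, 11, 10, 13], [10, 11, 10, 12, 10, 11, 12, 14, 11, 9, 11, 10, 14], [10, 12, 9, 11, 9, 13, 10, 14, 11, 12, 13, 14], [11, 9, 13, 9, 11, 13, 14, 12, 9, 12, 14], [9, 11, 12, 13, 9, 14, 11, 9, 14], [3, 12, 6, 3, 1, 9, 13, 10, 11, 10, 14, 12, 10], [14, 12, 14, 5, 1, 9, 13, 10, 11, 10, 11, 14, 11, 12, 10]]) (by decide +kernel)) [[0], [1], [2], [3], [4], [5], [6]] (by decide +kernel)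

def s4 : List (ℕ × List ℕ) := [(33, [3, 2, 3, 1, 2, 0, 1])]

theorem cv4 : Ct.chkCov JThK.nets 9 (sing (List.range 9)) f4 (r4_0 ++ s4) 0
    (orbRun JThK.nets f4 [2, 4, 1, 0, 3, 5, 6, 5, 6] (Ct.startM (r4_0 ++ s4))) 0 [2, 4, 1, 0, 3, 5, 6, 5, 6] = true := by decide +kernel

def f5 : List (List ℕ) := [[3, 4, 3, 2, 3, 2, 1, 0, 4, 3, 2, 1, 3, 2, 3, 0], [1, 0, 2, 1, 4]]

theorem F5 : genW ThA.y f5 ≤ Ct.Fd ThG.ι (ev (Dce.gD ThG.ι ThA.y ThG.T 19) (Dce.pw ThD.tab.at (getL ThD.nm 0 5))) :=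
  Ct.genW_le_of_keys ThA.pa (by decide) (Ct.gens_Fd ThG.hyp ThD.steps (gens := [64, 65])
    (fs := [[13, 9, 11, 14, 11, 12, 10, 12], [13, 9, 11, 14, 11, 10, 13]]) (by decide +kernel)) [[0], [1]] (by decide +kernel)

def s5 : List (ℕ × List ℕ) := []

theorem cv5 : Ct.chkCov JThK.nets 9 (sing (List.range 9)) f5 (r5_0 ++ r5_1 ++ r5_2 ++ r5_3 ++ s5) 0
    (orbRun JThK.nets f5 [1, 0, 1] (Ct.startM (r5_0 ++ r5_1 ++ r5_2 ++ r5_3 ++ s5))) 0 [1, 0, 1] = true := by decide +kernel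

def f6 : List (List ℕ) := [[0, 1, 0, 2, 1, 3, 2, 3, 4, 3, 2, 1, 3, 2, 3, 0, 1, 2, 3], [3, 4, 3, 2, 3, 2, 1, 0, 4, 3, 2, 1, 3, 2, 3, 0], [3, 4, 5, 4, 3, 2, 1, 3, 2, 5, 4, 3, 8, 5, 2, 3, 1, 2, 3]]

theorem F6 : genW ThA.y f6 ≤ Ct.Fd ThG.ι (ev (Dce.gD ThG.ι ThA.y ThG.T 19) (Dce.pw ThD.tab.at (getL ThD.nm 0 6))) :=
  Ct.genW_le_of_keys ThA.pa (by decide) (Ct.gens_Fd ThG.hyp ThD.steps (gens := [1271, 1272, 1310])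
    (fs := [[9, 12, 10, 12, 13], [13, 9, 11, 14, 11, 12, 10, 12], [11, 3, 11, 14, 3, 9, 11, 14, 12, 9, 13]]) (by decide +kernel)) [[0], [1], [2]] (by decide +kernel)

def s6 : List (ℕ × List ℕ) := []

theorem cv6 : Ct.chkCov JThK.nets 9 (sing (List.range 9)) f6 (r6_0 ++ s6) 0
    (orbRun JThK.nets f6 [1, 2, 1, 2, 0, 1, 2, 1] (Ct.startM (r6_0 ++ s6))) 0 [1, 2, 1, 2, 0, 1, 2, 1] = true := by decide +kernel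

def f7 : List (List ℕ) := [[8], [0, 1, 0, 2, 1, 3, 2, 3, 4, 3, 2, 1, 3, 2, 7, 3, 0, 1, 2, 3], [1, 0, 3, 2, 1, 0, 3, 4, 3, 2, 3, 4, 7], [0, 1, 2, 3, 2, 1, 3, 2, 4, 3, 2, 3, 4, 8, 3, 1]]

theorem F7 : genW ThA.y f7 ≤ Ct.Fd ThG.ι (ev (Dce.gD ThG.ι ThA.y ThG.T 19) (Dce.pw ThD.tab.at (getL ThD.nm 0 7))) :=
  Ct.genW_le_of_keys ThA.pa (by decide) (Ct.gens_Fd ThG.hyp ThD.steps (gens := [1540, 1541, 1545, 1550])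
    (fs := [[10], [10, 12, 10, 12, 13], [4, 3, 14, 0, 1, 10, 11, 9, 11, 9, 11, 14], [14, 2, 1, 14, 1, 9, 11, 9, 13, 10, 13, 14, 11, 9, 12]]) (by decide +kernel)) [[0], [1], [2], [3]] (by decide +kernel)

def s7 : List (ℕ × List ℕ) := []

theorem cv7 : Ct.chkCov JThK.nets 9 (sing (List.range 9)) f7 (r7_0 ++ s7) 0
    (orbRun JThK.nets f7 [0, 0, 2, 3, 2, 1, 3, 2, 1] (Ct.startM (r7_0 ++ s7))) 0 [0, 0, 2, 3, 2, 1, 3, 2, 1] = true := by decide +kernel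

def f8 : List (List ℕ) := [[5, 4, 3, 2, 3, 4, 5, 4, 3, 2, 3, 4, 6, 6, 4, 3, 2, 3, 4, 2], [1, 0, 4, 3, 2, 1, 3, 2, 3, 2, 6, 6, 6, 4, 1, 0], [2, 1, 0, 6, 4, 3, 2, 1, 3, 2, 4, 3, 5, 4, 5, 3, 2, 3, 4, 5, 7, 5, 3, 0]]

theorem F8 : genW ThA.y f8 ≤ Ct.Fd ThG.ι (ev (Dce.gD ThG.ι ThA.y ThG.T 19) (Dce.pw ThD.tab.at (getL ThD.nm 0 8))) :=
  Ct.genW_le_of_keys ThA.pa (by decide) (Ct.gens_Fd ThG.hyp ThD.steps (gens := [1689, 1693, 1704])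
    (fs := [[9, 12, 9, 11, 13, 9, 13], [7, 6, 14, 4, 3, 11, 9, 12, 10, 11, 12, 13, 14, 11, 12, 10, 12], [14, 11, 0, 1, 12, 10, 11, 12, 14, 11, 10, 11]]) (by decide +kernel)) [[0], [1], [2]] (by decide +kernel)

def s8 : List (ℕ × List ℕ) := []

theorem cv8 : Ct.chkCov JThK.nets 9 (sing (List.range 9)) f8 (r8_0 ++ s8) 0
    (orbRun JThK.nets f8 [1, 0, 2, 1, 2, 0, 1, 2, 0, 1] (Ct.startM (r8_0 ++ s8))) 0 [1, 0, 2, 1, 2, 0, 1, 2, 0, 1] = true := by decide +kernel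

def f9 : List (List ℕ) := [[1, 0, 2, 1, 5, 4, 3, 2, 5, 4, 3, 7, 6, 4, 5, 2, 3, 4, 5, 3, 1, 2, 0, 1], [3, 2, 3, 2, 1, 4, 5, 4, 3, 2, 3, 4, 7, 6, 4, 3, 0, 1, 2, 3, 4, 6]]

theorem F9 : genW ThA.y f9 ≤ Ct.Fd ThG.ι (ev (Dce.gD ThG.ι ThA.y ThG.T 19) (Dce.pw ThD.tab.at (getL ThD.nm 0 9))) :=
  Ct.genW_le_of_keys ThA.pa (by decide) (Ct.gens_Fd ThG.hyp ThD.steps (gens := [1942, 1953])
    (fs := [[8, 12, 14, 6, 3, 11, 10, 11, 10, 11, 12, 13, 14, 13, 9], [8, 6, 14, 5, 0, 1, 10, 11, 10, 11, 9, 14, 11]]) (by decide +kernel)) [[0], [1]] (by decide +kernel)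

def s9 : List (ℕ × List ℕ) := []

theorem cv9 : Ct.chkCov JThK.nets 9 (sing (List.range 9)) f9 (r9_0 ++ s9) 0
    (orbRun JThK.nets f9 [1, 0, 1, 0, 1, 0, 1, 1, 0, 1, 0] (Ct.startM (r9_0 ++ s9))) 0 [1, 0, 1, 0, 1, 0, 1, 1, 0, 1, 0] = true := by decide +kernel

def f10 : List (List ℕ) := [[1, 0, 2, 1, 4], [1, 0, 3, 2, 1, 3, 2, 3, 4, 5, 4, 3, 2, 3, 1, 2, 3, 4, 5, 8, 0, 1], [1, 0, 2, 1, 6, 4, 3, 2, 1, 3, 6, 4, 3, 6, 2, 3, 4, 6, 8, 3, 4, 2, 1, 0]]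

theorem F10 : genW ThA.y f10 ≤ Ct.Fd ThG.ι (ev (Dce.gD ThG.ι ThA.y ThG.T 19) (Dce.pw ThD.tab.at (getL ThD.nm 0 10))) :=
  Ct.genW_le_of_keys ThA.pa (by decide) (Ct.gens_Fd ThG.hyp ThD.steps (gens := [2177, 2178, 2183])
    (fs := [[13, 9, 11, 14, 11, 10, 13], [11, 10, 11, 13, 10, 13, 14, 11, 9, 11, 14], [5, 12, 11, 6, 0, 1, 9, 11, 9, 11, 12, 13, 10, 13, 14, 12, 9, 13]]) (by decide +kernel)) [[0], [1], [2]] (by decide +kernel)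

def s10 : List (ℕ × List ℕ) := []

theorem cv10 : Ct.chkCov JThK.nets 9 (sing (List.range 9)) f10 (r10_0 ++ s10) 0
    (orbRun JThK.nets f10 [0, 2, 0, 1, 2, 0, 1, 2, 0, 1, 2, 0, 2, 0, 2, 1, 2] (Ct.startM (r10_0 ++ s10))) 0 [0, 2, 0, 1, 2, 0, 1, 2, 0, 1, 2, 0, 2, 0, 2, 1, 2] = true := by decide +kernel

end Cfsg.Agent.Spor.ThC
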