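import Cfsg.Agent.Spor.ThG
import Cfsg.Agent.Spor.Cent2
import Cfsg.Agent.Spor.ThCC0
import Cfsg.Agent.Spor.ThCC1
import Cfsg.Agent.Spor.ThCR0
import Cfsg.Agent.Spor.ThCT0
import Cfsg.Agent.Spor.ThCV0

/-! The centraliser of an involution in the Thompson group (generated certificate, helper23). -/

set_option Elab.async false
set_option maxRecDepth 100000
set_option exponentiation.threshold 100000

namespace Cfsg.Agent.Spor.ThC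

open Equiv

theorem m1c : ∀ i < 21, Nat.beq (ThM.D.evE ThM.As (getL m1E (.lt 0) i)) (getL m1As 0 i) = true
  | 0, _ => m1c0
  | 1, _ => m1c1
  | 2, _ => m1c2
  | 3, _ => m1c3
  | 4, _ => m1c4
  | 5, _ => m1c5
  | 6, _ => m1c6
  | 7, _ => m1c7
  | 8, _ => m1c8
  | 9, _ => m1c9
  | 10, _ => m1c10
  | 11, _ => m1c11
  | 12, _ => m1c12
  | 13, _ => m1c13
  | 14, _ => m1c14
  | 15, _ => m1c15
  | 16, _ => m1c16
  | 17, _ => m1c17
  | 18, _ => m1c18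
  | 19, _ => m1c19
  | 20, _ => m1c20
  | n + 21, h => absurd h (by omega)

theorem m2c : ∀ i < 28, Nat.beq (ThM.D.evE m1As (getL m2E (.lt 0) i)) (getL m2As 0 i) = true
  | 0, _ => m2c0
  | 1, _ => m2c1
  | 2, _ => m2c2
  | 3, _ => m2c3
  | 4, _ => m2c4
  | 5, _ => m2c5
  | 6, _ => m2c6
  | 7, _ => m2c7
  | 8, _ => m2c8
  | 9, _ => m2c9
  | 10, _ => m2c10
  | 11, _ => m2c11
  | 12, _ => m2c12
  | 13, _ => m2c13
  | 14, _ => m2c14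
  | 15, _ => m2c15
  | 16, _ => m2c16
  | 17, _ => m2c17
  | 18, _ => m2c18
  | 19, _ => m2c19
  | 20, _ => m2c20
  | 21, _ => m2c21
  | 22, _ => m2c22
  | 23, _ => m2c23
  | 24, _ => m2c24
  | 25, _ => m2c25
  | 26, _ => m2c26
  | 27, _ => m2c27
  | n + 28, h => absurd h (by omega)

def W1 : List (List ℕ) := [[0], [1], [2], [3], [4], [5], [6], [7], [8], [19], [19, 2, 0], [2], [3, 2, 3], [2, 3, 2, 3, 4, 3, 2, 3, 4], [2, 3, 2, 3, 6, 4, 3, 2, 3, 4, 5], [7, 5, 4, 3, 2, 3, 4, 5, 4, 3, 2, 3, 4, 8, 6], [2, 3, 2, 3, 6, 4, 3, 2, 3, 5, 4, 3, 2, 3, 6, 4, 3, 2, 3, 5, 4], [6, 6, 4, 3, 2, 3, 6, 4, 3, 2, 3, 4, 5, 4, 5, 5], [4, 5, 5, 4, 3, 2, 3, 4, 6, 4, 3, 2, 3, 4, 6, 4], [1, 0, 2, 1, 3, 2, 1, 0, 3], [2, 1, 3, 4, 3, 2, 3, 2, 1, 0, 4, 3, 2, 3]]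

noncomputable abbrev Y : ℕ → Cfsg.Spor.Th := renG (renG (Dce.gD ThG.ι ThA.y ThG.T 19) W1) (m2E.map Ex.w)

theorem m2 : MAct ThM.D ThG.ρ m2As m2E.length Y :=
  (Ct.mAct ThG.rρ' ThG.main.2.1 (ws := W1) (es := m1E) 3 m1ok (by decide +kernel) m1c).ren 3 m2ok (by decide +kernel) m2c

def eME : List (List ℕ × List ℕ) := eM0.map (fun e => (e.1.w, Ct.ow e.2)) ++ eM1.map (fun e => (e.1.w, Ct.ow e.2)) ++ eM2.map (fun e => (e.1.w, Ct.ow e.2)) ++ eM3.map (fun e => (e.1.w, Ct.ow e.2)) ++ eM4.map (fun e => (e.1.w, Ct.ow e.2)) ++ eM5.map (fun e => (e.1.w, Ct.ow e.2)) ++ eM6.map (fun e => (e.1.w, Ct.ow e.2)) ++ eM7.map (fun e => (e.1.w, Ct.ow e.2)) ++ eM8.map (fun e => (e.1.w, Ct.ow e.2)) ++ eM9.map (fun e => (e.1.w, Ct.ow e.2)) ++ eM10.map (fun e => (e.1.w, Ct.ow e.2)) ++ eM11.map (fun e => (e.1.w, Ct.ow e.2)) ++ eM12.map (fun e => (e.1.w, Ct.ow e.2)) ++ eM13.map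 (fun e => (e.1.w, Ct.ow e.2)) ++ eM14.map (fun e => (e.1.w, Ct.ow e.2))

theorem eM : Ct.Eqs Y eME :=
  (((((((((((((((Ct.eqs_M m2 (by decide +kernel) heM0).append (Ct.eqs_M m2 (by decide +kernel) heM1)).append (Ct.eqs_M m2 (by decide +kernel) heM2)).append (Ct.eqs_M m2 (by decide +kernel) heM3)).append (Ct.eqs_M m2 (by decide +kernel) heM4)).append (Ct.eqs_M m2 (by decide +kernel) heM5)).append (Ct.eqs_M m2 (by decide +kernel) heM6)).append (Ct.eqs_M m2 (by decide +kernel) heM7)).append (Ct.eqs_M m2 (by decide +kernel) heM8)).append (Ct.eqs_M m2 (by decide +kernel) heM9)).append (Ct.eqs_M m2 (by decide +kernel) heM10)).append (Ct.eqs_M m2 (by decide +kernel) heM11)).append (Ct.eqs_M m2 (by decide +kernel) heM12)).append (Ct.eqs_M m2 (by decide +kernel) heM13)).append (Ct.eqs_M m2 (by decide +kernel) heM14))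

def eK : List (List ℕ × List ℕ) := [([0, 0], []),
  ([7, 7, 7], []),
  ([6], [5, 5, 5, 5, 5, 5]),
  ([8], [7, 7]),
  ([11, 0], [0, 11]),
  ([12, 0], [0, 12]),
  ([13, 0], [0, 13]),
  ([14, 0], [0, 14]),
  ([15, 0], [0, 15]),
  ([16, 0], [0, 16]),
  ([17, 0], [0, 17]),
  ([18, 0], [0, 18]),
  ([2, 0], [0, 2]),
  ([3, 0], [0, 3]),
  ([4, 0], [0, 4]),
  ([5, 0], [0, 5]),
  ([6, 0], [0, 6]),
  ([7, 0], [0, 7]),
  ([8, 0], [0, 8]),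
  ([11, 11], []),
  ([12, 12], []),
  ([12, 11], [11, 12, 0]),
  ([13, 13], [0]),
  ([13, 11], [11, 13]),
  ([13, 12], [12, 13]),
  ([14, 14], [0]),
  ([14, 11], [11, 14]),
  ([14, 12], [12, 14]),
  ([14, 13], [13, 14, 0]),
  ([15, 15], [0]),
  ([15, 11], [11, 15]),
  ([15, 12], [12, 15]),
  ([15, 13], [13, 15]),
  ([15, 14], [14, 15]),
  ([16, 16], []),
  ([16, 11], [11, 16]),
  ([16, 12], [12, 16]),
  ([16, 13], [13, 16]),
  ([16, 14], [14, 16]),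
  ([16, 15], [15, 16, 0]),
  ([17, 17], [0]),
  ([17, 11], [11, 17]),
  ([17, 12], [12, 17]),
  ([17, 13], [13, 17]),
  ([17, 14], [14, 17]),
  ([17, 15], [15, 17]),
  ([17, 16], [16, 17]),
  ([18, 18], [0]),
  ([18, 11], [11, 18]),
  ([18, 12], [12, 18]),
  ([18, 13], [13, 18]),
  ([18, 14], [14, 18]),
  ([18, 15], [15, 18]),
  ([18, 16], [16, 18]),
  ([18, 17], [17, 18, 0]),
  ([0, 2], [2, 0]),
  ([11, 2], [2, 11]),
  ([12, 2], [2, 0, 12]),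
  ([13, 2], [2, 13]),
  ([14, 2], [2, 14]),
  ([15, 2], [2, 15]),
  ([16, 2], [2, 16]),
  ([17, 2], [2, 17]),
  ([18, 2], [2, 18]),
  ([0, 3], [3, 0]),
  ([11, 3], [3, 12]),
  ([12, 3], [3, 11]),
  ([13, 3], [3, 0, 13]),
  ([14, 3], [3, 13, 14, 15, 16]),
  ([15, 3], [3, 0, 13, 15, 17]),
  ([16, 3], [3, 0, 13, 16, 17]),
  ([17, 3], [3, 0, 17]),
  ([18, 3], [3, 15, 16, 18]),
  ([0, 4], [4, 0]),
  ([11, 4], [4, 11]),
  ([12, 4], [4, 12, 11, 13]),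
  ([13, 4], [4, 0, 13]),
  ([14, 4], [4, 11, 14, 16]),
  ([15, 4], [4, 13, 15, 17, 18]),
  ([16, 4], [4, 16]),
  ([17, 4], [4, 16, 17]),
  ([18, 4], [4, 0, 16, 18]),
  ([0, 5], [5, 0]),
  ([11, 5], [5, 11]),
  ([12, 5], [5, 12]),
  ([13, 5], [5, 14]),
  ([14, 5], [5, 13, 14, 15, 18, 17]),
  ([15, 5], [5, 14, 15, 17]),
  ([16, 5], [5, 0, 14, 18]),
  ([17, 5], [5, 15]),
  ([18, 5], [5, 16, 15, 18]),
  ([0, 6], [6, 0]),
  ([11, 6], [6, 11]),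
  ([12, 6], [6, 12]),
  ([13, 6], [6, 13, 14, 16, 15]),
  ([14, 6], [6, 13]),
  ([15, 6], [6, 17]),
  ([16, 6], [6, 13, 16, 18, 17]),
  ([17, 6], [6, 13, 15, 17]),
  ([18, 6], [6, 13, 16]),
  ([0, 7], [7, 0]),
  ([11, 7], [7, 11]),
  ([12, 7], [7, 12]),
  ([13, 7], [7, 13]),
  ([14, 7], [7, 13, 14, 15, 18, 17]),
  ([15, 7], [7, 16, 18]),
  ([16, 7], [7, 13, 16, 18, 17]),
  ([17, 7], [7, 16, 15, 17]),
  ([18, 7], [7, 13, 15, 17]),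
  ([0, 8], [8, 0]),
  ([11, 8], [8, 11]),
  ([12, 8], [8, 12]),
  ([13, 8], [8, 13]),
  ([14, 8], [8, 14, 13, 15, 17]),
  ([15, 8], [8, 16, 15, 18]),
  ([16, 8], [8, 13, 18, 17]),
  ([17, 8], [8, 13, 15, 16]),
  ([18, 8], [8, 13, 15, 18, 17])]

def eD : List (List ℕ × List ℕ) := [([2], [11]),
  ([10], [9, 2, 0]),
  ([21], [3, 6, 8, 9, 3, 9, 6]),
  ([22], [3, 5, 5, 9, 3, 9, 5, 7]),
  ([23], [3, 5, 8, 9, 3, 5, 8, 9]),
  ([24], [5, 9, 3, 5, 5, 9, 3, 5]),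
  ([25], [9, 3, 5, 5, 9, 3, 5, 5]),
  ([26], [8, 5, 9, 3, 5, 9, 3, 6, 4]),
  ([27], [8, 5, 9, 3, 9, 6, 4, 3, 9])]

def EE : List (List ℕ × List ℕ) := eK ++ eD ++ eME

theorem eqs : Ct.Eqs Y EE :=
  ((Ct.eqs_K ThA.pa (by decide) (by decide +kernel)).append (Ct.eqs_def (by decide +kernel))).append eM

theorem inj : Function.Injective ThG.ι := ThG.main.2.2.1

noncomputable abbrev t : ThK.G := ev ThA.y tw

theorem zeq : Y 0 = ThG.ι t := Ct.let_K _ (by decide +kernel)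

noncomputable abbrev M : Subgroup Cfsg.Spor.Th := genL Y [0, 11, 12, 13, 14, 15, 16, 17, 18, 2, 3, 4, 5, 6, 7, 8, 9, 10]

theorem hM : M ≤ Subgroup.centralizer {ThG.ι t} := zeq ▸ eqs.comm (by decide +kernel)

theorem rX : PermRep ThA.y JThK.nets 819 9 ThK.φ := Ct.permRep_ren ThK.rep _ _

theorem stab (k : ThK.G) (h : ThK.φ k 0 = 0) : k ∈ genW ThA.y JThK.subs := by
  rw [ThA.y, genW_renG, show JThK.subs.map (renW ThA.renK) = JThK.subs by decide +kernel]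
  exact (ThK.stab k).2 h

theorem hS : ∀ c ∈ genW ThA.y JThK.subs, c * t = t * c := Ct.comm_of_keys ThA.pa (by decide) (by decide +kernel)

theorem hC (k : ThK.G) (h : ThK.φ k 0 = 0) : k * t = t * k := hS k (stab k h)

theorem topX : genW ThA.y (sing (List.range 9)) = ⊤ := (genW_sing _ _).trans rX.top

theorem h0K : ∀ k ∈ (⊤ : Subgroup ThK.G), k * t = t * k → k ∈ genW ThA.y JThK.subs :=
  topX ▸ Ct.cent_step rX hS (A := ivl 0 819) (fun k _ h => stab k h) (fun _ h _ => h) le_rfl (le_top.trans topX.ge)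
    (Ct.hZ_mv rX (L := 10) (by decide) (by decide +kernel)) (reps := [(6, [1, 2, 0, 1])]) (prog := [2, 1, 3, 4, 2, 3, 2]) (by decide +kernel)
    (List.forall_mem_singleton.2 ⟨topX.ge trivial, Ct.nc_of_comm hS (Ct.ncomm_of_keys ThA.pa (by decide) (by decide +kernel))⟩)

theorem h0 : ∀ c, c * t = t * c → ThG.ι c ∈ M := eqs.h0 h0K JThK.subs (by decide +kernel)

theorem nc : ∀ a ∈ (⊤ : Subgroup ThK.G), a⁻¹ * t * a ≠ ev ThA.y [3] :=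
  Ct.nc_top rX (L := 10) (by decide) (by decide +kernel) (by decide +kernel)

instance fp : Fact ThM.D.p.Prime := ⟨Nat.prime_three⟩

theorem hP (k : ThK.G) : (ThG.ρ (ThG.ι k)).val * ThM.D.bM ThM.E = ThM.D.bM ThM.E * ((ThG.ρ (ThG.ι k)).val * ThM.D.bM ThM.E) :=
  Ct.tri_of_comm (ThG.cE k _ List.mem_cons_self) (ThG.rρ.idem (mc := 3) (by decide +kernel))

theorem G1 : ∀ r, Ct.Good ThG.ι (ev (Dce.gD ThG.ι ThA.y ThG.T 19) (Dce.pw ThD.tab.at (getL ThD.nm 0 1))) t M r :=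
  Ct.good_of_X rX hC F1 cv1 (List.forall_mem_append.2 ⟨(fun _ hr => Ct.good_of_not_mem (Ct.not_mem_Fd ThG.rρ' hP o1_0 _ (List.mem_map_of_mem hr))),
    (List.forall_mem_cons.2 ⟨eqs.g4 inj rfl h0 hM [] [9] (by decide +kernel),
      List.forall_mem_cons.2 ⟨eqs.g3 inj nc [2, 1, 0, 3, 4, 3, 2, 1, 3, 4] [2, 1, 0, 3, 4, 3, 2, 1, 3, 4, 9, 3, 1, 2, 0, 1, 0] [3, 2, 1, 0, 3, 4, 3, 2, 1, 3, 4, 9, 3, 1, 2, 0, 1] (by decide +kernel),
      fun _ h => nomatch h⟩⟩)⟩)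

theorem G2 : ∀ r, Ct.Good ThG.ι (ev (Dce.gD ThG.ι ThA.y ThG.T 19) (Dce.pw ThD.tab.at (getL ThD.nm 0 2))) t M r :=
  Ct.good_of_X rX hC F2 cv2 (List.forall_mem_append.2 ⟨(fun _ hr => Ct.good_of_not_mem (Ct.not_mem_Fd ThG.rρ' hP o2_0 _ (List.mem_map_of_mem hr))),
    (List.forall_mem_cons.2 ⟨eqs.g3 inj nc [2, 3, 2, 1, 4, 3, 2] [2, 3, 2, 1, 4, 3, 2, 9, 1, 9, 0, 1, 0] [3, 2, 3, 2, 1, 4, 3, 2, 9, 1, 9, 0, 1] (by decide +kernel),
      List.forall_mem_cons.2 ⟨eqs.g4 inj rfl h0 hM [1, 0, 2, 1, 3, 2, 1, 0, 3] [19, 9, 1, 9, 3, 0, 1, 2, 3, 1, 2, 0, 1] (by decide +kernel),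
      fun _ h => nomatch h⟩⟩)⟩)

theorem G3 : ∀ r, Ct.Good ThG.ι (ev (Dce.gD ThG.ι ThA.y ThG.T 19) (Dce.pw ThD.tab.at (getL ThD.nm 0 3))) t M r :=
  Ct.good_of_X rX hC F3 cv3 (List.forall_mem_append.2 ⟨(fun _ hr => Ct.good_of_not_mem (Ct.not_mem_Fd ThG.rρ' hP o3_0 _ (List.mem_map_of_mem hr))),
    (fun _ h => nomatch h)⟩)

theorem G4 : ∀ r, Ct.Good ThG.ι (ev (Dce.gD ThG.ι ThA.y ThG.T 19) (Dce.pw ThD.tab.at (getL ThD.nm 0 4))) t M r :=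
  Ct.good_of_X rX hC F4 cv4 (List.forall_mem_append.2 ⟨(fun _ hr => Ct.good_of_not_mem (Ct.not_mem_Fd ThG.rρ' hP o4_0 _ (List.mem_map_of_mem hr))),
    (List.forall_mem_cons.2 ⟨eqs.g3 inj nc [2, 1, 3, 4, 3, 2, 3, 2, 1, 0, 4, 3, 2, 3] [20, 9, 5, 1, 9, 3, 2, 3, 1, 2, 0, 1, 0] [3, 20, 9, 5, 1, 9, 3, 2, 3, 1, 2, 0, 1] (by decide +kernel),
      fun _ h => nomatch h⟩)⟩)

theorem G5 : ∀ r, Ct.Good ThG.ι (ev (Dce.gD ThG.ι ThA.y ThG.T 19) (Dce.pw ThD.tab.at (getL ThD.nm 0 5))) t M r :=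
  Ct.good_of_X rX hC F5 cv5 (List.forall_mem_append.2 ⟨(List.forall_mem_append.2 ⟨(List.forall_mem_append.2 ⟨(List.forall_mem_append.2 ⟨(fun _ hr => Ct.good_of_not_mem (Ct.not_mem_Fd ThG.rρ' hP o5_0 _ (List.mem_map_of_mem hr))),
    (fun _ hr => Ct.good_of_not_mem (Ct.not_mem_Fd ThG.rρ' hP o5_1 _ (List.mem_map_of_mem hr)))⟩),
    (fun _ hr => Ct.good_of_not_mem (Ct.not_mem_Fd ThG.rρ' hP o5_2 _ (List.mem_map_of_mem hr)))⟩),
    (fun _ hr => Ct.good_of_not_mem (Ct.not_mem_Fd ThG.rρ' hP o5_3 _ (List.mem_map_of_mem hr)))⟩),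
    (fun _ h => nomatch h)⟩)

theorem G6 : ∀ r, Ct.Good ThG.ι (ev (Dce.gD ThG.ι ThA.y ThG.T 19) (Dce.pw ThD.tab.at (getL ThD.nm 0 6))) t M r :=
  Ct.good_of_X rX hC F6 cv6 (List.forall_mem_append.2 ⟨(fun _ hr => Ct.good_of_not_mem (Ct.not_mem_Fd ThG.rρ' hP o6_0 _ (List.mem_map_of_mem hr))),
    (fun _ h => nomatch h)⟩)

theorem G7 : ∀ r, Ct.Good ThG.ι (ev (Dce.gD ThG.ι ThA.y ThG.T 19) (Dce.pw ThD.tab.at (getL ThD.nm 0 7))) t M r :=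
  Ct.good_of_X rX hC F7 cv7 (List.forall_mem_append.2 ⟨(fun _ hr => Ct.good_of_not_mem (Ct.not_mem_Fd ThG.rρ' hP o7_0 _ (List.mem_map_of_mem hr))),
    (fun _ h => nomatch h)⟩)

theorem G8 : ∀ r, Ct.Good ThG.ι (ev (Dce.gD ThG.ι ThA.y ThG.T 19) (Dce.pw ThD.tab.at (getL ThD.nm 0 8))) t M r :=
  Ct.good_of_X rX hC F8 cv8 (List.forall_mem_append.2 ⟨(fun _ hr => Ct.good_of_not_mem (Ct.not_mem_Fd ThG.rρ' hP o8_0 _ (List.mem_map_of_mem hr))),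
    (fun _ h => nomatch h)⟩)

theorem G9 : ∀ r, Ct.Good ThG.ι (ev (Dce.gD ThG.ι ThA.y ThG.T 19) (Dce.pw ThD.tab.at (getL ThD.nm 0 9))) t M r :=
  Ct.good_of_X rX hC F9 cv9 (List.forall_mem_append.2 ⟨(fun _ hr => Ct.good_of_not_mem (Ct.not_mem_Fd ThG.rρ' hP o9_0 _ (List.mem_map_of_mem hr))),
    (fun _ h => nomatch h)⟩)

theorem G10 : ∀ r, Ct.Good ThG.ι (ev (Dce.gD ThG.ι ThA.y ThG.T 19) (Dce.pw ThD.tab.at (getL ThD.nm 0 10))) t M r :=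
  Ct.good_of_X rX hC F10 cv10 (List.forall_mem_append.2 ⟨(fun _ hr => Ct.good_of_not_mem (Ct.not_mem_Fd ThG.rρ' hP o10_0 _ (List.mem_map_of_mem hr))),
    (fun _ h => nomatch h)⟩)

open ThG in
theorem orbs : Dce.Orbs ι (fun i => ev (Dce.gD ι ThA.y T 19) (Dce.pw ThD.tab.at (getL ThD.nm 0 i)) • basePt ι.range)
    ThD.sz.length ThD.sz :=
  (cert.main' (n := 143127000) gen (by decide) ρ (invT ZMod.val _ _ ts) (fun k a k' => invT_mul _ _ (cE k) (cE k') a)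
    (rρ'.sep' (mc := 3) (by decide +kernel) ts (fun i => Dce.pw ThD.tab.at (getL ThD.nm 0 i)) (vals := vals)
      (by decide +kernel) (fun i (hi : i < 11) => by interval_cases i; exacts [v0, v1, v2, v3, v4, v5, v6, v7, v8, v9, v10]) (by decide))
    (by decide +kernel) rfl (fun k hk => injψ (hk.trans ψ.map_one.symm)) (by decide) (by decide) ThK.card
    (by decide +kernel)).1

theorem cent : Subgroup.centralizer {Y 0} = M := by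
  rw [zeq]
  refine le_antisymm (Ct.cent_le orbs fun i (hi : i < 11) => ?_) hM
  interval_cases i
  exacts [by rw [show getL ThD.nm 0 0 = 0 from rfl, Dce.pw_zero]; exact Ct.good_one inj h0, G1, G2, G3, G4, G5, G6, G7, G8, G9, G10]

instance finG : Finite Cfsg.Spor.Th := Nat.finite_of_card_ne_zero (by rw [ThG.main.2.2.2.2.1]; decide)

theorem z1 : Y 0 ≠ 1 := Ct.let_ne ThA.pa (by decide) inj (by decide +kernel)

theorem ord : orderOf (Y 0) = 2 := orderOf_eq_prime (eqs.pow 0 2 (by decide +kernel)) z1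

theorem struct : ∃ (Q : Subgroup (Subgroup.centralizer ({Y 0} : Set Cfsg.Spor.Th))) (_ : Q.Normal), Nat.card Q = 2 ^ 9 ∧
    Cfsg.IsExtraspecial 2 Q ∧ Nonempty ((Subgroup.centralizer ({Y 0} : Set Cfsg.Spor.Th)) ⧸ Q ≃* alternatingGroup (Fin 9)) := by
  have hc : genL Y [0, 11, 12, 13, 14, 15, 16, 17, 18, 2, 3, 4, 5, 6, 7, 8, 9, 10, 21, 22, 23, 24, 25, 26, 27] ≤ Subgroup.centralizer {Y 0} := (eqs.le (by decide +kernel)).trans cent.ge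
  have e := eqs.sub hc
  have t1 := top_unique ((Ct.subG_top cent).ge.trans (e.le (xs := [0, 11, 12, 13, 14, 15, 16, 17, 18, 2, 3, 4, 5, 6, 7, 8, 9]) (by decide +kernel)))
  have t2 := top_unique (t1.ge.trans ((e.le (xs := [0, 11, 12, 13, 14, 15, 16, 17, 18, 3, 4, 5, 7, 9]) (by decide +kernel)).trans
    (e.le (xs := [0, 11, 12, 13, 14, 15, 16, 17, 18] ++ [21, 22, 23, 24, 25, 26, 27]) (by decide +kernel))))
  have hn := e.normal (qs := [0, 11, 12, 13, 14, 15, 16, 17, 18]) t1 (by decide +kernel)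
  have es := (e.sub (xs := [0, 11, 12, 13, 14, 15, 16, 17, 18]) le_rfl).es (m := 3) (Ct.subG_top rfl) rfl (by decide +kernel)
    (Ct.subG_ne (mem_genL _ (by decide)) (Ct.subG_ne (hc (mem_genL _ (by decide))) z1))
  exact ⟨_, hn, es.2, es.1, e.quot_alt _ (by decide) le_rfl t2 (by decide +kernel) (Ct.ne_top_of_card es.2
    (e.pow 7 3 (by decide +kernel)) (Ct.subG_ne (hc (mem_genL _ (by decide)))
      (Ct.let_ne ThA.pa (by decide) inj (by decide +kernel))) (by decide))⟩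

end Cfsg.Agent.Spor.ThC
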