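import Cfsg.Agent.Spor.Dce5
import Cfsg.Agent.Spor.J.ThK
import Cfsg.Agent.Spor.J.Th96
import Cfsg.Agent.Spor.J.Th126
import Cfsg.Agent.Spor.J.Th17472
import Cfsg.Agent.Spor.J.Th3

/-! 3D4(2):3 on 819 points, for the Thompson group (generated certificate, helper23). -/

set_option Elab.async false
set_option maxRecDepth 100000
set_option exponentiation.threshold 100000

namespace Cfsg.Agent.Spor.ThK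

open Equiv

/-- The model. -/
noncomputable abbrev G : Type := MG JThK.nets 9

/-- The letters. -/
noncomputable abbrev g : ℕ → G := mg JThK.nets 9

theorem he : g 255 = 1 := mg_255 _ (by decide)

/-- The permutation representation of degree 819. -/
noncomputable abbrev φ : G →* Perm ℕ := (MG JThK.nets 9).subtype

theorem rep : PermRep g JThK.nets 819 9 φ := mrep JThK.ok _

theorem inj : Function.Injective φ := Subtype.val_injective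

theorem hg : ∀ r ∈ JThK.rels, ev g r = 1 := rep.ev_eq_one inj (by decide +kernel) JThK.hP

/-- The point stabiliser. -/
noncomputable abbrev H : Subgroup G := genW g JThK.subs

theorem stab : IsStab φ H 0 :=
  rep.isStab (by decide +kernel) (by decide +kernel) (JThK.mem he hg rep.hφ)

theorem mapH : H.map φ = genW (PP JThK.nets) JThK.subs := rep.map_genW (by decide +kernel)


theorem trans : Trans φ 819 0 :=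
  rep.trans (by decide) ((orbSub_base _ _).run JThK.ok (prog := [1, 0, 2, 3, 1, 2, 4, 1, 5, 3, 4, 7, 0, 2, 3, 1, 5, 7, 4, 0, 5, 3]) (by decide +kernel))

theorem up (G : Type) [Group G] (g : ℕ → G) (_ : g 255 = 1) (hg : ∀ r ∈ JThK.rels, ev g r = 1) :
    CardLe (genW g (sing (List.range 9))) 634023936 :=
  have u0 : CardLe (genW g [[0], [2], [3], [4]]) 96 :=
    (cardLe_genW_nil g).job (JTh96.relIndex_le (renG_255 g (by decide)) (renG_rels (rels_of_sub hg (by decide +kernel))))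
      (by decide +kernel) rfl (by decide)
  have u1 : CardLe (genW g [[0], [1], [2], [3], [4]]) 12096 :=
    (u0).job (JTh126.relIndex_le (renG_255 g (by decide)) (renG_rels (rels_of_sub hg (by decide +kernel))))
      (by decide +kernel) rfl (by decide)
  have u2 : CardLe (genW g [[0], [1], [2], [3], [4], [5], [6]]) 211341312 :=
    (u1).job (JTh17472.relIndex_le (renG_255 g (by decide)) (renG_rels (rels_of_sub hg (by decide +kernel))))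
      (by decide +kernel) rfl (by decide)
  have u3 : CardLe (genW g [[0], [1], [2], [3], [4], [5], [6], [7], [8]]) 634023936 :=
    (u2).job (JTh3.relIndex_le (renG_255 g (by decide)) (renG_rels (rels_of_sub hg (by decide +kernel))))
      (by decide +kernel) rfl (by decide)
  u3

theorem lo3 : BaseGe (genW (PP JThK.nets) [[2, 3, 2, 4, 3, 2, 6, 4, 3, 2, 7, 5, 4, 3, 4, 3, 4, 5, 2, 3, 4, 6, 2, 3, 4, 2, 3, 2, 0, 2, 3, 2, 4, 3, 2, 6, 4, 3, 2, 3, 5, 4, 3, 6, 8, 5, 3, 4, 6, 3, 2, 3, 4, 5, 2, 3, 4, 2, 3, 2, 2, 3, 2, 4, 3, 2, 6, 4, 3, 2, 7, 5, 4, 3, 4, 3, 4, 5, 2, 3, 4, 6, 2, 3, 4, 2, 3, 2, 0, 2, 3, 2, 4, 3, 2, 6, 4, 3, 2, 3, 5, 4, 3, 6, 8, 5, 3, 4, 6, 3, 2, 3, 4, 5, 2, 3, 4, 2, 3, 2, 2, 3, 2, 4, 3, 2, 6, 4, 3, 2, 7, 5, 4, 3, 4, 3, 4, 5, 2, 3, 4, 6, 2, 3, 4, 2,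 3, 2, 0, 2, 3, 2, 4, 3, 2, 6, 4, 3, 2, 7, 5, 4, 3, 4, 3, 4, 5, 2, 3, 4, 6, 2, 3, 4, 2, 3, 2, 0, 2, 3, 2, 4, 3, 2, 6, 4, 3, 2, 3, 5, 4, 3, 6, 8, 5, 3, 4, 6, 3, 2, 3, 4, 5, 2, 3, 4, 2, 3, 2, 2, 3, 2, 4, 3, 2, 6, 4, 3, 2, 7, 5, 4, 3, 4, 3, 4, 5, 2, 3, 4, 6, 2, 3, 4, 2, 3, 2, 0, 2, 3, 2, 4, 3, 2, 6, 4, 3, 2, 3, 5, 4, 3, 6, 8, 5, 3, 4, 6, 3, 2, 3, 4, 5, 2, 3, 4, 2, 3, 2, 2, 3, 2, 4, 3, 2, 6, 4, 3, 2, 3, 5, 4, 3, 6, 8, 5, 3, 4, 6, 3, 2, 3, 4, 5, 2, 3, 4, 2, 3, 2, 2, 3, 2, 4, 3, 2, 6, 4, 3, 2, 7, 5, 4, 3, 4, 3, 4, 5, 2, 3, 4, 6, 2, 3, 4, 2, 3, 2, 0, 2, 3, 2, 4, 3, 2, 6, 4, 3, 2, 3, 5, 4, 3, 6, 8, 5, 3, 4, 6, 3, 2, 3, 4, 5, 2, 3, 4, 2, 3, 2, 2, 3, 2, 4, 3, 2, 6, 4, 3, 2, 3, 5, 4, 3, 6, 8, 5, 3, 4, 6, 3, 2, 3, 4, 5, 2, 3, 4, 2, 3, 2, 2, 3, 2, 4, 3, 2, 6, 4, 3, 2,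 7, 5, 4, 3, 4, 3, 4, 5, 2, 3, 4, 6, 2, 3, 4, 2, 3, 2, 0, 2, 3, 2, 4, 3, 2, 6, 4, 3, 2, 7, 5, 4, 3, 4, 3, 4, 5, 2, 3, 4, 6, 2, 3, 4, 2, 3, 2, 0, 2, 3, 2, 4, 3, 2, 6, 4, 3, 2, 3, 5, 4, 3, 6, 8, 5, 3, 4, 6, 3, 2, 3, 4, 5, 2, 3, 4, 2, 3, 2, 2, 3, 2, 4, 3, 2, 6, 4, 3, 2, 3, 5, 4, 3, 6, 8, 5, 3, 4, 6, 3, 2, 3, 4, 5, 2, 3, 4, 2, 3, 2], [2, 3, 2, 4, 3, 2, 6, 4, 3, 2, 3, 5, 4, 3, 6, 8, 5, 3, 4, 6, 3, 2, 3, 4, 5, 2, 3, 4, 2, 3, 2, 2, 3, 2, 4, 3, 2, 6, 4, 3, 2, 7, 5, 4, 3, 4, 3, 4, 5, 2, 3, 4, 6, 2, 3, 4, 2, 3, 2, 0, 2, 3, 2, 4, 3, 2, 6, 4, 3, 2, 3, 5, 4, 3, 6, 8, 5, 3, 4, 6, 3, 2, 3, 4, 5, 2, 3, 4, 2, 3, 2, 2, 3, 2, 4, 3, 2, 6, 4, 3, 2, 3, 5, 4, 3, 6, 8, 5, 3, 4, 6, 3, 2, 3, 4, 5, 2, 3, 4, 2, 3, 2, 2, 3, 2, 4, 3, 2, 6, 4, 3, 2, 7, 5, 4, 3, 4, 3, 4, 5, 2, 3, 4, 6, 2,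 3, 4, 2, 3, 2, 0, 2, 3, 2, 4, 3, 2, 6, 4, 3, 2, 3, 5, 4, 3, 6, 8, 5, 3, 4, 6, 3, 2, 3, 4, 5, 2, 3, 4, 2, 3, 2, 2, 3, 2, 4, 3, 2, 6, 4, 3, 2, 7, 5, 4, 3, 4, 3, 4, 5, 2, 3, 4, 6, 2, 3, 4, 2, 3, 2, 0, 2, 3, 2, 4, 3, 2, 6, 4, 3, 2, 3, 5, 4, 3, 6, 8, 5, 3, 4, 6, 3, 2, 3, 4, 5, 2, 3, 4, 2, 3, 2, 2, 3, 2, 4, 3, 2, 6, 4, 3, 2, 7, 5, 4, 3, 4, 3, 4, 5, 2, 3, 4, 6, 2, 3, 4, 2, 3, 2, 0, 2, 3, 2, 4, 3, 2, 6, 4, 3, 2, 3, 5, 4, 3, 6, 8, 5, 3, 4, 6, 3, 2, 3, 4, 5, 2, 3, 4, 2, 3, 2, 2, 3, 2, 4, 3, 2, 6, 4, 3, 2, 7, 5, 4, 3, 4, 3, 4, 5, 2, 3, 4, 6, 2, 3, 4, 2, 3, 2, 0, 2, 3, 2, 4, 3, 2, 6, 4, 3, 2, 7, 5, 4, 3, 4, 3, 4, 5, 2, 3, 4, 6, 2, 3, 4, 2, 3, 2, 0, 2, 3, 2, 4, 3, 2, 6, 4, 3, 2, 3, 5, 4, 3, 6, 8, 5, 3, 4, 6, 3, 2, 3, 4, 5, 2, 3, 4, 2, 3, 2, 2, 3, 2, 4, 3, 2, 6, 4, 3,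 2, 7, 5, 4, 3, 4, 3, 4, 5, 2, 3, 4, 6, 2, 3, 4, 2, 3, 2, 0, 2, 3, 2, 4, 3, 2, 6, 4, 3, 2, 7, 5, 4, 3, 4, 3, 4, 5, 2, 3, 4, 6, 2, 3, 4, 2, 3, 2, 0, 2, 3, 2, 4, 3, 2, 6, 4, 3, 2, 3, 5, 4, 3, 6, 8, 5, 3, 4, 6, 3, 2, 3, 4, 5, 2, 3, 4, 2, 3, 2]]) 9 [26] :=
  BaseGe.stepW (L := 10) (n := 9) JThK.ok (genW_nil_base _) [] [0, 1, 0, 1] (by decide +kernel)

theorem lo2 : BaseGe (genW (PP JThK.nets) [[2, 3, 2, 4, 3, 2, 6, 4, 3, 2, 7, 5, 4, 3, 4, 3, 4, 5, 2, 3, 4, 6, 2, 3, 4, 2, 3, 2, 0], [2, 3, 2, 4, 3, 2, 6, 4, 3, 2, 3, 5, 4, 3, 6, 8, 5, 3, 4, 6, 3, 2, 3, 4, 5, 2, 3, 4, 2, 3, 2]]) 1512 [50, 26] :=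
  BaseGe.stepW (L := 10) (n := 168) JThK.ok lo3 [[0, 1, 0, 1, 0, 0, 1, 0, 1, 1, 0, 1, 1, 0, 0, 1, 1], [1, 0, 1, 1, 0, 1, 0, 1, 0, 1, 0, 0, 1, 0, 0, 1]] [0, 1, 0, 1, 0, 1, 0, 1, 0, 1, 0, 1, 0, 0, 1] (by decide +kernel)

theorem lo1 : BaseGe (genW (PP JThK.nets) [[0], [2], [3], [4], [5], [6], [7], [8]]) 774144 [1, 50, 26] :=
  BaseGe.stepW (L := 10) (n := 512) JThK.ok lo2 [[1, 2, 1, 3, 2, 1, 5, 3, 2, 1, 6, 4, 3, 2, 3, 2, 3, 4, 1, 2, 3, 5, 1, 2, 3, 1, 2, 1, 0], [1, 2, 1, 3, 2, 1, 5, 3, 2, 1, 2, 4, 3, 2, 5, 7, 4, 2, 3, 5, 2, 1, 2, 3, 4, 1, 2, 3, 1, 2, 1]] [0, 1, 2, 1, 3, 4, 2, 3, 6, 1, 2, 4, 3, 4, 1, 2, 3, 6, 4, 2, 1, 2, 1] (by decide +kernel)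

theorem lo0 : BaseGe (genW (PP JThK.nets) (sing (List.range 9))) 634023936 [0, 1, 50, 26] :=
  BaseGe.stepW (L := 10) (n := 819) JThK.ok lo1 [[0], [2], [3], [4], [5], [6], [7], [8]] [1, 0, 2, 3, 1, 2, 4, 1, 5, 3, 4, 7, 0, 2, 3, 1, 5, 7, 4, 0, 5, 3] (by decide +kernel)

theorem lo : BaseGe (genL (PP JThK.nets) (List.range 9)) 634023936 [0, 1, 50, 26] := by rw [← genW_sing]; exact lo0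

theorem card : Nat.card G = 634023936 := (rep.card_eq (up _ g he hg) lo.cardGe).1

theorem base : ∀ c : G, (∀ b ∈ [0, 1, 50, 26], φ c b = b) → c = 1 := rep.base inj card (by decide) lo

theorem lifts : Known.Lifts g 9 JThK.rels :=
  Known.lifts_of_cardLe rep.top hg (by decide +kernel) (by decide) card fun H _ h he hg => genW_sing h _ ▸ up H h he hg

def iv : List ℕ := [0, 1, 2, 3, 4, 6, 5, 8, 7]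

theorem invOk : InvOk g 9 iv := invOk_of_rels hg (by decide +kernel)

end Cfsg.Agent.Spor.ThK
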