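import Cfsg.Agent.Spor.Dce5
import Cfsg.Agent.Spor.J.ThL
import Cfsg.Agent.Spor.J.Th96
import Cfsg.Agent.Spor.J.Th126
import Cfsg.Agent.Spor.J.Th17472

/-! 3D4(2) on 819 points, for the Thompson group (generated certificate, helper23). -/

set_option Elab.async false
set_option maxRecDepth 100000
set_option exponentiation.threshold 100000

namespace Cfsg.Agent.Spor.ThL

open Equiv

/-- The model. -/
noncomputable abbrev G : Type := MG JThL.nets 7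

/-- The letters. -/
noncomputable abbrev g : ℕ → G := mg JThL.nets 7

theorem he : g 255 = 1 := mg_255 _ (by decide)

/-- The permutation representation of degree 819. -/
noncomputable abbrev φ : G →* Perm ℕ := (MG JThL.nets 7).subtype

theorem rep : PermRep g JThL.nets 819 7 φ := mrep JThL.ok _

theorem inj : Function.Injective φ := Subtype.val_injective

theorem hg : ∀ r ∈ JThL.rels, ev g r = 1 := rep.ev_eq_one inj (by decide +kernel) JThL.hP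

/-- The point stabiliser. -/
noncomputable abbrev H : Subgroup G := genW g JThL.subs

theorem stab : IsStab φ H 0 :=
  rep.isStab (by decide +kernel) (by decide +kernel) (JThL.mem he hg rep.hφ)

theorem mapH : H.map φ = genW (PP JThL.nets) JThL.subs := rep.map_genW (by decide +kernel)


theorem trans : Trans φ 819 0 :=
  rep.trans (by decide) ((orbSub_base _ _).run JThL.ok (prog := [1, 0, 2, 3, 1, 2, 4, 1, 5, 3, 4, 0, 5, 3, 2, 1, 3, 4, 0, 5, 5, 2, 1]) (by decide +kernel))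

theorem up (G : Type) [Group G] (g : ℕ → G) (_ : g 255 = 1) (hg : ∀ r ∈ JThL.rels, ev g r = 1) :
    CardLe (genW g (sing (List.range 7))) 211341312 :=
  have u0 : CardLe (genW g [[0], [2], [3], [4]]) 96 :=
    (cardLe_genW_nil g).job (JTh96.relIndex_le (renG_255 g (by decide)) (renG_rels (rels_of_sub hg (by decide +kernel))))
      (by decide +kernel) rfl (by decide)
  have u1 : CardLe (genW g [[0], [1], [2], [3], [4]]) 12096 :=
    (u0).job (JTh126.relIndex_le (renG_255 g (by decide)) (renG_rels (rels_of_sub hg (by decide +kernel))))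
      (by decide +kernel) rfl (by decide)
  have u2 : CardLe (genW g [[0], [1], [2], [3], [4], [5], [6]]) 211341312 :=
    (u1).job (JTh17472.relIndex_le (renG_255 g (by decide)) (renG_rels (rels_of_sub hg (by decide +kernel))))
      (by decide +kernel) rfl (by decide)
  u2

theorem lo3 : BaseGe (genW (PP JThL.nets) [[0, 2, 3, 2, 4, 3, 2, 5, 5, 4, 6, 6, 2, 3, 4, 5, 4, 5, 3, 4, 2, 3, 2, 0, 2, 3, 2, 4, 3, 2, 6, 4, 3, 5, 4, 3, 2, 5, 5, 4, 5, 2, 3, 4, 5, 5, 2, 3, 4, 2, 3, 2, 2, 3, 2, 4, 3, 2, 6, 4, 3, 5, 4, 3, 2, 5, 5, 4, 5, 2, 3, 4, 5, 5, 2, 3, 4, 2, 3, 2, 0, 2, 3, 2, 4, 3, 2, 5, 5, 4, 6, 6, 2, 3, 4, 5, 4, 5, 3, 4, 2, 3, 2, 0, 2, 3, 2, 4, 3, 2, 6, 4, 3, 5, 4, 3, 2, 5, 5, 4, 5, 2, 3, 4, 5, 5, 2, 3, 4, 2, 3, 2, 0, 2, 3, 2, 4, 3, 2, 5, 5, 4, 6, 6, 2, 3, 4, 5, 4, 5, 3, 4, 2, 3, 2, 0, 2, 3, 2, 4, 3, 2, 6, 4, 3, 5, 4, 3, 2, 5, 5, 4, 5, 2, 3, 4, 5, 5, 2, 3, 4, 2, 3, 2,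 2, 3, 2, 4, 3, 2, 6, 4, 3, 5, 4, 3, 2, 5, 5, 4, 5, 2, 3, 4, 5, 5, 2, 3, 4, 2, 3, 2, 0, 2, 3, 2, 4, 3, 2, 5, 5, 4, 6, 6, 2, 3, 4, 5, 4, 5, 3, 4, 2, 3, 2, 0]]) 3 [3] :=
  BaseGe.stepW (L := 10) (n := 3) JThL.ok (genW_nil_base _) [] [0, 0] (by decide +kernel)

theorem lo2 : BaseGe (genW (PP JThL.nets) [[2, 3, 2, 4, 3, 2, 6, 4, 3, 5, 4, 3, 2, 5, 5, 4, 5, 2, 3, 4, 5, 5, 2, 3, 4, 2, 3, 2], [0, 2, 3, 2, 4, 3, 2, 5, 5, 4, 6, 6, 2, 3, 4, 5, 4, 5, 3, 4, 2, 3, 2, 0]]) 504 [48, 3] :=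
  BaseGe.stepW (L := 10) (n := 168) JThL.ok lo3 [[1, 0, 0, 1, 0, 1, 0, 0, 1]] [1, 0, 1, 0, 1, 0, 1, 0, 1, 0, 1, 0, 1, 1, 0] (by decide +kernel)

theorem lo1 : BaseGe (genW (PP JThL.nets) [[0], [2], [3], [4], [5], [6]]) 258048 [1, 48, 3] :=
  BaseGe.stepW (L := 10) (n := 512) JThL.ok lo2 [[1, 2, 1, 3, 2, 1, 5, 3, 2, 4, 3, 2, 1, 4, 4, 3, 4, 1, 2, 3, 4, 4, 1, 2, 3, 1, 2, 1], [0, 1, 2, 1, 3, 2, 1, 4, 4, 3, 5, 5, 1, 2, 3, 4, 3, 4, 2, 3, 1, 2, 1, 0]] [0, 1, 2, 1, 3, 4, 2, 3, 1, 2, 4, 3, 4, 2, 1, 3, 2, 4, 3, 1, 2, 4, 1] (by decide +kernel)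

theorem lo0 : BaseGe (genW (PP JThL.nets) (sing (List.range 7))) 211341312 [0, 1, 48, 3] :=
  BaseGe.stepW (L := 10) (n := 819) JThL.ok lo1 [[0], [2], [3], [4], [5], [6]] [1, 0, 2, 3, 1, 2, 4, 1, 5, 3, 4, 0, 5, 3, 2, 1, 3, 4, 0, 5, 5, 2, 1] (by decide +kernel)

theorem lo : BaseGe (genL (PP JThL.nets) (List.range 7)) 211341312 [0, 1, 48, 3] := by rw [← genW_sing]; exact lo0

theorem card : Nat.card G = 211341312 := (rep.card_eq (up _ g he hg) lo.cardGe).1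

theorem base : ∀ c : G, (∀ b ∈ [0, 1, 48, 3], φ c b = b) → c = 1 := rep.base inj card (by decide) lo

theorem lifts : Known.Lifts g 7 JThL.rels :=
  Known.lifts_of_cardLe rep.top hg (by decide +kernel) (by decide) card fun H _ h he hg => genW_sing h _ ▸ up H h he hg

def iv : List ℕ := [0, 1, 2, 3, 4, 6, 5]

theorem invOk : InvOk g 7 iv := invOk_of_rels hg (by decide +kernel)

end Cfsg.Agent.Spor.ThL
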