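import Cfsg.Agent.Spor.Dce7

/-! The 248-dimensional representation of the Thompson group over F3 (generated certificate, helper23). -/

set_option Elab.async false
set_option maxRecDepth 100000
set_option exponentiation.threshold 100000

namespace Cfsg.Agent.Spor.ThM

open Equiv

def D : BP := ⟨10, 3, 248, [⟨15, 1, 1, 4, 1023⟩, ⟨15, 1, 1, 4, 1023⟩, ⟨1023, 1, 11, 5, 3⟩]⟩

theorem okD : D.ok = true := by decide +kernel

end Cfsg.Agent.Spor.ThM
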